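import Cfsg.Agent.Lib.WordCert.Cert

/-! A word certificate at the prime 2 (found by an unshipped search). -/

set_option autoImplicit false
set_option maxRecDepth 20000

namespace Cfsg.Agent.Co3Mult

noncomputable section

/-- Steps. -/
def st2_0 : List (ℕ × ℕ) :=
  [(0, 1), (7, 8), (6, 6), (5, 5), (4, 4), (3, 3), (2, 2), (1, 1), (0, 0), (6, 25), (5, 23), (4, 22), (3, 21), (2, 20),
    (1, 19), (4, 33), (3, 32), (2, 31), (1, 29), (19, 33), (18, 32), (17, 31), (16, 29), (15, 32), (14, 31), (13, 30),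
    (12, 33), (11, 29), (10, 33), (9, 28), (8, 33), (7, 32), (6, 29), (5, 33), (4, 32), (3, 31), (2, 29), (1, 27), (8,
    39), (7, 38), (6, 35), (5, 39), (4, 38), (3, 37), (2, 35), (1, 37), (21, 37), (20, 39), (19, 38), (18, 37), (17,
    35), (16, 38), (15, 37), (14, 37), (13, 36), (12, 39), (11, 35), (10, 39), (9, 39), (8, 38), (7, 35), (6, 39), (5,
    38), (4, 37), (3, 35), (2, 37), (1, 34), (2, 42), (1, 43), (6, 44), (5, 43), (4, 42), (3, 42), (2, 43), (1, 40),
    (9, 44), (8, 44), (7, 43), (6, 44), (5, 43), (4, 42), (3, 42), (2, 43), (1, 44), (16, 43), (15, 42), (14, 42),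
    (13, 43), (12, 41), (11, 44), (10, 44), (9, 44), (8, 43), (7, 44), (6, 43), (5, 42), (4, 42), (3, 43), (2, 44),
    (1, 40), (21, 42), (20, 44), (19, 43), (18, 42), (17, 43), (16, 42), (15, 42), (14, 43), (13, 44), (12, 41), (11,
    44), (10, 44), (9, 44), (8, 43), (7, 44), (6, 43), (5, 42), (4, 42), (3, 43), (2, 44)]

/-- Steps. -/
def st2_1 : List (ℕ × ℕ) :=
  [(1, 44), (25, 43), (24, 42), (23, 42), (22, 44), (21, 43), (20, 42), (19, 43), (18, 42), (17, 42), (16, 43), (15,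
    44), (14, 44), (13, 41), (12, 44), (11, 44), (10, 44), (9, 43), (8, 44), (7, 43), (6, 42), (5, 42), (4, 43), (3,
    44), (2, 44), (1, 40), (12, 48), (11, 48), (10, 48), (9, 47), (8, 48), (7, 47), (6, 46), (5, 46), (4, 47), (3,
    48), (2, 48), (1, 48), (26, 47), (25, 46), (24, 46), (23, 48), (22, 47), (21, 46), (20, 47), (19, 46), (18, 46),
    (17, 47), (16, 48), (15, 48), (14, 48), (13, 48), (12, 48), (11, 48), (10, 47), (9, 48), (8, 47), (7, 46), (6,
    46), (5, 47), (4, 48), (3, 48), (2, 48), (1, 45), (4, 50), (3, 51), (2, 51), (1, 51), (5, 50), (4, 51), (3, 51),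
    (2, 51), (1, 49), (14, 50), (13, 51), (12, 51), (11, 51), (10, 51), (9, 51), (8, 51), (7, 50), (6, 51), (5, 50),
    (4, 50), (3, 51), (2, 51), (1, 51), (15, 50), (14, 51), (13, 51), (12, 51), (11, 51), (10, 51), (9, 51), (8, 50),
    (7, 51), (6, 50), (5, 50), (4, 51), (3, 51), (2, 51), (1, 49), (15, 50), (14, 50), (13, 51), (12, 51), (11, 51),
    (10, 51), (9, 51), (8, 51), (7, 50), (6, 51), (5, 50), (4, 50), (3, 51), (2, 51), (1, 51), (18, 51), (17, 50),
    (16, 50)]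

/-- Steps. -/
def st2_2 : List (ℕ × ℕ) :=
  [(15, 50), (14, 51), (13, 51), (12, 51), (11, 51), (10, 51), (9, 51), (8, 50), (7, 51), (6, 50), (5, 50), (4, 51), (3,
    51), (2, 51), (1, 49), (17, 51), (16, 50), (15, 50), (14, 50), (13, 51), (12, 51), (11, 51), (10, 51), (9, 51),
    (8, 51), (7, 50), (6, 51), (5, 50), (4, 50), (3, 51), (2, 51), (1, 51), (19, 50), (18, 51), (17, 50), (16, 50),
    (15, 50), (14, 51), (13, 51), (12, 51), (11, 51), (10, 51), (9, 51), (8, 50), (7, 51), (6, 50), (5, 50), (4, 51),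
    (3, 51), (2, 51), (1, 49), (3, 53), (2, 53), (1, 53), (4, 53), (3, 53), (2, 53), (1, 52), (4, 53), (3, 53), (2,
    53), (1, 53), (11, 53), (10, 53), (9, 53), (8, 53), (7, 53), (6, 53), (5, 53), (4, 53), (3, 53), (2, 53), (1, 52),
    (10, 53), (9, 53), (8, 53), (7, 53), (6, 53), (5, 53), (4, 53), (3, 53), (2, 53), (1, 53), (11, 53), (10, 53), (9,
    53), (8, 53), (7, 53), (6, 53), (5, 53), (4, 53), (3, 53), (2, 53), (1, 52), (11, 53), (10, 53), (9, 53), (8, 53),
    (7, 53), (6, 53), (5, 53), (4, 53), (3, 53), (2, 53), (1, 53), (12, 53), (11, 53), (10, 53), (9, 53), (8, 53), (7,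
    53), (6, 53), (5, 53), (4, 53), (3, 53), (2, 53), (1, 52), (1, 54), (1, 54), (1, 54)]

/-- Steps. -/
def st2_3 : List (ℕ × ℕ) :=
  [(1, 54), (1, 54), (1, 54)]

/-- Steps. -/
def st2_4 : List (ℕ × ℕ) :=
  [(1, 0)]

/-- Steps. -/
def st2_5 : List (ℕ × ℕ) :=
  [(0, 10), (1, 7), (0, 4), (4, 50), (3, 49)]

/-- Steps. -/
def st2_6 : List (ℕ × ℕ) :=
  [(1, 1), (0, 1), (7, 17), (6, 15), (5, 14), (4, 13), (3, 12), (2, 11), (1, 10), (2, 24), (1, 21), (19, 25), (18, 26),
    (17, 25), (16, 24), (15, 23), (14, 26), (13, 22), (12, 25), (11, 21), (10, 21), (9, 20), (8, 26), (7, 22), (6,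
    21), (5, 26), (4, 24), (3, 26), (2, 21), (1, 19), (15, 33), (14, 33), (13, 29), (12, 33), (11, 28), (10, 33), (9,
    33), (8, 31), (7, 33), (6, 33), (5, 28), (4, 33), (3, 32), (2, 31), (1, 29), (34, 32), (33, 33), (32, 32), (31,
    33), (30, 31), (29, 31), (28, 30), (27, 33), (26, 33), (25, 29), (24, 32), (23, 33), (22, 28), (21, 33), (20, 28),
    (19, 33), (18, 32), (17, 29), (16, 33), (15, 33), (14, 29), (13, 33), (12, 28), (11, 33), (10, 33), (9, 31), (8,
    33), (7, 33), (6, 28), (5, 33), (4, 32), (3, 31), (2, 29), (1, 27), (5, 39), (4, 38), (3, 37), (2, 35), (1, 37),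
    (11, 39), (10, 39), (9, 37), (8, 39), (7, 39), (6, 39), (5, 38), (4, 37), (3, 35), (2, 37), (1, 34), (18, 39),
    (17, 38), (16, 35), (15, 39), (14, 39), (13, 35), (12, 39), (11, 39), (10, 39), (9, 37), (8, 39), (7, 39), (6,
    39), (5, 38), (4, 37), (3, 35), (2, 37), (1, 38), (20, 39), (19, 39), (18, 38), (17, 35), (16, 39), (15, 39), (14,
    35)]

/-- Steps. -/
def st2_7 : List (ℕ × ℕ) :=
  [(13, 39), (12, 39), (11, 39), (10, 37), (9, 39), (8, 39), (7, 39), (6, 38), (5, 37), (4, 35), (3, 37), (2, 38), (1,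
    34), (33, 38), (32, 39), (31, 38), (30, 39), (29, 37), (28, 37), (27, 37), (26, 36), (25, 39), (24, 39), (23, 35),
    (22, 38), (21, 39), (20, 39), (19, 39), (18, 38), (17, 35), (16, 39), (15, 39), (14, 35), (13, 39), (12, 39), (11,
    39), (10, 37), (9, 39), (8, 39), (7, 39), (6, 38), (5, 37), (4, 35), (3, 37), (2, 38), (1, 38), (4, 42), (3, 43),
    (2, 43), (14, 44), (13, 44), (12, 44), (11, 42), (10, 44), (9, 44), (8, 44), (7, 43), (6, 42), (5, 42), (4, 43),
    (3, 43), (2, 40), (16, 44), (15, 44), (14, 44), (13, 44), (12, 44), (11, 42), (10, 44), (9, 44), (8, 44), (7, 43),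
    (6, 42), (5, 42), (4, 43), (3, 43), (2, 44), (22, 43), (21, 44), (20, 44), (19, 44), (18, 43), (17, 44), (16, 44),
    (15, 44), (14, 44), (13, 44), (12, 42), (11, 44), (10, 44), (9, 44), (8, 43), (7, 42), (6, 42), (5, 43), (4, 43),
    (3, 44), (2, 40), (33, 43), (32, 44), (31, 43), (30, 44), (29, 42), (28, 42), (27, 42), (26, 43), (25, 41), (24,
    44), (23, 44), (22, 43), (21, 44), (20, 44), (19, 44), (18, 43), (17, 44), (16, 44), (15, 44), (14, 44), (13, 44),
    (12, 42)]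

/-- Steps. -/
def st2_8 : List (ℕ × ℕ) :=
  [(11, 44), (10, 44), (9, 44), (8, 43), (7, 42), (6, 42), (5, 43), (4, 43), (3, 44), (2, 44), (25, 48), (24, 48), (23,
    47), (22, 48), (21, 48), (20, 48), (19, 47), (18, 48), (17, 48), (16, 48), (15, 48), (14, 48), (13, 46), (12, 48),
    (11, 48), (10, 48), (9, 47), (8, 46), (7, 46), (6, 47), (5, 47), (4, 48), (3, 48), (35, 47), (34, 48), (33, 47),
    (32, 48), (31, 46), (30, 46), (29, 46), (28, 47), (27, 48), (26, 48), (25, 48), (24, 47), (23, 48), (22, 48), (21,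
    48), (20, 47), (19, 48), (18, 48), (17, 48), (16, 48), (15, 48), (14, 46), (13, 48), (12, 48), (11, 48), (10, 47),
    (9, 46), (8, 46), (7, 47), (6, 47), (5, 48), (4, 48), (3, 45), (6, 50), (5, 50), (4, 51), (3, 51), (7, 50), (6,
    50), (5, 51), (4, 51), (3, 49), (10, 51), (9, 51), (8, 51), (7, 50), (6, 50), (5, 50), (4, 51), (3, 51), (25, 50),
    (24, 51), (23, 51), (22, 51), (21, 50), (20, 51), (19, 51), (18, 51), (17, 50), (16, 51), (15, 51), (14, 51), (13,
    51), (12, 51), (11, 51), (10, 51), (9, 51), (8, 50), (7, 50), (6, 50), (5, 51), (4, 51), (3, 49), (24, 50), (23,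
    51), (22, 51), (21, 51), (20, 50), (19, 51), (18, 51), (17, 51), (16, 50), (15, 51), (14, 51), (13, 51), (12, 51),
    (11, 51)]

/-- Steps. -/
def st2_9 : List (ℕ × ℕ) :=
  [(10, 51), (9, 51), (8, 51), (7, 50), (6, 50), (5, 50), (4, 51), (3, 51), (25, 50), (24, 51), (23, 51), (22, 51), (21,
    50), (20, 51), (19, 51), (18, 51), (17, 50), (16, 51), (15, 51), (14, 51), (13, 51), (12, 51), (11, 51), (10, 51),
    (9, 51), (8, 50), (7, 50), (6, 50), (5, 51), (4, 51), (3, 49), (4, 53), (3, 53), (5, 53), (4, 53), (3, 52), (4,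
    53), (3, 53), (13, 53), (12, 53), (11, 53), (10, 53), (9, 53), (8, 53), (7, 53), (6, 53), (5, 53), (4, 53), (3,
    52), (15, 53), (14, 53), (13, 53), (12, 53), (11, 53), (10, 53), (9, 53), (8, 53), (7, 53), (6, 53), (5, 53), (4,
    53), (3, 53), (19, 53), (18, 53), (17, 53), (16, 53), (15, 53), (14, 53), (13, 53), (12, 53), (11, 53), (10, 53),
    (9, 53), (8, 53), (7, 53), (6, 53), (5, 53), (4, 53), (3, 52), (19, 53), (18, 53), (17, 53), (16, 53), (15, 53),
    (14, 53), (13, 53), (12, 53), (11, 53), (10, 53), (9, 53), (8, 53), (7, 53), (6, 53), (5, 53), (4, 53), (3, 53),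
    (21, 53), (20, 53), (19, 53), (18, 53), (17, 53), (16, 53), (15, 53), (14, 53), (13, 53), (12, 53), (11, 53), (10,
    53), (9, 53), (8, 53), (7, 53), (6, 53), (5, 53), (4, 53), (3, 52), (20, 53), (19, 53), (18, 53), (17, 53), (16,
    53)]

/-- Steps. -/
def st2_10 : List (ℕ × ℕ) :=
  [(15, 53), (14, 53), (13, 53), (12, 53), (11, 53), (10, 53), (9, 53), (8, 53), (7, 53), (6, 53), (5, 53), (4, 53), (3,
    53), (4, 54), (4, 54), (4, 54), (4, 54), (4, 54), (4, 54), (4, 54), (4, 54), (4, 54)]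

/-- Steps. -/
def st2_11 : List (ℕ × ℕ) :=
  [(0, 11), (4, 9), (3, 5), (2, 4), (1, 2), (0, 1), (7, 25), (6, 23), (5, 22), (4, 21), (3, 20), (2, 19), (5, 33), (4,
    32), (3, 31), (2, 29), (9, 39), (8, 38), (7, 35), (6, 39), (5, 38), (4, 37), (3, 35), (20, 39), (19, 38), (18,
    37), (17, 35), (16, 38), (15, 37), (14, 36), (13, 39), (12, 35), (11, 39), (10, 39), (9, 38), (8, 35), (7, 39),
    (6, 38), (5, 37), (4, 35), (3, 34), (3, 43), (7, 44), (6, 43), (5, 42), (4, 43), (3, 40), (10, 44), (9, 44), (8,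
    43), (7, 44), (6, 43), (5, 42), (4, 43), (3, 44), (16, 43), (15, 42), (14, 43), (13, 41), (12, 44), (11, 44), (10,
    44), (9, 43), (8, 44), (7, 43), (6, 42), (5, 43), (4, 44), (3, 40), (20, 44), (19, 43), (18, 42), (17, 43), (16,
    42), (15, 43), (14, 44), (13, 41), (12, 44), (11, 44), (10, 44), (9, 43), (8, 44), (7, 43), (6, 42), (5, 43), (4,
    44), (3, 44), (24, 43), (23, 42), (22, 44), (21, 43), (20, 42), (19, 43), (18, 42), (17, 43), (16, 44), (15, 44),
    (14, 41), (13, 44), (12, 44), (11, 44), (10, 43), (9, 44), (8, 43), (7, 42), (6, 43), (5, 44), (4, 44), (3, 40),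
    (13, 48), (12, 48), (11, 48), (10, 47), (9, 48), (8, 47), (7, 46), (6, 47), (5, 48), (4, 48), (3, 48)]

/-- Steps. -/
def st2_12 : List (ℕ × ℕ) :=
  [(7, 50), (6, 51), (5, 51), (4, 51), (18, 50), (17, 51), (16, 51), (15, 51), (14, 51), (13, 51), (12, 51), (11, 50),
    (10, 51), (9, 50), (8, 50), (7, 51), (6, 51), (5, 51), (4, 49), (18, 50), (17, 50), (16, 51), (15, 51), (14, 51),
    (13, 51), (12, 51), (11, 51), (10, 50), (9, 51), (8, 50), (7, 50), (6, 51), (5, 51), (4, 51), (21, 51), (20, 50),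
    (19, 50), (18, 50), (17, 51), (16, 51), (15, 51), (14, 51), (13, 51), (12, 51), (11, 50), (10, 51), (9, 50), (8,
    50), (7, 51), (6, 51), (5, 51), (4, 49), (6, 53), (5, 53), (4, 53), (7, 53), (6, 53), (5, 53), (4, 52), (7, 53),
    (6, 53), (5, 53), (4, 53), (14, 53), (13, 53), (12, 53), (11, 53), (10, 53), (9, 53), (8, 53), (7, 53), (6, 53),
    (5, 53), (4, 52), (13, 53), (12, 53), (11, 53), (10, 53), (9, 53), (8, 53), (7, 53), (6, 53), (5, 53), (4, 53),
    (14, 53), (13, 53), (12, 53), (11, 53), (10, 53), (9, 53), (8, 53), (7, 53), (6, 53), (5, 53), (4, 52), (14, 53),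
    (13, 53), (12, 53), (11, 53), (10, 53), (9, 53), (8, 53), (7, 53), (6, 53), (5, 53), (4, 53), (5, 54), (5, 54),
    (5, 54), (5, 54), (5, 54), (5, 54)]

/-- Steps. -/
def st2_13 : List (ℕ × ℕ) :=
  [(1, 1), (0, 2), (5, 18), (4, 17), (3, 16), (2, 14), (1, 11), (11, 26), (10, 25), (9, 25), (8, 24), (7, 26), (6, 22),
    (5, 26), (4, 22), (3, 21), (2, 19), (18, 33), (17, 32), (16, 32), (15, 33), (14, 31), (13, 33), (12, 33), (11,
    29), (10, 33), (9, 33), (8, 29), (7, 33), (6, 28), (5, 33), (4, 32), (3, 31), (2, 29), (6, 39), (5, 38), (4, 37),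
    (3, 35), (19, 39), (18, 38), (17, 38), (16, 39), (15, 37), (14, 39), (13, 39), (12, 35), (11, 39), (10, 39), (9,
    35), (8, 39), (7, 39), (6, 38), (5, 37), (4, 35), (3, 34), (3, 43), (8, 44), (7, 44), (6, 43), (5, 42), (4, 43),
    (3, 40), (10, 44), (9, 44), (8, 44), (7, 44), (6, 43), (5, 42), (4, 43), (3, 44), (18, 44), (17, 43), (16, 43),
    (15, 44), (14, 42), (13, 44), (12, 44), (11, 44), (10, 44), (9, 44), (8, 44), (7, 43), (6, 42), (5, 43), (4, 44),
    (3, 40), (18, 48), (17, 47), (16, 47), (15, 48), (14, 46), (13, 48), (12, 48), (11, 48), (10, 48), (9, 48), (8,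
    48), (7, 47), (6, 46), (5, 47), (4, 48), (3, 48), (6, 50), (5, 51), (4, 51), (14, 51), (13, 51), (12, 51), (11,
    51), (10, 51), (9, 51), (8, 50), (7, 50), (6, 51), (5, 51), (4, 49), (5, 53), (4, 53), (6, 53), (5, 53)]

/-- Steps. -/
def st2_14 : List (ℕ × ℕ) :=
  [(4, 52), (12, 53), (11, 53), (10, 53), (9, 53), (8, 53), (7, 53), (6, 53), (5, 53), (4, 53), (13, 53), (12, 53), (11,
    53), (10, 53), (9, 53), (8, 53), (7, 53), (6, 53), (5, 53), (4, 52), (13, 53), (12, 53), (11, 53), (10, 53), (9,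
    53), (8, 53), (7, 53), (6, 53), (5, 53), (4, 53), (5, 54), (5, 54), (5, 54), (5, 54), (5, 54)]

/-- Steps. -/
def st2_15 : List (ℕ × ℕ) :=
  [(0, 12), (2, 4), (1, 3), (0, 1), (7, 32), (6, 30), (5, 29), (4, 28), (3, 27), (3, 37), (9, 37), (8, 38), (7, 37), (6,
    36), (5, 35), (4, 37), (3, 34), (4, 42), (3, 43), (10, 42), (9, 43), (8, 42), (7, 43), (6, 41), (5, 42), (4, 43),
    (3, 40), (5, 46), (4, 47), (3, 48), (5, 50), (4, 51), (8, 50), (7, 51), (6, 50), (5, 51), (4, 49), (8, 50), (7,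
    50), (6, 51), (5, 50), (4, 51), (9, 50), (8, 50), (7, 51), (6, 50), (5, 51), (4, 49), (4, 53), (6, 53), (5, 53),
    (4, 52), (5, 53), (4, 53), (6, 53), (5, 53), (4, 52), (4, 54)]

/-- Steps. -/
def st2_16 : List (ℕ × ℕ) :=
  [(1, 1), (0, 3), (2, 16), (1, 12), (5, 25), (4, 24), (3, 21), (2, 20), (11, 32), (10, 33), (9, 31), (8, 33), (7, 28),
    (6, 33), (5, 32), (4, 29), (3, 27), (6, 39), (5, 38), (4, 35), (3, 37), (11, 38), (10, 39), (9, 37), (8, 39), (7,
    39), (6, 38), (5, 35), (4, 37), (3, 34), (4, 42), (3, 43), (11, 43), (10, 44), (9, 42), (8, 44), (7, 44), (6, 43),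
    (5, 42), (4, 43), (3, 40), (11, 47), (10, 48), (9, 46), (8, 48), (7, 48), (6, 47), (5, 46), (4, 47), (3, 48), (5,
    50), (4, 51), (9, 51), (8, 51), (7, 50), (6, 50), (5, 51), (4, 49), (4, 53), (5, 53), (4, 52), (7, 53), (6, 53),
    (5, 53), (4, 53), (8, 53), (7, 53), (6, 53), (5, 53), (4, 52), (4, 54), (4, 54)]

/-- Steps. -/
def st2_17 : List (ℕ × ℕ) :=
  [(0, 13), (2, 8), (1, 4), (0, 1), (7, 38), (6, 36), (5, 35), (4, 34), (4, 43), (8, 43), (7, 43), (6, 41), (5, 43), (4,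
    40), (5, 47), (4, 48), (9, 50), (8, 50), (7, 51), (6, 50), (5, 51), (6, 53), (8, 53), (7, 53), (6, 52), (7, 53),
    (6, 53), (8, 53), (7, 53), (6, 52), (7, 53), (6, 53), (7, 54)]

/-- Steps. -/
def st2_18 : List (ℕ × ℕ) :=
  [(1, 1), (0, 4), (4, 17), (3, 16), (2, 14), (1, 13), (8, 25), (7, 25), (6, 24), (5, 26), (4, 22), (3, 25), (2, 21),
    (12, 32), (11, 32), (10, 33), (9, 31), (8, 33), (7, 33), (6, 29), (5, 32), (4, 33), (3, 28), (13, 38), (12, 38),
    (11, 39), (10, 37), (9, 39), (8, 39), (7, 35), (6, 38), (5, 39), (4, 34), (6, 43), (5, 44), (4, 43), (13, 43),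
    (12, 43), (11, 44), (10, 42), (9, 44), (8, 44), (7, 43), (6, 44), (5, 43), (4, 40), (13, 47), (12, 47), (11, 48),
    (10, 46), (9, 48), (8, 48), (7, 47), (6, 48), (5, 47), (4, 48), (10, 51), (9, 51), (8, 50), (7, 51), (6, 50), (5,
    51), (6, 53), (8, 53), (7, 53), (6, 52), (10, 53), (9, 53), (8, 53), (7, 53), (6, 53), (11, 53), (10, 53), (9,
    53), (8, 53), (7, 53), (6, 52), (10, 53), (9, 53), (8, 53), (7, 53), (6, 53), (7, 54), (7, 54)]

/-- Steps. -/
def st2_19 : List (ℕ × ℕ) :=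
  [(0, 14), (2, 9), (1, 5), (0, 1), (7, 43), (6, 41), (5, 40), (5, 48), (7, 53), (6, 53), (7, 54)]

/-- Steps. -/
def st2_20 : List (ℕ × ℕ) :=
  [(1, 1), (0, 5), (1, 14), (3, 26), (2, 22), (5, 33), (4, 33), (3, 29), (6, 39), (5, 39), (4, 35), (7, 44), (6, 44),
    (5, 40), (7, 48), (6, 48), (5, 48), (8, 53), (7, 53), (6, 53), (7, 54)]

/-- Steps. -/
def st2_21 : List (ℕ × ℕ) :=
  [(0, 15), (4, 9), (3, 8), (2, 7), (1, 6), (0, 1), (7, 47), (6, 45), (6, 50), (7, 50), (6, 49), (6, 52), (6, 54)]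

/-- Steps. -/
def st2_22 : List (ℕ × ℕ) :=
  [(1, 1), (0, 6), (2, 16), (1, 15), (7, 25), (6, 24), (5, 26), (4, 25), (3, 24), (2, 23), (11, 32), (10, 33), (9, 31),
    (8, 33), (7, 32), (6, 33), (5, 31), (4, 31), (3, 30), (13, 38), (12, 39), (11, 37), (10, 39), (9, 38), (8, 39),
    (7, 37), (6, 37), (5, 37), (4, 36), (15, 43), (14, 44), (13, 42), (12, 44), (11, 43), (10, 44), (9, 42), (8, 42),
    (7, 42), (6, 43), (5, 41), (17, 47), (16, 48), (15, 46), (14, 48), (13, 47), (12, 48), (11, 46), (10, 46), (9,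
    46), (8, 47), (7, 48), (6, 45), (7, 50), (6, 51), (8, 50), (7, 51), (6, 49), (7, 50), (6, 51), (11, 51), (10, 50),
    (9, 51), (8, 50), (7, 51), (6, 49), (6, 53), (8, 53), (7, 53), (6, 52), (9, 53), (8, 53), (7, 53), (6, 53), (10,
    53), (9, 53), (8, 53), (7, 53), (6, 52), (6, 54), (6, 54)]

/-- Steps. -/
def st2_23 : List (ℕ × ℕ) :=
  [(0, 16), (2, 8), (1, 7), (0, 1), (7, 50), (8, 52)]

/-- Steps. -/
def st2_24 : List (ℕ × ℕ) :=
  [(1, 1), (0, 7), (1, 16), (3, 25), (2, 24), (5, 32), (4, 33), (3, 31), (6, 38), (5, 39), (4, 37), (7, 43), (6, 44),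
    (5, 42), (8, 47), (7, 48), (6, 46), (8, 53), (9, 53), (8, 52)]

/-- Steps. -/
def st2_25 : List (ℕ × ℕ) :=
  [(0, 17), (1, 8), (0, 1), (7, 52)]

/-- Steps. -/
def st2_26 : List (ℕ × ℕ) :=
  [(1, 1), (0, 8), (2, 18), (1, 17), (3, 26), (2, 25), (4, 33), (3, 32), (5, 39), (4, 38), (6, 44), (5, 43), (7, 48),
    (6, 47), (8, 53), (7, 52)]

/-- Steps. -/
def st2_27 : List (ℕ × ℕ) :=
  [(0, 18), (1, 9), (0, 1)]

/-- Steps. -/
def st2_28 : List (ℕ × ℕ) :=
  [(1, 1), (0, 9), (1, 18), (2, 26), (3, 33), (4, 39), (5, 44), (6, 48), (7, 53)]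

/-- Steps. -/
def st2_29 : List (ℕ × ℕ) :=
  [(0, 2), (5, 9), (4, 8), (3, 7), (2, 5), (1, 2), (0, 0), (4, 44), (3, 43), (2, 42), (1, 40), (1, 51), (4, 51), (3,
    50), (2, 51), (1, 49), (1, 53), (3, 53), (2, 53), (1, 52), (1, 54), (1, 54)]

/-- Steps. -/
def st2_30 : List (ℕ × ℕ) :=
  [(1, 0)]

/-- Steps. -/
def st2_31 : List (ℕ × ℕ) :=
  [(0, 19), (3, 9), (2, 8), (1, 7), (0, 5), (4, 54)]

/-- Steps. -/
def st2_32 : List (ℕ × ℕ) :=
  [(1, 2), (0, 2), (5, 26), (4, 25), (3, 24), (2, 22), (1, 19), (4, 44), (3, 43), (2, 42), (1, 40), (9, 44), (8, 43),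
    (7, 44), (6, 42), (5, 44), (4, 44), (3, 43), (2, 42), (1, 44), (2, 51), (6, 51), (5, 51), (4, 50), (3, 51), (2,
    49), (8, 51), (7, 50), (6, 51), (5, 51), (4, 51), (3, 50), (2, 51), (3, 53), (7, 53), (6, 53), (5, 53), (4, 53),
    (3, 52), (7, 53), (6, 53), (5, 53), (4, 53), (3, 53), (4, 54), (4, 54), (4, 54)]

/-- Steps. -/
def st2_33 : List (ℕ × ℕ) :=
  [(0, 20), (4, 9), (3, 8), (2, 5), (1, 3), (0, 2), (5, 33), (4, 32), (3, 31), (2, 29), (7, 42), (6, 44), (5, 43), (4,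
    42), (3, 40), (3, 51), (6, 51), (5, 50), (4, 51), (3, 49), (3, 53), (5, 53), (4, 53), (3, 52), (3, 54), (3, 54)]

/-- Steps. -/
def st2_34 : List (ℕ × ℕ) :=
  [(1, 2), (0, 3), (2, 24), (1, 20), (7, 44), (6, 42), (5, 44), (4, 43), (3, 40), (5, 51), (4, 50), (3, 51), (7, 51),
    (6, 51), (5, 50), (4, 51), (3, 49), (3, 53), (6, 53), (5, 53), (4, 53), (3, 52), (3, 54), (3, 54)]

/-- Steps. -/
def st2_35 : List (ℕ × ℕ) :=
  [(0, 21), (2, 9), (1, 4), (0, 2), (5, 39), (4, 38), (3, 37), (2, 35), (6, 44), (5, 43), (4, 42), (3, 40), (3, 51), (6,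
    51), (5, 50), (4, 51), (3, 49), (3, 53), (5, 53), (4, 53), (3, 52), (3, 54)]

/-- Steps. -/
def st2_36 : List (ℕ × ℕ) :=
  [(1, 2), (0, 4), (4, 25), (3, 24), (2, 22), (1, 21), (3, 44), (8, 43), (7, 44), (6, 42), (5, 44), (4, 44), (3, 40),
    (5, 51), (4, 51), (3, 51), (8, 50), (7, 51), (6, 51), (5, 51), (4, 51), (3, 49), (6, 53), (5, 53), (4, 53), (3,
    53), (7, 53), (6, 53), (5, 53), (4, 53), (3, 52), (3, 54), (3, 54)]

/-- Steps. -/
def st2_37 : List (ℕ × ℕ) :=
  [(0, 22), (2, 9), (1, 5), (0, 2), (5, 44), (4, 43), (3, 42), (2, 40), (2, 51), (3, 53), (4, 54)]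

/-- Steps. -/
def st2_38 : List (ℕ × ℕ) :=
  [(1, 2), (0, 5), (1, 22), (3, 44), (2, 40), (3, 51), (2, 51), (4, 53), (3, 53), (4, 54)]

/-- Steps. -/
def st2_39 : List (ℕ × ℕ) :=
  [(0, 23), (2, 7), (1, 6), (0, 2), (5, 48), (4, 47), (3, 46), (6, 51), (5, 50), (4, 49), (5, 51), (4, 50)]

/-- Steps. -/
def st2_40 : List (ℕ × ℕ) :=
  [(1, 2), (0, 6), (2, 24), (1, 23), (5, 44), (4, 42), (3, 42), (2, 41), (4, 51), (5, 51), (4, 49), (5, 51), (4, 51),
    (6, 53), (5, 53), (6, 54)]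

/-- Steps. -/
def st2_41 : List (ℕ × ℕ) :=
  [(0, 24), (2, 9), (1, 7), (0, 2), (5, 51), (4, 50), (3, 49), (4, 54)]

/-- Steps. -/
def st2_42 : List (ℕ × ℕ) :=
  [(1, 2), (0, 7), (1, 24), (3, 44), (2, 42), (4, 51), (3, 49), (3, 53), (4, 54)]

/-- Steps. -/
def st2_43 : List (ℕ × ℕ) :=
  [(0, 25), (1, 8), (0, 2), (5, 53), (4, 52), (4, 54)]

/-- Steps. -/
def st2_44 : List (ℕ × ℕ) :=
  [(1, 2), (0, 8), (2, 26), (1, 25), (3, 44), (2, 43), (4, 51), (3, 50), (5, 53), (4, 52), (4, 54)]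

/-- Steps. -/
def st2_45 : List (ℕ × ℕ) :=
  [(0, 26), (1, 9), (0, 2), (5, 54)]

/-- Steps. -/
def st2_46 : List (ℕ × ℕ) :=
  [(1, 2), (0, 9), (1, 26), (2, 44), (3, 51), (4, 53), (5, 54)]

/-- Steps. -/
def st2_47 : List (ℕ × ℕ) :=
  [(0, 3), (2, 7), (1, 3), (0, 0), (1, 49)]

/-- Steps. -/
def st2_48 : List (ℕ × ℕ) :=
  [(1, 0)]

/-- Steps. -/
def st2_49 : List (ℕ × ℕ) :=
  [(0, 27), (0, 7)]

/-- Steps. -/
def st2_50 : List (ℕ × ℕ) :=
  [(1, 3), (0, 3), (2, 31), (1, 27), (1, 49)]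

/-- Steps. -/
def st2_51 : List (ℕ × ℕ) :=
  [(0, 28), (1, 4), (0, 3), (2, 37), (3, 42), (4, 49)]

/-- Steps. -/
def st2_52 : List (ℕ × ℕ) :=
  [(1, 3), (0, 4), (4, 32), (3, 31), (2, 29), (1, 28), (5, 50), (4, 49)]

/-- Steps. -/
def st2_53 : List (ℕ × ℕ) :=
  [(0, 29), (1, 5), (0, 3), (2, 42)]

/-- Steps. -/
def st2_54 : List (ℕ × ℕ) :=
  [(1, 3), (0, 5), (1, 29)]

/-- Steps. -/
def st2_55 : List (ℕ × ℕ) :=
  [(0, 30), (2, 7), (1, 6), (0, 3), (2, 46), (3, 49)]

/-- Steps. -/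
def st2_56 : List (ℕ × ℕ) :=
  [(1, 3), (0, 6), (2, 31), (1, 30), (3, 49)]

/-- Steps. -/
def st2_57 : List (ℕ × ℕ) :=
  [(0, 32), (1, 8), (0, 3)]

/-- Steps. -/
def st2_58 : List (ℕ × ℕ) :=
  [(1, 3), (0, 8), (2, 33), (1, 32), (3, 51), (2, 50)]

/-- Steps. -/
def st2_59 : List (ℕ × ℕ) :=
  [(0, 33), (1, 9), (0, 3)]

/-- Steps. -/
def st2_60 : List (ℕ × ℕ) :=
  [(1, 3), (0, 9), (1, 33), (2, 51)]

/-- Steps. -/
def st2_61 : List (ℕ × ℕ) :=
  [(0, 4), (4, 8), (3, 7), (2, 5), (1, 4), (0, 0), (3, 43), (2, 42), (1, 40), (1, 51), (3, 50), (2, 51), (1, 49), (1,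
    53), (2, 53), (1, 52), (1, 54)]

/-- Steps. -/
def st2_62 : List (ℕ × ℕ) :=
  [(1, 0)]

/-- Steps. -/
def st2_63 : List (ℕ × ℕ) :=
  [(0, 34), (0, 8)]

/-- Steps. -/
def st2_64 : List (ℕ × ℕ) :=
  [(1, 4), (0, 4), (4, 38), (3, 37), (2, 35), (1, 34), (1, 43), (4, 43), (3, 42), (2, 43), (1, 40), (2, 50), (1, 51),
    (4, 50), (3, 50), (2, 51), (1, 49), (1, 53), (2, 53), (1, 52), (1, 53)]

/-- Steps. -/
def st2_65 : List (ℕ × ℕ) :=
  [(0, 35), (1, 5), (0, 4), (4, 43), (3, 42), (2, 40), (2, 51), (3, 53)]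

/-- Steps. -/
def st2_66 : List (ℕ × ℕ) :=
  [(1, 4), (0, 5), (1, 35), (2, 40), (2, 51), (3, 53)]

/-- Steps. -/
def st2_67 : List (ℕ × ℕ) :=
  [(0, 37), (1, 7), (0, 4), (4, 50), (3, 49)]

/-- Steps. -/
def st2_68 : List (ℕ × ℕ) :=
  [(1, 4), (0, 7), (1, 37), (2, 42), (3, 49)]

/-- Steps. -/
def st2_69 : List (ℕ × ℕ) :=
  [(0, 10), (1, 16), (0, 13), (2, 50), (3, 52)]

/-- Steps. -/
def st2_70 : List (ℕ × ℕ) :=
  [(1, 10)]

/-- Steps. -/
def st2_71 : List (ℕ × ℕ) :=
  [(0, 11), (4, 18), (3, 14), (2, 13), (1, 11), (0, 10), (1, 24), (0, 21), (4, 39), (3, 37), (2, 39), (1, 34), (6, 39),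
    (5, 35), (4, 39), (3, 37), (2, 39), (1, 38), (5, 44), (4, 42), (3, 44), (2, 43), (8, 43), (7, 44), (6, 44), (5,
    42), (4, 44), (3, 43), (2, 40), (4, 51), (3, 50), (2, 51), (3, 53), (7, 53), (6, 53), (5, 53), (4, 53), (3, 52),
    (3, 54), (3, 54), (3, 54)]

/-- Steps. -/
def st2_72 : List (ℕ × ℕ) :=
  [(1, 10)]

/-- Steps. -/
def st2_73 : List (ℕ × ℕ) :=
  [(0, 19), (3, 18), (2, 17), (1, 16), (0, 14), (2, 51), (3, 53), (4, 53), (3, 52), (3, 54)]

/-- Steps. -/
def st2_74 : List (ℕ × ℕ) :=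
  [(1, 11), (0, 11), (4, 26), (3, 22), (2, 21), (1, 19), (4, 39), (3, 38), (2, 37), (1, 35), (9, 39), (8, 39), (7, 35),
    (6, 39), (5, 39), (4, 38), (3, 37), (2, 35), (1, 34), (1, 43), (6, 44), (5, 44), (4, 43), (3, 42), (2, 43), (1,
    40), (8, 44), (7, 44), (6, 44), (5, 44), (4, 43), (3, 42), (2, 43), (1, 44), (3, 50), (2, 51), (3, 53), (4, 53),
    (3, 52), (3, 54), (3, 54), (3, 54)]

/-- Steps. -/
def st2_75 : List (ℕ × ℕ) :=
  [(0, 20), (4, 18), (3, 17), (2, 14), (1, 12), (0, 11), (4, 33), (3, 29), (2, 28), (5, 39), (4, 35), (3, 34), (3, 43),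
    (5, 44), (4, 43), (3, 40), (3, 53), (6, 53), (5, 53), (4, 53), (3, 52), (3, 54), (3, 54)]

/-- Steps. -/
def st2_76 : List (ℕ × ℕ) :=
  [(1, 11), (0, 12), (2, 21), (1, 20), (5, 39), (4, 38), (3, 35), (7, 39), (6, 39), (5, 38), (4, 35), (3, 34), (3, 43),
    (7, 44), (6, 44), (5, 43), (4, 43), (3, 40), (3, 53), (4, 53), (3, 52), (3, 54), (3, 54)]

/-- Steps. -/
def st2_77 : List (ℕ × ℕ) :=
  [(0, 21), (2, 18), (1, 13), (0, 11), (4, 39), (3, 35), (2, 34), (2, 43), (4, 53), (3, 52), (3, 54)]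

/-- Steps. -/
def st2_78 : List (ℕ × ℕ) :=
  [(1, 11), (0, 13), (2, 25), (1, 21), (4, 38), (3, 39), (2, 34), (4, 43), (3, 44), (2, 43), (4, 53), (3, 52), (3, 54)]

/-- Steps. -/
def st2_79 : List (ℕ × ℕ) :=
  [(0, 22), (2, 18), (1, 14), (0, 11), (4, 44), (3, 40), (3, 54), (3, 54)]

/-- Steps. -/
def st2_80 : List (ℕ × ℕ) :=
  [(1, 11), (0, 14), (2, 26), (1, 22), (4, 39), (3, 39), (2, 35), (5, 44), (4, 44), (3, 40), (3, 54), (3, 54)]

/-- Steps. -/
def st2_81 : List (ℕ × ℕ) :=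
  [(0, 24), (2, 18), (1, 16), (0, 11), (4, 51), (5, 53), (6, 54)]

/-- Steps. -/
def st2_82 : List (ℕ × ℕ) :=
  [(1, 11), (0, 16), (2, 25), (1, 24), (4, 38), (3, 39), (2, 37), (5, 43), (4, 44), (3, 42), (5, 53), (6, 54)]

/-- Steps. -/
def st2_83 : List (ℕ × ℕ) :=
  [(0, 28), (1, 13), (0, 12), (2, 34), (2, 52)]

/-- Steps. -/
def st2_84 : List (ℕ × ℕ) :=
  [(1, 12), (0, 13), (2, 32), (1, 28), (3, 38), (2, 34), (2, 52)]

/-- Steps. -/
def st2_85 : List (ℕ × ℕ) :=
  [(3, 26), (2, 22), (1, 20), (0, 19), (3, 33), (2, 32), (1, 31), (0, 29), (10, 33), (9, 33), (8, 29), (7, 33), (6, 32),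
    (5, 29), (4, 33), (3, 32), (2, 31), (1, 29), (0, 27), (0, 42), (4, 44), (3, 43), (2, 42), (1, 42), (0, 40), (6,
    44), (5, 43), (4, 44), (3, 43), (2, 42), (1, 42), (0, 44), (9, 44), (8, 44), (7, 44), (6, 43), (5, 44), (4, 43),
    (3, 42), (2, 42), (1, 44), (0, 40), (1, 51), (0, 51), (2, 51), (1, 51), (0, 49), (1, 53), (0, 53), (3, 53), (2,
    53), (1, 53), (0, 52), (0, 54), (0, 54), (0, 54)]

/-- Steps. -/
def st2_86 : List (ℕ × ℕ) :=
  [(4, 9), (3, 8), (2, 6), (1, 3), (0, 0), (6, 33), (5, 33), (4, 32), (3, 31), (2, 30), (1, 31), (0, 27), (1, 46), (0,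
    46), (7, 48), (6, 48), (5, 47), (4, 46), (3, 46), (2, 46), (1, 46), (0, 45), (0, 49), (0, 49), (2, 53), (1, 53),
    (0, 52), (0, 54)]

/-- Steps. -/
def st2_87 : List (ℕ × ℕ) :=
  [(2, 48), (1, 46), (0, 45), (1, 51), (0, 49)]

/-- Steps. -/
def st2_88 : List (ℕ × ℕ) :=
  [(1, 48), (0, 45)]

/-- Steps. -/
def st2_89 : List (ℕ × ℕ) :=
  [(3, 25), (2, 24), (1, 20), (8, 32), (7, 33), (6, 31), (5, 33), (4, 32), (3, 29), (2, 27), (2, 42), (8, 43), (7, 44),
    (6, 42), (5, 44), (4, 43), (3, 42), (2, 40), (2, 51), (5, 51), (4, 50), (3, 51), (2, 49), (2, 53), (5, 53), (4,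
    53), (3, 53), (2, 52), (2, 54), (2, 54)]

/-- Steps. -/
def st2_90 : List (ℕ × ℕ) :=
  [(3, 8), (2, 6), (1, 3), (0, 2), (5, 33), (4, 32), (3, 31), (2, 29), (11, 33), (10, 32), (9, 31), (8, 30), (7, 31),
    (6, 33), (5, 32), (4, 31), (3, 29), (2, 27), (2, 42), (7, 46), (6, 48), (5, 47), (4, 46), (3, 46), (12, 48), (11,
    47), (10, 46), (9, 46), (8, 46), (7, 48), (6, 47), (5, 46), (4, 46), (3, 45), (3, 49), (4, 51), (3, 50), (5, 51),
    (4, 50), (3, 49), (4, 51), (3, 50), (5, 53), (4, 52), (5, 53), (4, 53), (5, 54)]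

/-- Steps. -/
def st2_91 : List (ℕ × ℕ) :=
  [(3, 9), (2, 5), (1, 3), (0, 2), (5, 33), (4, 32), (3, 31), (2, 29), (9, 33), (8, 29), (7, 31), (6, 33), (5, 32), (4,
    31), (3, 29), (2, 27), (2, 42), (7, 42), (6, 44), (5, 43), (4, 42), (3, 42), (2, 40), (10, 47), (9, 46), (8, 48),
    (7, 46), (6, 48), (5, 47), (4, 46), (3, 46), (2, 48), (13, 48), (12, 46), (11, 47), (10, 46), (9, 48), (8, 46),
    (7, 48), (6, 47), (5, 46), (4, 46), (3, 48), (2, 45), (2, 51), (3, 51), (2, 49), (4, 51), (3, 50), (2, 51), (6,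
    51), (5, 51), (4, 50), (3, 51), (2, 49), (6, 50), (5, 51), (4, 51), (3, 50), (2, 51), (8, 51), (7, 50), (6, 51),
    (5, 51), (4, 50), (3, 51), (2, 49), (2, 53), (5, 53), (4, 53), (3, 53), (2, 52), (2, 54), (2, 54)]

/-- Steps. -/
def st2_92 : List (ℕ × ℕ) :=
  [(4, 26), (3, 25), (2, 23), (1, 20), (9, 33), (8, 32), (7, 31), (6, 30), (5, 33), (4, 32), (3, 29), (2, 27), (2, 42),
    (5, 48), (4, 47), (3, 46), (10, 48), (9, 47), (8, 46), (7, 46), (6, 48), (5, 47), (4, 46), (3, 45), (10, 47), (9,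
    48), (8, 47), (7, 46), (6, 46), (5, 48), (4, 47), (3, 46), (12, 48), (11, 47), (10, 48), (9, 47), (8, 46), (7,
    46), (6, 48), (5, 47), (4, 46), (3, 45), (5, 51), (4, 50), (3, 49), (4, 51), (3, 50), (5, 53), (4, 52), (5, 53),
    (4, 53), (5, 54)]

/-- Steps. -/
def st2_93 : List (ℕ × ℕ) :=
  [(2, 26), (1, 24), (0, 23), (5, 33), (4, 33), (3, 31), (2, 31), (1, 30), (7, 44), (6, 44), (5, 42), (4, 42), (3, 42),
    (2, 41), (4, 51), (5, 51), (4, 49), (4, 51), (5, 54), (5, 54)]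

/-- Steps. -/
def st2_94 : List (ℕ × ℕ) :=
  [(1, 9), (0, 6), (3, 33), (2, 31), (1, 30), (5, 48), (4, 46), (3, 46), (2, 45), (2, 49), (2, 53), (3, 54)]

/-- Steps. -/
def st2_95 : List (ℕ × ℕ) :=
  [(3, 48), (4, 51), (5, 54)]

/-- Steps. -/
def st2_96 : List (ℕ × ℕ) :=
  [(4, 48), (3, 47), (2, 45), (3, 54)]

/-- Steps. -/
def st2_97 : List (ℕ × ℕ) :=
  [(2, 8), (1, 5), (0, 0), (2, 44), (1, 43), (0, 40), (0, 53), (2, 53), (1, 53), (0, 52), (0, 54)]

/-- Steps. -/
def st2_98 : List (ℕ × ℕ) :=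
  [(1, 9), (0, 0), (0, 26), (1, 33), (2, 39), (3, 48), (4, 54)]

/-- Steps. -/
def st2_99 : List (ℕ × ℕ) :=
  [(3, 9), (2, 8), (1, 5), (0, 0), (3, 44), (2, 44), (1, 43), (0, 40), (0, 53), (3, 53), (2, 53), (1, 53), (0, 52), (0,
    54)]

/-- Steps. -/
def st2_100 : List (ℕ × ℕ) :=
  [(5, 9), (4, 6), (3, 4), (2, 3), (1, 2), (0, 0), (4, 33), (3, 32), (2, 31), (1, 29), (6, 37), (5, 39), (4, 38), (3,
    37), (2, 35), (7, 42), (6, 44), (5, 43), (4, 42), (3, 40), (9, 47), (8, 46), (7, 46), (6, 48), (5, 47), (4, 46),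
    (3, 48), (4, 51), (7, 51), (6, 50), (5, 51), (4, 49), (6, 51), (5, 50), (4, 51), (8, 50), (7, 51), (6, 50), (5,
    51), (4, 49), (4, 53), (6, 53), (5, 53), (4, 52), (4, 54), (4, 54)]

/-- Steps. -/
def st2_101 : List (ℕ × ℕ) :=
  [(2, 16), (1, 12), (0, 10), (1, 31), (0, 28), (5, 32), (4, 31), (3, 28), (2, 31), (1, 28), (0, 27), (0, 37), (2, 37),
    (1, 37), (0, 34), (0, 50), (1, 50), (0, 49), (0, 50), (2, 50), (1, 50), (0, 49), (0, 52)]

/-- Steps. -/
def st2_102 : List (ℕ × ℕ) :=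
  [(0, 52)]

/-- Steps. -/
def st2_103 : List (ℕ × ℕ) :=
  []

/-- Steps. -/
def st2_104 : List (ℕ × ℕ) :=
  []

/-- Steps. -/
def st2_105 : List (ℕ × ℕ) :=
  [(3, 32), (2, 30), (1, 29), (0, 27), (0, 42), (4, 43), (3, 42), (2, 41), (1, 42), (0, 40), (1, 46), (0, 48), (5, 47),
    (4, 46), (3, 48), (2, 46), (1, 48), (0, 45), (0, 51), (2, 51), (1, 51), (0, 49), (1, 53), (0, 53), (2, 53), (1,
    53), (0, 52), (0, 54)]

/-- Steps. -/
def st2_106 : List (ℕ × ℕ) :=
  [(2, 36), (1, 35), (0, 34), (0, 43), (3, 43), (2, 41), (1, 43), (0, 40), (1, 47), (0, 48), (4, 47), (3, 48), (2, 47),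
    (1, 48), (0, 45), (0, 53), (2, 53), (1, 53), (0, 52), (0, 54)]

/-- Steps. -/
def st2_107 : List (ℕ × ℕ) :=
  []

/-- Steps. -/
def st2_108 : List (ℕ × ℕ) :=
  []

/-- Steps. -/
def st2_109 : List (ℕ × ℕ) :=
  [(4, 9), (3, 8), (2, 6), (1, 5), (0, 0), (5, 44), (4, 44), (3, 43), (2, 42), (1, 41), (0, 40), (0, 48), (6, 48), (5,
    48), (4, 47), (3, 46), (2, 48), (1, 48), (0, 45), (1, 51), (0, 51), (2, 53), (1, 53), (5, 53), (4, 53), (3, 53),
    (2, 53), (1, 52), (1, 54), (1, 54)]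

/-- Steps. -/
def st2_110 : List (ℕ × ℕ) :=
  [(6, 9), (5, 7), (4, 6), (3, 4), (2, 2), (1, 1), (0, 0), (19, 18), (18, 16), (17, 16), (16, 15), (15, 17), (14, 16),
    (13, 14), (12, 13), (11, 18), (10, 17), (9, 16), (8, 14), (7, 11), (6, 17), (5, 15), (4, 14), (3, 13), (2, 12),
    (1, 11), (0, 10), (1, 24), (0, 21), (18, 25), (17, 26), (16, 25), (15, 24), (14, 23), (13, 26), (12, 22), (11,
    25), (10, 21), (9, 21), (8, 20), (7, 26), (6, 22), (5, 21), (4, 26), (3, 24), (2, 26), (1, 21), (0, 19), (58, 26),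
    (57, 25), (56, 24), (55, 25), (54, 24), (53, 26), (52, 25), (51, 24), (50, 23), (49, 25), (48, 25), (47, 24), (46,
    26), (45, 22), (44, 25), (43, 21), (42, 26), (41, 25), (40, 25), (39, 24), (38, 26), (37, 22), (36, 26), (35, 22),
    (34, 21), (33, 25), (32, 26), (31, 25), (30, 26), (29, 24), (28, 24), (27, 23), (26, 26), (25, 26), (24, 22), (23,
    25), (22, 26), (21, 21), (20, 26), (19, 21), (18, 26), (17, 25), (16, 22), (15, 20), (14, 26), (13, 26), (12, 22),
    (11, 26), (10, 21), (9, 26), (8, 26), (7, 24), (6, 26), (5, 26), (4, 21), (3, 26), (2, 25), (1, 24), (0, 22), (21,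
    33), (20, 33), (19, 33), (18, 29), (17, 33), (16, 33), (15, 28), (14, 33), (13, 33), (12, 33), (11, 31), (10, 33),
    (9, 33)]

/-- Steps. -/
def st2_111 : List (ℕ × ℕ) :=
  [(8, 33), (7, 28), (6, 33), (5, 32), (4, 33), (3, 31), (2, 33), (1, 29), (7, 39), (6, 38), (5, 39), (4, 37), (3, 39),
    (2, 35), (15, 39), (14, 39), (13, 39), (12, 37), (11, 39), (10, 39), (9, 39), (8, 39), (7, 38), (6, 39), (5, 37),
    (4, 39), (3, 35), (2, 34), (28, 39), (27, 38), (26, 39), (25, 35), (24, 39), (23, 38), (22, 35), (21, 39), (20,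
    39), (19, 39), (18, 35), (17, 39), (16, 39), (15, 39), (14, 39), (13, 39), (12, 37), (11, 39), (10, 39), (9, 39),
    (8, 39), (7, 38), (6, 39), (5, 37), (4, 39), (3, 35), (2, 38), (31, 39), (30, 39), (29, 39), (28, 38), (27, 39),
    (26, 35), (25, 39), (24, 38), (23, 35), (22, 39), (21, 39), (20, 39), (19, 35), (18, 39), (17, 39), (16, 39), (15,
    39), (14, 39), (13, 37), (12, 39), (11, 39), (10, 39), (9, 39), (8, 38), (7, 39), (6, 37), (5, 39), (4, 35), (3,
    38), (2, 34), (48, 38), (47, 39), (46, 38), (45, 39), (44, 39), (43, 37), (42, 39), (41, 37), (40, 37), (39, 36),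
    (38, 39), (37, 39), (36, 39), (35, 35), (34, 38), (33, 39), (32, 39), (31, 39), (30, 39), (29, 39), (28, 38), (27,
    39), (26, 35), (25, 39), (24, 38), (23, 35), (22, 39), (21, 39), (20, 39), (19, 35), (18, 39), (17, 39), (16, 39),
    (15, 39), (14, 39)]

/-- Steps. -/
def st2_112 : List (ℕ × ℕ) :=
  [(13, 37), (12, 39), (11, 39), (10, 39), (9, 39), (8, 38), (7, 39), (6, 37), (5, 39), (4, 35), (3, 38), (2, 38), (62,
    39), (61, 38), (60, 38), (59, 39), (58, 37), (57, 39), (56, 39), (55, 35), (54, 39), (53, 39), (52, 35), (51, 39),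
    (50, 38), (49, 39), (48, 38), (47, 39), (46, 39), (45, 37), (44, 39), (43, 37), (42, 37), (41, 38), (40, 36), (39,
    39), (38, 39), (37, 39), (36, 35), (35, 38), (34, 39), (33, 39), (32, 39), (31, 39), (30, 39), (29, 38), (28, 39),
    (27, 35), (26, 39), (25, 38), (24, 35), (23, 39), (22, 39), (21, 39), (20, 35), (19, 39), (18, 39), (17, 39), (16,
    39), (15, 39), (14, 37), (13, 39), (12, 39), (11, 39), (10, 39), (9, 38), (8, 39), (7, 37), (6, 39), (5, 35), (4,
    38), (3, 38), (2, 34), (85, 39), (84, 38), (83, 39), (82, 37), (81, 38), (80, 39), (79, 37), (78, 39), (77, 38),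
    (76, 39), (75, 37), (74, 37), (73, 36), (72, 38), (71, 38), (70, 39), (69, 37), (68, 39), (67, 39), (66, 35), (65,
    38), (64, 39), (63, 39), (62, 38), (61, 38), (60, 39), (59, 37), (58, 39), (57, 39), (56, 35), (55, 39), (54, 39),
    (53, 35), (52, 39), (51, 38), (50, 39), (49, 38), (48, 39), (47, 39), (46, 37), (45, 39), (44, 37), (43, 37), (42,
    38), (41, 38), (40, 36), (39, 39)]

/-- Steps. -/
def st2_113 : List (ℕ × ℕ) :=
  [(38, 39), (37, 39), (36, 35), (35, 38), (34, 39), (33, 39), (32, 39), (31, 39), (30, 39), (29, 38), (28, 39), (27,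
    35), (26, 39), (25, 38), (24, 35), (23, 39), (22, 39), (21, 39), (20, 35), (19, 39), (18, 39), (17, 39), (16, 39),
    (15, 39), (14, 37), (13, 39), (12, 39), (11, 39), (10, 39), (9, 38), (8, 39), (7, 37), (6, 39), (5, 35), (4, 38),
    (3, 38), (2, 38), (5, 43), (4, 43), (3, 43), (20, 44), (19, 44), (18, 44), (17, 44), (16, 44), (15, 42), (14, 44),
    (13, 44), (12, 44), (11, 44), (10, 43), (9, 44), (8, 42), (7, 44), (6, 43), (5, 43), (4, 43), (3, 40), (23, 44),
    (22, 44), (21, 44), (20, 44), (19, 44), (18, 44), (17, 44), (16, 44), (15, 42), (14, 44), (13, 44), (12, 44), (11,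
    44), (10, 43), (9, 44), (8, 42), (7, 44), (6, 43), (5, 43), (4, 43), (3, 44), (26, 44), (25, 43), (24, 44), (23,
    44), (22, 44), (21, 44), (20, 44), (19, 44), (18, 44), (17, 44), (16, 42), (15, 44), (14, 44), (13, 44), (12, 44),
    (11, 43), (10, 44), (9, 42), (8, 44), (7, 43), (6, 43), (5, 43), (4, 44), (3, 40), (34, 43), (33, 44), (32, 44),
    (31, 44), (30, 44), (29, 44), (28, 43), (27, 44), (26, 44), (25, 43), (24, 44), (23, 44), (22, 44), (21, 44), (20,
    44), (19, 44), (18, 44)]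

/-- Steps. -/
def st2_114 : List (ℕ × ℕ) :=
  [(17, 44), (16, 42), (15, 44), (14, 44), (13, 44), (12, 44), (11, 43), (10, 44), (9, 42), (8, 44), (7, 43), (6, 43),
    (5, 43), (4, 44), (3, 44), (52, 44), (51, 43), (50, 44), (49, 43), (48, 44), (47, 44), (46, 42), (45, 44), (44,
    42), (43, 42), (42, 43), (41, 43), (40, 43), (39, 41), (38, 44), (37, 44), (36, 44), (35, 43), (34, 44), (33, 44),
    (32, 44), (31, 44), (30, 44), (29, 43), (28, 44), (27, 44), (26, 43), (25, 44), (24, 44), (23, 44), (22, 44), (21,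
    44), (20, 44), (19, 44), (18, 44), (17, 42), (16, 44), (15, 44), (14, 44), (13, 44), (12, 43), (11, 44), (10, 42),
    (9, 44), (8, 43), (7, 43), (6, 43), (5, 44), (4, 44), (3, 40), (55, 44), (54, 44), (53, 44), (52, 43), (51, 44),
    (50, 43), (49, 44), (48, 44), (47, 42), (46, 44), (45, 42), (44, 42), (43, 43), (42, 43), (41, 43), (40, 44), (39,
    41), (38, 44), (37, 44), (36, 44), (35, 43), (34, 44), (33, 44), (32, 44), (31, 44), (30, 44), (29, 43), (28, 44),
    (27, 44), (26, 43), (25, 44), (24, 44), (23, 44), (22, 44), (21, 44), (20, 44), (19, 44), (18, 44), (17, 42), (16,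
    44), (15, 44), (14, 44), (13, 44), (12, 43), (11, 44), (10, 42), (9, 44), (8, 43), (7, 43), (6, 43), (5, 44), (4,
    44), (3, 44), (66, 43), (65, 44)]

/-- Steps. -/
def st2_115 : List (ℕ × ℕ) :=
  [(64, 44), (63, 43), (62, 43), (61, 44), (60, 42), (59, 44), (58, 44), (57, 44), (56, 44), (55, 44), (54, 43), (53,
    44), (52, 43), (51, 44), (50, 44), (49, 42), (48, 44), (47, 42), (46, 42), (45, 43), (44, 43), (43, 43), (42, 44),
    (41, 44), (40, 41), (39, 44), (38, 44), (37, 44), (36, 43), (35, 44), (34, 44), (33, 44), (32, 44), (31, 44), (30,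
    43), (29, 44), (28, 44), (27, 43), (26, 44), (25, 44), (24, 44), (23, 44), (22, 44), (21, 44), (20, 44), (19, 44),
    (18, 42), (17, 44), (16, 44), (15, 44), (14, 44), (13, 43), (12, 44), (11, 42), (10, 44), (9, 43), (8, 43), (7,
    43), (6, 44), (5, 44), (4, 44), (3, 40), (39, 48), (38, 48), (37, 48), (36, 47), (35, 48), (34, 48), (33, 48),
    (32, 48), (31, 48), (30, 47), (29, 48), (28, 48), (27, 47), (26, 48), (25, 48), (24, 48), (23, 48), (22, 48), (21,
    48), (20, 48), (19, 48), (18, 46), (17, 48), (16, 48), (15, 48), (14, 48), (13, 47), (12, 48), (11, 46), (10, 48),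
    (9, 47), (8, 47), (7, 47), (6, 48), (5, 48), (4, 48), (3, 48), (73, 47), (72, 47), (71, 48), (70, 46), (69, 48),
    (68, 48), (67, 47), (66, 48), (65, 48), (64, 47), (63, 47), (62, 48), (61, 46), (60, 48), (59, 48), (58, 48), (57,
    48), (56, 48), (55, 47), (54, 48), (53, 47)]

/-- Steps. -/
def st2_116 : List (ℕ × ℕ) :=
  [(52, 48), (51, 48), (50, 46), (49, 48), (48, 46), (47, 46), (46, 47), (45, 47), (44, 47), (43, 48), (42, 48), (41,
    48), (40, 48), (39, 48), (38, 48), (37, 47), (36, 48), (35, 48), (34, 48), (33, 48), (32, 48), (31, 47), (30, 48),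
    (29, 48), (28, 47), (27, 48), (26, 48), (25, 48), (24, 48), (23, 48), (22, 48), (21, 48), (20, 48), (19, 46), (18,
    48), (17, 48), (16, 48), (15, 48), (14, 47), (13, 48), (12, 46), (11, 48), (10, 47), (9, 47), (8, 47), (7, 48),
    (6, 48), (5, 48), (4, 48), (3, 45), (85, 48), (84, 47), (83, 48), (82, 46), (81, 47), (80, 48), (79, 46), (78,
    48), (77, 47), (76, 48), (75, 46), (74, 46), (73, 47), (72, 47), (71, 47), (70, 48), (69, 46), (68, 48), (67, 48),
    (66, 47), (65, 48), (64, 48), (63, 47), (62, 47), (61, 48), (60, 46), (59, 48), (58, 48), (57, 48), (56, 48), (55,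
    48), (54, 47), (53, 48), (52, 47), (51, 48), (50, 48), (49, 46), (48, 48), (47, 46), (46, 46), (45, 47), (44, 47),
    (43, 47), (42, 48), (41, 48), (40, 48), (39, 48), (38, 48), (37, 48), (36, 47), (35, 48), (34, 48), (33, 48), (32,
    48), (31, 48), (30, 47), (29, 48), (28, 48), (27, 47), (26, 48), (25, 48), (24, 48), (23, 48), (22, 48), (21, 48),
    (20, 48), (19, 48), (18, 46), (17, 48), (16, 48)]

/-- Steps. -/
def st2_117 : List (ℕ × ℕ) :=
  [(15, 48), (14, 48), (13, 47), (12, 48), (11, 46), (10, 48), (9, 47), (8, 47), (7, 47), (6, 48), (5, 48), (4, 48), (3,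
    48), (11, 51), (10, 50), (9, 50), (8, 50), (7, 51), (6, 51), (5, 51), (4, 51), (18, 51), (17, 51), (16, 51), (15,
    51), (14, 50), (13, 51), (12, 51), (11, 50), (10, 50), (9, 50), (8, 51), (7, 51), (6, 51), (5, 51), (4, 49), (44,
    50), (43, 50), (42, 50), (41, 51), (40, 51), (39, 51), (38, 51), (37, 51), (36, 51), (35, 50), (34, 51), (33, 51),
    (32, 51), (31, 51), (30, 51), (29, 50), (28, 51), (27, 51), (26, 50), (25, 51), (24, 51), (23, 51), (22, 51), (21,
    51), (20, 51), (19, 51), (18, 51), (17, 51), (16, 51), (15, 51), (14, 51), (13, 50), (12, 51), (11, 51), (10, 50),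
    (9, 50), (8, 50), (7, 51), (6, 51), (5, 51), (4, 51), (45, 50), (44, 50), (43, 50), (42, 51), (41, 51), (40, 51),
    (39, 51), (38, 51), (37, 51), (36, 50), (35, 51), (34, 51), (33, 51), (32, 51), (31, 51), (30, 50), (29, 51), (28,
    51), (27, 50), (26, 51), (25, 51), (24, 51), (23, 51), (22, 51), (21, 51), (20, 51), (19, 51), (18, 51), (17, 51),
    (16, 51), (15, 51), (14, 50), (13, 51), (12, 51), (11, 50), (10, 50), (9, 50), (8, 51), (7, 51), (6, 51), (5, 51),
    (4, 49), (45, 51)]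

/-- Steps. -/
def st2_118 : List (ℕ × ℕ) :=
  [(44, 50), (43, 50), (42, 50), (41, 51), (40, 51), (39, 51), (38, 51), (37, 51), (36, 51), (35, 50), (34, 51), (33,
    51), (32, 51), (31, 51), (30, 51), (29, 50), (28, 51), (27, 51), (26, 50), (25, 51), (24, 51), (23, 51), (22, 51),
    (21, 51), (20, 51), (19, 51), (18, 51), (17, 51), (16, 51), (15, 51), (14, 51), (13, 50), (12, 51), (11, 51), (10,
    50), (9, 50), (8, 50), (7, 51), (6, 51), (5, 51), (4, 51), (56, 51), (55, 51), (54, 51), (53, 51), (52, 51), (51,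
    50), (50, 51), (49, 50), (48, 51), (47, 51), (46, 51), (45, 50), (44, 50), (43, 50), (42, 51), (41, 51), (40, 51),
    (39, 51), (38, 51), (37, 51), (36, 50), (35, 51), (34, 51), (33, 51), (32, 51), (31, 51), (30, 50), (29, 51), (28,
    51), (27, 50), (26, 51), (25, 51), (24, 51), (23, 51), (22, 51), (21, 51), (20, 51), (19, 51), (18, 51), (17, 51),
    (16, 51), (15, 51), (14, 50), (13, 51), (12, 51), (11, 50), (10, 50), (9, 50), (8, 51), (7, 51), (6, 51), (5, 51),
    (4, 49), (63, 51), (62, 51), (61, 50), (60, 51), (59, 51), (58, 50), (57, 50), (56, 51), (55, 51), (54, 51), (53,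
    51), (52, 51), (51, 51), (50, 50), (49, 51), (48, 50), (47, 51), (46, 51), (45, 51), (44, 50), (43, 50), (42, 50),
    (41, 51), (40, 51), (39, 51), (38, 51)]

/-- Steps. -/
def st2_119 : List (ℕ × ℕ) :=
  [(37, 51), (36, 51), (35, 50), (34, 51), (33, 51), (32, 51), (31, 51), (30, 51), (29, 50), (28, 51), (27, 51), (26,
    50), (25, 51), (24, 51), (23, 51), (22, 51), (21, 51), (20, 51), (19, 51), (18, 51), (17, 51), (16, 51), (15, 51),
    (14, 51), (13, 50), (12, 51), (11, 51), (10, 50), (9, 50), (8, 50), (7, 51), (6, 51), (5, 51), (4, 51), (68, 50),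
    (67, 50), (66, 50), (65, 51), (64, 51), (63, 51), (62, 50), (61, 51), (60, 51), (59, 50), (58, 50), (57, 51), (56,
    51), (55, 51), (54, 51), (53, 51), (52, 51), (51, 50), (50, 51), (49, 50), (48, 51), (47, 51), (46, 51), (45, 50),
    (44, 50), (43, 50), (42, 51), (41, 51), (40, 51), (39, 51), (38, 51), (37, 51), (36, 50), (35, 51), (34, 51), (33,
    51), (32, 51), (31, 51), (30, 50), (29, 51), (28, 51), (27, 50), (26, 51), (25, 51), (24, 51), (23, 51), (22, 51),
    (21, 51), (20, 51), (19, 51), (18, 51), (17, 51), (16, 51), (15, 51), (14, 50), (13, 51), (12, 51), (11, 50), (10,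
    50), (9, 50), (8, 51), (7, 51), (6, 51), (5, 51), (4, 49), (67, 50), (66, 50), (65, 50), (64, 51), (63, 51), (62,
    51), (61, 50), (60, 51), (59, 51), (58, 50), (57, 50), (56, 51), (55, 51), (54, 51), (53, 51), (52, 51), (51, 51),
    (50, 50), (49, 51), (48, 50), (47, 51)]

/-- Steps. -/
def st2_120 : List (ℕ × ℕ) :=
  [(46, 51), (45, 51), (44, 50), (43, 50), (42, 50), (41, 51), (40, 51), (39, 51), (38, 51), (37, 51), (36, 51), (35,
    50), (34, 51), (33, 51), (32, 51), (31, 51), (30, 51), (29, 50), (28, 51), (27, 51), (26, 50), (25, 51), (24, 51),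
    (23, 51), (22, 51), (21, 51), (20, 51), (19, 51), (18, 51), (17, 51), (16, 51), (15, 51), (14, 51), (13, 50), (12,
    51), (11, 51), (10, 50), (9, 50), (8, 50), (7, 51), (6, 51), (5, 51), (4, 51), (71, 51), (70, 50), (69, 51), (68,
    50), (67, 50), (66, 50), (65, 51), (64, 51), (63, 51), (62, 50), (61, 51), (60, 51), (59, 50), (58, 50), (57, 51),
    (56, 51), (55, 51), (54, 51), (53, 51), (52, 51), (51, 50), (50, 51), (49, 50), (48, 51), (47, 51), (46, 51), (45,
    50), (44, 50), (43, 50), (42, 51), (41, 51), (40, 51), (39, 51), (38, 51), (37, 51), (36, 50), (35, 51), (34, 51),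
    (33, 51), (32, 51), (31, 51), (30, 50), (29, 51), (28, 51), (27, 50), (26, 51), (25, 51), (24, 51), (23, 51), (22,
    51), (21, 51), (20, 51), (19, 51), (18, 51), (17, 51), (16, 51), (15, 51), (14, 50), (13, 51), (12, 51), (11, 50),
    (10, 50), (9, 50), (8, 51), (7, 51), (6, 51), (5, 51), (4, 49), (72, 50), (71, 51), (70, 51), (69, 50), (68, 51),
    (67, 50), (66, 50), (65, 50), (64, 51)]

/-- Steps. -/
def st2_121 : List (ℕ × ℕ) :=
  [(63, 51), (62, 51), (61, 50), (60, 51), (59, 51), (58, 50), (57, 50), (56, 51), (55, 51), (54, 51), (53, 51), (52,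
    51), (51, 51), (50, 50), (49, 51), (48, 50), (47, 51), (46, 51), (45, 51), (44, 50), (43, 50), (42, 50), (41, 51),
    (40, 51), (39, 51), (38, 51), (37, 51), (36, 51), (35, 50), (34, 51), (33, 51), (32, 51), (31, 51), (30, 51), (29,
    50), (28, 51), (27, 51), (26, 50), (25, 51), (24, 51), (23, 51), (22, 51), (21, 51), (20, 51), (19, 51), (18, 51),
    (17, 51), (16, 51), (15, 51), (14, 51), (13, 50), (12, 51), (11, 51), (10, 50), (9, 50), (8, 50), (7, 51), (6,
    51), (5, 51), (4, 51), (76, 51), (75, 50), (74, 51), (73, 50), (72, 51), (71, 51), (70, 50), (69, 51), (68, 50),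
    (67, 50), (66, 50), (65, 51), (64, 51), (63, 51), (62, 50), (61, 51), (60, 51), (59, 50), (58, 50), (57, 51), (56,
    51), (55, 51), (54, 51), (53, 51), (52, 51), (51, 50), (50, 51), (49, 50), (48, 51), (47, 51), (46, 51), (45, 50),
    (44, 50), (43, 50), (42, 51), (41, 51), (40, 51), (39, 51), (38, 51), (37, 51), (36, 50), (35, 51), (34, 51), (33,
    51), (32, 51), (31, 51), (30, 50), (29, 51), (28, 51), (27, 50), (26, 51), (25, 51), (24, 51), (23, 51), (22, 51),
    (21, 51), (20, 51), (19, 51), (18, 51), (17, 51)]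

/-- Steps. -/
def st2_122 : List (ℕ × ℕ) :=
  [(16, 51), (15, 51), (14, 50), (13, 51), (12, 51), (11, 50), (10, 50), (9, 50), (8, 51), (7, 51), (6, 51), (5, 51),
    (4, 49), (7, 53), (6, 53), (5, 53), (4, 53), (8, 53), (7, 53), (6, 53), (5, 53), (4, 52), (7, 53), (6, 53), (5,
    53), (4, 53), (10, 53), (9, 53), (8, 53), (7, 53), (6, 53), (5, 53), (4, 52), (21, 53), (20, 53), (19, 53), (18,
    53), (17, 53), (16, 53), (15, 53), (14, 53), (13, 53), (12, 53), (11, 53), (10, 53), (9, 53), (8, 53), (7, 53),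
    (6, 53), (5, 53), (4, 53), (24, 53), (23, 53), (22, 53), (21, 53), (20, 53), (19, 53), (18, 53), (17, 53), (16,
    53), (15, 53), (14, 53), (13, 53), (12, 53), (11, 53), (10, 53), (9, 53), (8, 53), (7, 53), (6, 53), (5, 53), (4,
    52), (28, 53), (27, 53), (26, 53), (25, 53), (24, 53), (23, 53), (22, 53), (21, 53), (20, 53), (19, 53), (18, 53),
    (17, 53), (16, 53), (15, 53), (14, 53), (13, 53), (12, 53), (11, 53), (10, 53), (9, 53), (8, 53), (7, 53), (6,
    53), (5, 53), (4, 53), (35, 53), (34, 53), (33, 53), (32, 53), (31, 53), (30, 53), (29, 53), (28, 53), (27, 53),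
    (26, 53), (25, 53), (24, 53), (23, 53), (22, 53), (21, 53), (20, 53), (19, 53), (18, 53), (17, 53), (16, 53), (15,
    53), (14, 53), (13, 53)]

/-- Steps. -/
def st2_123 : List (ℕ × ℕ) :=
  [(12, 53), (11, 53), (10, 53), (9, 53), (8, 53), (7, 53), (6, 53), (5, 53), (4, 52), (34, 53), (33, 53), (32, 53),
    (31, 53), (30, 53), (29, 53), (28, 53), (27, 53), (26, 53), (25, 53), (24, 53), (23, 53), (22, 53), (21, 53), (20,
    53), (19, 53), (18, 53), (17, 53), (16, 53), (15, 53), (14, 53), (13, 53), (12, 53), (11, 53), (10, 53), (9, 53),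
    (8, 53), (7, 53), (6, 53), (5, 53), (4, 53), (35, 53), (34, 53), (33, 53), (32, 53), (31, 53), (30, 53), (29, 53),
    (28, 53), (27, 53), (26, 53), (25, 53), (24, 53), (23, 53), (22, 53), (21, 53), (20, 53), (19, 53), (18, 53), (17,
    53), (16, 53), (15, 53), (14, 53), (13, 53), (12, 53), (11, 53), (10, 53), (9, 53), (8, 53), (7, 53), (6, 53), (5,
    53), (4, 52), (37, 53), (36, 53), (35, 53), (34, 53), (33, 53), (32, 53), (31, 53), (30, 53), (29, 53), (28, 53),
    (27, 53), (26, 53), (25, 53), (24, 53), (23, 53), (22, 53), (21, 53), (20, 53), (19, 53), (18, 53), (17, 53), (16,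
    53), (15, 53), (14, 53), (13, 53), (12, 53), (11, 53), (10, 53), (9, 53), (8, 53), (7, 53), (6, 53), (5, 53), (4,
    53), (39, 53), (38, 53), (37, 53), (36, 53), (35, 53), (34, 53), (33, 53), (32, 53), (31, 53), (30, 53), (29, 53),
    (28, 53), (27, 53), (26, 53)]

/-- Steps. -/
def st2_124 : List (ℕ × ℕ) :=
  [(25, 53), (24, 53), (23, 53), (22, 53), (21, 53), (20, 53), (19, 53), (18, 53), (17, 53), (16, 53), (15, 53), (14,
    53), (13, 53), (12, 53), (11, 53), (10, 53), (9, 53), (8, 53), (7, 53), (6, 53), (5, 53), (4, 52), (44, 53), (43,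
    53), (42, 53), (41, 53), (40, 53), (39, 53), (38, 53), (37, 53), (36, 53), (35, 53), (34, 53), (33, 53), (32, 53),
    (31, 53), (30, 53), (29, 53), (28, 53), (27, 53), (26, 53), (25, 53), (24, 53), (23, 53), (22, 53), (21, 53), (20,
    53), (19, 53), (18, 53), (17, 53), (16, 53), (15, 53), (14, 53), (13, 53), (12, 53), (11, 53), (10, 53), (9, 53),
    (8, 53), (7, 53), (6, 53), (5, 53), (4, 53), (45, 53), (44, 53), (43, 53), (42, 53), (41, 53), (40, 53), (39, 53),
    (38, 53), (37, 53), (36, 53), (35, 53), (34, 53), (33, 53), (32, 53), (31, 53), (30, 53), (29, 53), (28, 53), (27,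
    53), (26, 53), (25, 53), (24, 53), (23, 53), (22, 53), (21, 53), (20, 53), (19, 53), (18, 53), (17, 53), (16, 53),
    (15, 53), (14, 53), (13, 53), (12, 53), (11, 53), (10, 53), (9, 53), (8, 53), (7, 53), (6, 53), (5, 53), (4, 52),
    (46, 53), (45, 53), (44, 53), (43, 53), (42, 53), (41, 53), (40, 53), (39, 53), (38, 53), (37, 53), (36, 53), (35,
    53), (34, 53), (33, 53), (32, 53)]

/-- Steps. -/
def st2_125 : List (ℕ × ℕ) :=
  [(31, 53), (30, 53), (29, 53), (28, 53), (27, 53), (26, 53), (25, 53), (24, 53), (23, 53), (22, 53), (21, 53), (20,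
    53), (19, 53), (18, 53), (17, 53), (16, 53), (15, 53), (14, 53), (13, 53), (12, 53), (11, 53), (10, 53), (9, 53),
    (8, 53), (7, 53), (6, 53), (5, 53), (4, 53), (50, 53), (49, 53), (48, 53), (47, 53), (46, 53), (45, 53), (44, 53),
    (43, 53), (42, 53), (41, 53), (40, 53), (39, 53), (38, 53), (37, 53), (36, 53), (35, 53), (34, 53), (33, 53), (32,
    53), (31, 53), (30, 53), (29, 53), (28, 53), (27, 53), (26, 53), (25, 53), (24, 53), (23, 53), (22, 53), (21, 53),
    (20, 53), (19, 53), (18, 53), (17, 53), (16, 53), (15, 53), (14, 53), (13, 53), (12, 53), (11, 53), (10, 53), (9,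
    53), (8, 53), (7, 53), (6, 53), (5, 53), (4, 52), (49, 53), (48, 53), (47, 53), (46, 53), (45, 53), (44, 53), (43,
    53), (42, 53), (41, 53), (40, 53), (39, 53), (38, 53), (37, 53), (36, 53), (35, 53), (34, 53), (33, 53), (32, 53),
    (31, 53), (30, 53), (29, 53), (28, 53), (27, 53), (26, 53), (25, 53), (24, 53), (23, 53), (22, 53), (21, 53), (20,
    53), (19, 53), (18, 53), (17, 53), (16, 53), (15, 53), (14, 53), (13, 53), (12, 53), (11, 53), (10, 53), (9, 53),
    (8, 53), (7, 53), (6, 53), (5, 53)]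

/-- Steps. -/
def st2_126 : List (ℕ × ℕ) :=
  [(4, 53), (50, 53), (49, 53), (48, 53), (47, 53), (46, 53), (45, 53), (44, 53), (43, 53), (42, 53), (41, 53), (40,
    53), (39, 53), (38, 53), (37, 53), (36, 53), (35, 53), (34, 53), (33, 53), (32, 53), (31, 53), (30, 53), (29, 53),
    (28, 53), (27, 53), (26, 53), (25, 53), (24, 53), (23, 53), (22, 53), (21, 53), (20, 53), (19, 53), (18, 53), (17,
    53), (16, 53), (15, 53), (14, 53), (13, 53), (12, 53), (11, 53), (10, 53), (9, 53), (8, 53), (7, 53), (6, 53), (5,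
    53), (4, 52), (50, 53), (49, 53), (48, 53), (47, 53), (46, 53), (45, 53), (44, 53), (43, 53), (42, 53), (41, 53),
    (40, 53), (39, 53), (38, 53), (37, 53), (36, 53), (35, 53), (34, 53), (33, 53), (32, 53), (31, 53), (30, 53), (29,
    53), (28, 53), (27, 53), (26, 53), (25, 53), (24, 53), (23, 53), (22, 53), (21, 53), (20, 53), (19, 53), (18, 53),
    (17, 53), (16, 53), (15, 53), (14, 53), (13, 53), (12, 53), (11, 53), (10, 53), (9, 53), (8, 53), (7, 53), (6,
    53), (5, 53), (4, 53), (53, 53), (52, 53), (51, 53), (50, 53), (49, 53), (48, 53), (47, 53), (46, 53), (45, 53),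
    (44, 53), (43, 53), (42, 53), (41, 53), (40, 53), (39, 53), (38, 53), (37, 53), (36, 53), (35, 53), (34, 53), (33,
    53), (32, 53), (31, 53), (30, 53), (29, 53)]

/-- Steps. -/
def st2_127 : List (ℕ × ℕ) :=
  [(28, 53), (27, 53), (26, 53), (25, 53), (24, 53), (23, 53), (22, 53), (21, 53), (20, 53), (19, 53), (18, 53), (17,
    53), (16, 53), (15, 53), (14, 53), (13, 53), (12, 53), (11, 53), (10, 53), (9, 53), (8, 53), (7, 53), (6, 53), (5,
    53), (4, 52), (53, 53), (52, 53), (51, 53), (50, 53), (49, 53), (48, 53), (47, 53), (46, 53), (45, 53), (44, 53),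
    (43, 53), (42, 53), (41, 53), (40, 53), (39, 53), (38, 53), (37, 53), (36, 53), (35, 53), (34, 53), (33, 53), (32,
    53), (31, 53), (30, 53), (29, 53), (28, 53), (27, 53), (26, 53), (25, 53), (24, 53), (23, 53), (22, 53), (21, 53),
    (20, 53), (19, 53), (18, 53), (17, 53), (16, 53), (15, 53), (14, 53), (13, 53), (12, 53), (11, 53), (10, 53), (9,
    53), (8, 53), (7, 53), (6, 53), (5, 53), (4, 53), (5, 54), (5, 54), (5, 54), (5, 54), (5, 54), (5, 54), (5, 54),
    (5, 54), (5, 54), (5, 54), (5, 54), (5, 54), (5, 54), (5, 54), (5, 54), (5, 54), (5, 54), (5, 54), (5, 54), (5,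
    54), (5, 54), (5, 54), (5, 54), (5, 54), (5, 54), (5, 54)]

/-- Steps. -/
def st2_128 : List (ℕ × ℕ) :=
  []

/-- Steps. -/
def st2_129 : List (ℕ × ℕ) :=
  []

/-- Steps. -/
def st2_130 : List (ℕ × ℕ) :=
  [(3, 8), (2, 7), (1, 5), (0, 0), (3, 44), (2, 43), (1, 42), (0, 40), (3, 48), (2, 47), (1, 46), (0, 48), (1, 51), (2,
    53), (4, 53), (3, 53), (2, 52), (2, 54)]

/-- Steps. -/
def st2_131 : List (ℕ × ℕ) :=
  [(4, 6), (3, 5), (2, 4), (1, 2), (0, 1), (19, 16), (18, 15), (17, 14), (16, 17), (15, 16), (14, 14), (13, 13), (12,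
    18), (11, 17), (10, 16), (9, 14), (8, 11), (7, 17), (6, 15), (5, 14), (4, 13), (3, 12), (2, 11), (1, 10), (2, 24),
    (1, 21), (19, 25), (18, 26), (17, 25), (16, 24), (15, 23), (14, 26), (13, 22), (12, 25), (11, 21), (10, 21), (9,
    20), (8, 26), (7, 22), (6, 21), (5, 26), (4, 24), (3, 26), (2, 21), (1, 19), (58, 25), (57, 24), (56, 26), (55,
    25), (54, 24), (53, 23), (52, 26), (51, 22), (50, 25), (49, 25), (48, 24), (47, 26), (46, 22), (45, 25), (44, 21),
    (43, 26), (42, 25), (41, 25), (40, 24), (39, 26), (38, 22), (37, 26), (36, 22), (35, 21), (34, 25), (33, 26), (32,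
    25), (31, 26), (30, 24), (29, 24), (28, 23), (27, 26), (26, 26), (25, 22), (24, 25), (23, 26), (22, 21), (21, 26),
    (20, 21), (19, 26), (18, 25), (17, 22), (16, 20), (15, 26), (14, 26), (13, 22), (12, 26), (11, 21), (10, 26), (9,
    26), (8, 24), (7, 26), (6, 26), (5, 21), (4, 26), (3, 25), (2, 24), (1, 22), (22, 33), (21, 33), (20, 33), (19,
    29), (18, 33), (17, 33), (16, 28), (15, 33), (14, 33), (13, 33), (12, 31), (11, 33), (10, 33), (9, 33), (8, 28),
    (7, 33), (6, 32)]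

/-- Steps. -/
def st2_132 : List (ℕ × ℕ) :=
  [(5, 33), (4, 31), (3, 33), (2, 29), (8, 39), (7, 38), (6, 39), (5, 37), (4, 39), (3, 35), (16, 39), (15, 39), (14,
    39), (13, 37), (12, 39), (11, 39), (10, 39), (9, 39), (8, 38), (7, 39), (6, 37), (5, 39), (4, 35), (3, 34), (29,
    39), (28, 38), (27, 39), (26, 35), (25, 39), (24, 38), (23, 35), (22, 39), (21, 39), (20, 39), (19, 35), (18, 39),
    (17, 39), (16, 39), (15, 39), (14, 39), (13, 37), (12, 39), (11, 39), (10, 39), (9, 39), (8, 38), (7, 39), (6,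
    37), (5, 39), (4, 35), (3, 38), (32, 39), (31, 39), (30, 39), (29, 38), (28, 39), (27, 35), (26, 39), (25, 38),
    (24, 35), (23, 39), (22, 39), (21, 39), (20, 35), (19, 39), (18, 39), (17, 39), (16, 39), (15, 39), (14, 37), (13,
    39), (12, 39), (11, 39), (10, 39), (9, 38), (8, 39), (7, 37), (6, 39), (5, 35), (4, 38), (3, 34), (49, 38), (48,
    39), (47, 38), (46, 39), (45, 39), (44, 37), (43, 39), (42, 37), (41, 37), (40, 36), (39, 39), (38, 39), (37, 39),
    (36, 35), (35, 38), (34, 39), (33, 39), (32, 39), (31, 39), (30, 39), (29, 38), (28, 39), (27, 35), (26, 39), (25,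
    38), (24, 35), (23, 39), (22, 39), (21, 39), (20, 35), (19, 39), (18, 39), (17, 39), (16, 39), (15, 39), (14, 37),
    (13, 39), (12, 39), (11, 39)]

/-- Steps. -/
def st2_133 : List (ℕ × ℕ) :=
  [(10, 39), (9, 38), (8, 39), (7, 37), (6, 39), (5, 35), (4, 38), (3, 38), (63, 39), (62, 38), (61, 38), (60, 39), (59,
    37), (58, 39), (57, 39), (56, 35), (55, 39), (54, 39), (53, 35), (52, 39), (51, 38), (50, 39), (49, 38), (48, 39),
    (47, 39), (46, 37), (45, 39), (44, 37), (43, 37), (42, 38), (41, 36), (40, 39), (39, 39), (38, 39), (37, 35), (36,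
    38), (35, 39), (34, 39), (33, 39), (32, 39), (31, 39), (30, 38), (29, 39), (28, 35), (27, 39), (26, 38), (25, 35),
    (24, 39), (23, 39), (22, 39), (21, 35), (20, 39), (19, 39), (18, 39), (17, 39), (16, 39), (15, 37), (14, 39), (13,
    39), (12, 39), (11, 39), (10, 38), (9, 39), (8, 37), (7, 39), (6, 35), (5, 38), (4, 38), (3, 34), (85, 38), (84,
    39), (83, 37), (82, 39), (81, 38), (80, 39), (79, 37), (78, 37), (77, 36), (76, 39), (75, 39), (74, 35), (73, 38),
    (72, 38), (71, 39), (70, 37), (69, 39), (68, 39), (67, 35), (66, 38), (65, 39), (64, 39), (63, 38), (62, 38), (61,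
    39), (60, 37), (59, 39), (58, 39), (57, 35), (56, 39), (55, 39), (54, 35), (53, 39), (52, 38), (51, 39), (50, 38),
    (49, 39), (48, 39), (47, 37), (46, 39), (45, 37), (44, 37), (43, 38), (42, 38), (41, 36), (40, 39), (39, 39), (38,
    39), (37, 35), (36, 38), (35, 39)]

/-- Steps. -/
def st2_134 : List (ℕ × ℕ) :=
  [(34, 39), (33, 39), (32, 39), (31, 39), (30, 38), (29, 39), (28, 35), (27, 39), (26, 38), (25, 35), (24, 39), (23,
    39), (22, 39), (21, 35), (20, 39), (19, 39), (18, 39), (17, 39), (16, 39), (15, 37), (14, 39), (13, 39), (12, 39),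
    (11, 39), (10, 38), (9, 39), (8, 37), (7, 39), (6, 35), (5, 38), (4, 38), (3, 38), (6, 43), (5, 43), (4, 43), (21,
    44), (20, 44), (19, 44), (18, 44), (17, 44), (16, 42), (15, 44), (14, 44), (13, 44), (12, 44), (11, 43), (10, 44),
    (9, 42), (8, 44), (7, 43), (6, 43), (5, 43), (4, 40), (24, 44), (23, 44), (22, 44), (21, 44), (20, 44), (19, 44),
    (18, 44), (17, 44), (16, 42), (15, 44), (14, 44), (13, 44), (12, 44), (11, 43), (10, 44), (9, 42), (8, 44), (7,
    43), (6, 43), (5, 43), (4, 44), (27, 44), (26, 43), (25, 44), (24, 44), (23, 44), (22, 44), (21, 44), (20, 44),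
    (19, 44), (18, 44), (17, 42), (16, 44), (15, 44), (14, 44), (13, 44), (12, 43), (11, 44), (10, 42), (9, 44), (8,
    43), (7, 43), (6, 43), (5, 44), (4, 40), (35, 43), (34, 44), (33, 44), (32, 44), (31, 44), (30, 44), (29, 43),
    (28, 44), (27, 44), (26, 43), (25, 44), (24, 44), (23, 44), (22, 44), (21, 44), (20, 44), (19, 44), (18, 44), (17,
    42), (16, 44), (15, 44), (14, 44)]

/-- Steps. -/
def st2_135 : List (ℕ × ℕ) :=
  [(13, 44), (12, 43), (11, 44), (10, 42), (9, 44), (8, 43), (7, 43), (6, 43), (5, 44), (4, 44), (53, 44), (52, 43),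
    (51, 44), (50, 43), (49, 44), (48, 44), (47, 42), (46, 44), (45, 42), (44, 42), (43, 43), (42, 43), (41, 43), (40,
    41), (39, 44), (38, 44), (37, 44), (36, 43), (35, 44), (34, 44), (33, 44), (32, 44), (31, 44), (30, 43), (29, 44),
    (28, 44), (27, 43), (26, 44), (25, 44), (24, 44), (23, 44), (22, 44), (21, 44), (20, 44), (19, 44), (18, 42), (17,
    44), (16, 44), (15, 44), (14, 44), (13, 43), (12, 44), (11, 42), (10, 44), (9, 43), (8, 43), (7, 43), (6, 44), (5,
    44), (4, 40), (56, 44), (55, 44), (54, 44), (53, 43), (52, 44), (51, 43), (50, 44), (49, 44), (48, 42), (47, 44),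
    (46, 42), (45, 42), (44, 43), (43, 43), (42, 43), (41, 44), (40, 41), (39, 44), (38, 44), (37, 44), (36, 43), (35,
    44), (34, 44), (33, 44), (32, 44), (31, 44), (30, 43), (29, 44), (28, 44), (27, 43), (26, 44), (25, 44), (24, 44),
    (23, 44), (22, 44), (21, 44), (20, 44), (19, 44), (18, 42), (17, 44), (16, 44), (15, 44), (14, 44), (13, 43), (12,
    44), (11, 42), (10, 44), (9, 43), (8, 43), (7, 43), (6, 44), (5, 44), (4, 44), (67, 43), (66, 44), (65, 44), (64,
    43), (63, 43), (62, 44), (61, 42)]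

/-- Steps. -/
def st2_136 : List (ℕ × ℕ) :=
  [(60, 44), (59, 44), (58, 44), (57, 44), (56, 44), (55, 43), (54, 44), (53, 43), (52, 44), (51, 44), (50, 42), (49,
    44), (48, 42), (47, 42), (46, 43), (45, 43), (44, 43), (43, 44), (42, 44), (41, 41), (40, 44), (39, 44), (38, 44),
    (37, 43), (36, 44), (35, 44), (34, 44), (33, 44), (32, 44), (31, 43), (30, 44), (29, 44), (28, 43), (27, 44), (26,
    44), (25, 44), (24, 44), (23, 44), (22, 44), (21, 44), (20, 44), (19, 42), (18, 44), (17, 44), (16, 44), (15, 44),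
    (14, 43), (13, 44), (12, 42), (11, 44), (10, 43), (9, 43), (8, 43), (7, 44), (6, 44), (5, 44), (4, 40), (74, 43),
    (73, 43), (72, 44), (71, 42), (70, 44), (69, 44), (68, 43), (67, 44), (66, 44), (65, 43), (64, 43), (63, 44), (62,
    42), (61, 44), (60, 44), (59, 44), (58, 44), (57, 44), (56, 43), (55, 44), (54, 43), (53, 44), (52, 44), (51, 42),
    (50, 44), (49, 42), (48, 42), (47, 43), (46, 43), (45, 43), (44, 44), (43, 44), (42, 44), (41, 41), (40, 44), (39,
    44), (38, 44), (37, 43), (36, 44), (35, 44), (34, 44), (33, 44), (32, 44), (31, 43), (30, 44), (29, 44), (28, 43),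
    (27, 44), (26, 44), (25, 44), (24, 44), (23, 44), (22, 44), (21, 44), (20, 44), (19, 42), (18, 44), (17, 44), (16,
    44), (15, 44), (14, 43), (13, 44), (12, 42)]

/-- Steps. -/
def st2_137 : List (ℕ × ℕ) :=
  [(11, 44), (10, 43), (9, 43), (8, 43), (7, 44), (6, 44), (5, 44), (4, 44), (41, 48), (40, 48), (39, 48), (38, 47),
    (37, 48), (36, 48), (35, 48), (34, 48), (33, 48), (32, 47), (31, 48), (30, 48), (29, 47), (28, 48), (27, 48), (26,
    48), (25, 48), (24, 48), (23, 48), (22, 48), (21, 48), (20, 46), (19, 48), (18, 48), (17, 48), (16, 48), (15, 47),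
    (14, 48), (13, 46), (12, 48), (11, 47), (10, 47), (9, 47), (8, 48), (7, 48), (6, 48), (5, 48), (78, 48), (77, 48),
    (76, 47), (75, 47), (74, 48), (73, 46), (72, 48), (71, 48), (70, 47), (69, 48), (68, 48), (67, 47), (66, 47), (65,
    48), (64, 46), (63, 48), (62, 48), (61, 48), (60, 48), (59, 48), (58, 47), (57, 48), (56, 47), (55, 48), (54, 48),
    (53, 46), (52, 48), (51, 46), (50, 46), (49, 47), (48, 47), (47, 47), (46, 48), (45, 48), (44, 48), (43, 48), (42,
    48), (41, 48), (40, 48), (39, 47), (38, 48), (37, 48), (36, 48), (35, 48), (34, 48), (33, 47), (32, 48), (31, 48),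
    (30, 47), (29, 48), (28, 48), (27, 48), (26, 48), (25, 48), (24, 48), (23, 48), (22, 48), (21, 46), (20, 48), (19,
    48), (18, 48), (17, 48), (16, 47), (15, 48), (14, 46), (13, 48), (12, 47), (11, 47), (10, 47), (9, 48), (8, 48),
    (7, 48), (6, 48), (5, 45), (86, 47)]

/-- Steps. -/
def st2_138 : List (ℕ × ℕ) :=
  [(85, 48), (84, 46), (83, 48), (82, 47), (81, 48), (80, 46), (79, 46), (78, 47), (77, 48), (76, 48), (75, 47), (74,
    47), (73, 48), (72, 46), (71, 48), (70, 48), (69, 47), (68, 48), (67, 48), (66, 47), (65, 47), (64, 48), (63, 46),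
    (62, 48), (61, 48), (60, 48), (59, 48), (58, 48), (57, 47), (56, 48), (55, 47), (54, 48), (53, 48), (52, 46), (51,
    48), (50, 46), (49, 46), (48, 47), (47, 47), (46, 47), (45, 48), (44, 48), (43, 48), (42, 48), (41, 48), (40, 48),
    (39, 48), (38, 47), (37, 48), (36, 48), (35, 48), (34, 48), (33, 48), (32, 47), (31, 48), (30, 48), (29, 47), (28,
    48), (27, 48), (26, 48), (25, 48), (24, 48), (23, 48), (22, 48), (21, 48), (20, 46), (19, 48), (18, 48), (17, 48),
    (16, 48), (15, 47), (14, 48), (13, 46), (12, 48), (11, 47), (10, 47), (9, 47), (8, 48), (7, 48), (6, 48), (5, 48),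
    (13, 51), (12, 50), (11, 50), (10, 50), (9, 51), (8, 51), (7, 51), (6, 51), (20, 51), (19, 51), (18, 51), (17,
    51), (16, 50), (15, 51), (14, 51), (13, 50), (12, 50), (11, 50), (10, 51), (9, 51), (8, 51), (7, 51), (6, 49),
    (47, 50), (46, 50), (45, 50), (44, 51), (43, 51), (42, 51), (41, 51), (40, 51), (39, 51), (38, 51), (37, 50), (36,
    51), (35, 51), (34, 51), (33, 51), (32, 51)]

/-- Steps. -/
def st2_139 : List (ℕ × ℕ) :=
  [(31, 50), (30, 51), (29, 51), (28, 50), (27, 51), (26, 51), (25, 51), (24, 51), (23, 51), (22, 51), (21, 51), (20,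
    51), (19, 51), (18, 51), (17, 51), (16, 51), (15, 50), (14, 51), (13, 51), (12, 50), (11, 50), (10, 50), (9, 51),
    (8, 51), (7, 51), (6, 51), (48, 50), (47, 50), (46, 50), (45, 51), (44, 51), (43, 51), (42, 51), (41, 51), (40,
    51), (39, 51), (38, 50), (37, 51), (36, 51), (35, 51), (34, 51), (33, 51), (32, 50), (31, 51), (30, 51), (29, 50),
    (28, 51), (27, 51), (26, 51), (25, 51), (24, 51), (23, 51), (22, 51), (21, 51), (20, 51), (19, 51), (18, 51), (17,
    51), (16, 50), (15, 51), (14, 51), (13, 50), (12, 50), (11, 50), (10, 51), (9, 51), (8, 51), (7, 51), (6, 49),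
    (48, 51), (47, 50), (46, 50), (45, 50), (44, 51), (43, 51), (42, 51), (41, 51), (40, 51), (39, 51), (38, 51), (37,
    50), (36, 51), (35, 51), (34, 51), (33, 51), (32, 51), (31, 50), (30, 51), (29, 51), (28, 50), (27, 51), (26, 51),
    (25, 51), (24, 51), (23, 51), (22, 51), (21, 51), (20, 51), (19, 51), (18, 51), (17, 51), (16, 51), (15, 50), (14,
    51), (13, 51), (12, 50), (11, 50), (10, 50), (9, 51), (8, 51), (7, 51), (6, 51), (59, 51), (58, 51), (57, 51),
    (56, 51), (55, 51), (54, 50), (53, 51), (52, 50)]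

/-- Steps. -/
def st2_140 : List (ℕ × ℕ) :=
  [(51, 51), (50, 51), (49, 51), (48, 50), (47, 50), (46, 50), (45, 51), (44, 51), (43, 51), (42, 51), (41, 51), (40,
    51), (39, 51), (38, 50), (37, 51), (36, 51), (35, 51), (34, 51), (33, 51), (32, 50), (31, 51), (30, 51), (29, 50),
    (28, 51), (27, 51), (26, 51), (25, 51), (24, 51), (23, 51), (22, 51), (21, 51), (20, 51), (19, 51), (18, 51), (17,
    51), (16, 50), (15, 51), (14, 51), (13, 50), (12, 50), (11, 50), (10, 51), (9, 51), (8, 51), (7, 51), (6, 49),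
    (66, 51), (65, 51), (64, 50), (63, 51), (62, 51), (61, 50), (60, 50), (59, 51), (58, 51), (57, 51), (56, 51), (55,
    51), (54, 51), (53, 50), (52, 51), (51, 50), (50, 51), (49, 51), (48, 51), (47, 50), (46, 50), (45, 50), (44, 51),
    (43, 51), (42, 51), (41, 51), (40, 51), (39, 51), (38, 51), (37, 50), (36, 51), (35, 51), (34, 51), (33, 51), (32,
    51), (31, 50), (30, 51), (29, 51), (28, 50), (27, 51), (26, 51), (25, 51), (24, 51), (23, 51), (22, 51), (21, 51),
    (20, 51), (19, 51), (18, 51), (17, 51), (16, 51), (15, 50), (14, 51), (13, 51), (12, 50), (11, 50), (10, 50), (9,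
    51), (8, 51), (7, 51), (6, 51), (73, 50), (72, 51), (71, 51), (70, 50), (69, 50), (68, 51), (67, 51), (66, 51),
    (65, 50), (64, 51), (63, 51), (62, 50), (61, 50)]

/-- Steps. -/
def st2_141 : List (ℕ × ℕ) :=
  [(60, 51), (59, 51), (58, 51), (57, 51), (56, 51), (55, 51), (54, 50), (53, 51), (52, 50), (51, 51), (50, 51), (49,
    51), (48, 50), (47, 50), (46, 50), (45, 51), (44, 51), (43, 51), (42, 51), (41, 51), (40, 51), (39, 51), (38, 50),
    (37, 51), (36, 51), (35, 51), (34, 51), (33, 51), (32, 50), (31, 51), (30, 51), (29, 50), (28, 51), (27, 51), (26,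
    51), (25, 51), (24, 51), (23, 51), (22, 51), (21, 51), (20, 51), (19, 51), (18, 51), (17, 51), (16, 50), (15, 51),
    (14, 51), (13, 50), (12, 50), (11, 50), (10, 51), (9, 51), (8, 51), (7, 51), (6, 49), (72, 50), (71, 51), (70,
    51), (69, 50), (68, 50), (67, 51), (66, 51), (65, 51), (64, 50), (63, 51), (62, 51), (61, 50), (60, 50), (59, 51),
    (58, 51), (57, 51), (56, 51), (55, 51), (54, 51), (53, 50), (52, 51), (51, 50), (50, 51), (49, 51), (48, 51), (47,
    50), (46, 50), (45, 50), (44, 51), (43, 51), (42, 51), (41, 51), (40, 51), (39, 51), (38, 51), (37, 50), (36, 51),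
    (35, 51), (34, 51), (33, 51), (32, 51), (31, 50), (30, 51), (29, 51), (28, 50), (27, 51), (26, 51), (25, 51), (24,
    51), (23, 51), (22, 51), (21, 51), (20, 51), (19, 51), (18, 51), (17, 51), (16, 51), (15, 50), (14, 51), (13, 51),
    (12, 50), (11, 50), (10, 50), (9, 51), (8, 51)]

/-- Steps. -/
def st2_142 : List (ℕ × ℕ) :=
  [(7, 51), (6, 51), (76, 51), (75, 50), (74, 51), (73, 50), (72, 51), (71, 51), (70, 50), (69, 50), (68, 51), (67, 51),
    (66, 51), (65, 50), (64, 51), (63, 51), (62, 50), (61, 50), (60, 51), (59, 51), (58, 51), (57, 51), (56, 51), (55,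
    51), (54, 50), (53, 51), (52, 50), (51, 51), (50, 51), (49, 51), (48, 50), (47, 50), (46, 50), (45, 51), (44, 51),
    (43, 51), (42, 51), (41, 51), (40, 51), (39, 51), (38, 50), (37, 51), (36, 51), (35, 51), (34, 51), (33, 51), (32,
    50), (31, 51), (30, 51), (29, 50), (28, 51), (27, 51), (26, 51), (25, 51), (24, 51), (23, 51), (22, 51), (21, 51),
    (20, 51), (19, 51), (18, 51), (17, 51), (16, 50), (15, 51), (14, 51), (13, 50), (12, 50), (11, 50), (10, 51), (9,
    51), (8, 51), (7, 51), (6, 49), (77, 50), (76, 51), (75, 51), (74, 50), (73, 51), (72, 50), (71, 51), (70, 51),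
    (69, 50), (68, 50), (67, 51), (66, 51), (65, 51), (64, 50), (63, 51), (62, 51), (61, 50), (60, 50), (59, 51), (58,
    51), (57, 51), (56, 51), (55, 51), (54, 51), (53, 50), (52, 51), (51, 50), (50, 51), (49, 51), (48, 51), (47, 50),
    (46, 50), (45, 50), (44, 51), (43, 51), (42, 51), (41, 51), (40, 51), (39, 51), (38, 51), (37, 50), (36, 51), (35,
    51), (34, 51), (33, 51), (32, 51), (31, 50)]

/-- Steps. -/
def st2_143 : List (ℕ × ℕ) :=
  [(30, 51), (29, 51), (28, 50), (27, 51), (26, 51), (25, 51), (24, 51), (23, 51), (22, 51), (21, 51), (20, 51), (19,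
    51), (18, 51), (17, 51), (16, 51), (15, 50), (14, 51), (13, 51), (12, 50), (11, 50), (10, 50), (9, 51), (8, 51),
    (7, 51), (6, 51), (10, 53), (9, 53), (8, 53), (7, 53), (11, 53), (10, 53), (9, 53), (8, 53), (7, 52), (10, 53),
    (9, 53), (8, 53), (7, 53), (13, 53), (12, 53), (11, 53), (10, 53), (9, 53), (8, 53), (7, 52), (24, 53), (23, 53),
    (22, 53), (21, 53), (20, 53), (19, 53), (18, 53), (17, 53), (16, 53), (15, 53), (14, 53), (13, 53), (12, 53), (11,
    53), (10, 53), (9, 53), (8, 53), (7, 53), (27, 53), (26, 53), (25, 53), (24, 53), (23, 53), (22, 53), (21, 53),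
    (20, 53), (19, 53), (18, 53), (17, 53), (16, 53), (15, 53), (14, 53), (13, 53), (12, 53), (11, 53), (10, 53), (9,
    53), (8, 53), (7, 52), (31, 53), (30, 53), (29, 53), (28, 53), (27, 53), (26, 53), (25, 53), (24, 53), (23, 53),
    (22, 53), (21, 53), (20, 53), (19, 53), (18, 53), (17, 53), (16, 53), (15, 53), (14, 53), (13, 53), (12, 53), (11,
    53), (10, 53), (9, 53), (8, 53), (7, 53), (39, 53), (38, 53), (37, 53), (36, 53), (35, 53), (34, 53), (33, 53),
    (32, 53), (31, 53), (30, 53), (29, 53)]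

/-- Steps. -/
def st2_144 : List (ℕ × ℕ) :=
  [(28, 53), (27, 53), (26, 53), (25, 53), (24, 53), (23, 53), (22, 53), (21, 53), (20, 53), (19, 53), (18, 53), (17,
    53), (16, 53), (15, 53), (14, 53), (13, 53), (12, 53), (11, 53), (10, 53), (9, 53), (8, 53), (7, 52), (38, 53),
    (37, 53), (36, 53), (35, 53), (34, 53), (33, 53), (32, 53), (31, 53), (30, 53), (29, 53), (28, 53), (27, 53), (26,
    53), (25, 53), (24, 53), (23, 53), (22, 53), (21, 53), (20, 53), (19, 53), (18, 53), (17, 53), (16, 53), (15, 53),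
    (14, 53), (13, 53), (12, 53), (11, 53), (10, 53), (9, 53), (8, 53), (7, 53), (39, 53), (38, 53), (37, 53), (36,
    53), (35, 53), (34, 53), (33, 53), (32, 53), (31, 53), (30, 53), (29, 53), (28, 53), (27, 53), (26, 53), (25, 53),
    (24, 53), (23, 53), (22, 53), (21, 53), (20, 53), (19, 53), (18, 53), (17, 53), (16, 53), (15, 53), (14, 53), (13,
    53), (12, 53), (11, 53), (10, 53), (9, 53), (8, 53), (7, 52), (41, 53), (40, 53), (39, 53), (38, 53), (37, 53),
    (36, 53), (35, 53), (34, 53), (33, 53), (32, 53), (31, 53), (30, 53), (29, 53), (28, 53), (27, 53), (26, 53), (25,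
    53), (24, 53), (23, 53), (22, 53), (21, 53), (20, 53), (19, 53), (18, 53), (17, 53), (16, 53), (15, 53), (14, 53),
    (13, 53), (12, 53), (11, 53), (10, 53), (9, 53)]

/-- Steps. -/
def st2_145 : List (ℕ × ℕ) :=
  [(8, 53), (7, 53), (43, 53), (42, 53), (41, 53), (40, 53), (39, 53), (38, 53), (37, 53), (36, 53), (35, 53), (34, 53),
    (33, 53), (32, 53), (31, 53), (30, 53), (29, 53), (28, 53), (27, 53), (26, 53), (25, 53), (24, 53), (23, 53), (22,
    53), (21, 53), (20, 53), (19, 53), (18, 53), (17, 53), (16, 53), (15, 53), (14, 53), (13, 53), (12, 53), (11, 53),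
    (10, 53), (9, 53), (8, 53), (7, 52), (48, 53), (47, 53), (46, 53), (45, 53), (44, 53), (43, 53), (42, 53), (41,
    53), (40, 53), (39, 53), (38, 53), (37, 53), (36, 53), (35, 53), (34, 53), (33, 53), (32, 53), (31, 53), (30, 53),
    (29, 53), (28, 53), (27, 53), (26, 53), (25, 53), (24, 53), (23, 53), (22, 53), (21, 53), (20, 53), (19, 53), (18,
    53), (17, 53), (16, 53), (15, 53), (14, 53), (13, 53), (12, 53), (11, 53), (10, 53), (9, 53), (8, 53), (7, 53),
    (49, 53), (48, 53), (47, 53), (46, 53), (45, 53), (44, 53), (43, 53), (42, 53), (41, 53), (40, 53), (39, 53), (38,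
    53), (37, 53), (36, 53), (35, 53), (34, 53), (33, 53), (32, 53), (31, 53), (30, 53), (29, 53), (28, 53), (27, 53),
    (26, 53), (25, 53), (24, 53), (23, 53), (22, 53), (21, 53), (20, 53), (19, 53), (18, 53), (17, 53), (16, 53), (15,
    53), (14, 53), (13, 53), (12, 53), (11, 53)]

/-- Steps. -/
def st2_146 : List (ℕ × ℕ) :=
  [(10, 53), (9, 53), (8, 53), (7, 52), (50, 53), (49, 53), (48, 53), (47, 53), (46, 53), (45, 53), (44, 53), (43, 53),
    (42, 53), (41, 53), (40, 53), (39, 53), (38, 53), (37, 53), (36, 53), (35, 53), (34, 53), (33, 53), (32, 53), (31,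
    53), (30, 53), (29, 53), (28, 53), (27, 53), (26, 53), (25, 53), (24, 53), (23, 53), (22, 53), (21, 53), (20, 53),
    (19, 53), (18, 53), (17, 53), (16, 53), (15, 53), (14, 53), (13, 53), (12, 53), (11, 53), (10, 53), (9, 53), (8,
    53), (7, 53), (54, 53), (53, 53), (52, 53), (51, 53), (50, 53), (49, 53), (48, 53), (47, 53), (46, 53), (45, 53),
    (44, 53), (43, 53), (42, 53), (41, 53), (40, 53), (39, 53), (38, 53), (37, 53), (36, 53), (35, 53), (34, 53), (33,
    53), (32, 53), (31, 53), (30, 53), (29, 53), (28, 53), (27, 53), (26, 53), (25, 53), (24, 53), (23, 53), (22, 53),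
    (21, 53), (20, 53), (19, 53), (18, 53), (17, 53), (16, 53), (15, 53), (14, 53), (13, 53), (12, 53), (11, 53), (10,
    53), (9, 53), (8, 53), (7, 52), (53, 53), (52, 53), (51, 53), (50, 53), (49, 53), (48, 53), (47, 53), (46, 53),
    (45, 53), (44, 53), (43, 53), (42, 53), (41, 53), (40, 53), (39, 53), (38, 53), (37, 53), (36, 53), (35, 53), (34,
    53), (33, 53), (32, 53), (31, 53), (30, 53)]

/-- Steps. -/
def st2_147 : List (ℕ × ℕ) :=
  [(29, 53), (28, 53), (27, 53), (26, 53), (25, 53), (24, 53), (23, 53), (22, 53), (21, 53), (20, 53), (19, 53), (18,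
    53), (17, 53), (16, 53), (15, 53), (14, 53), (13, 53), (12, 53), (11, 53), (10, 53), (9, 53), (8, 53), (7, 53),
    (56, 53), (55, 53), (54, 53), (53, 53), (52, 53), (51, 53), (50, 53), (49, 53), (48, 53), (47, 53), (46, 53), (45,
    53), (44, 53), (43, 53), (42, 53), (41, 53), (40, 53), (39, 53), (38, 53), (37, 53), (36, 53), (35, 53), (34, 53),
    (33, 53), (32, 53), (31, 53), (30, 53), (29, 53), (28, 53), (27, 53), (26, 53), (25, 53), (24, 53), (23, 53), (22,
    53), (21, 53), (20, 53), (19, 53), (18, 53), (17, 53), (16, 53), (15, 53), (14, 53), (13, 53), (12, 53), (11, 53),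
    (10, 53), (9, 53), (8, 53), (7, 52), (56, 53), (55, 53), (54, 53), (53, 53), (52, 53), (51, 53), (50, 53), (49,
    53), (48, 53), (47, 53), (46, 53), (45, 53), (44, 53), (43, 53), (42, 53), (41, 53), (40, 53), (39, 53), (38, 53),
    (37, 53), (36, 53), (35, 53), (34, 53), (33, 53), (32, 53), (31, 53), (30, 53), (29, 53), (28, 53), (27, 53), (26,
    53), (25, 53), (24, 53), (23, 53), (22, 53), (21, 53), (20, 53), (19, 53), (18, 53), (17, 53), (16, 53), (15, 53),
    (14, 53), (13, 53), (12, 53), (11, 53), (10, 53)]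

/-- Steps. -/
def st2_148 : List (ℕ × ℕ) :=
  [(9, 53), (8, 53), (7, 53), (59, 53), (58, 53), (57, 53), (56, 53), (55, 53), (54, 53), (53, 53), (52, 53), (51, 53),
    (50, 53), (49, 53), (48, 53), (47, 53), (46, 53), (45, 53), (44, 53), (43, 53), (42, 53), (41, 53), (40, 53), (39,
    53), (38, 53), (37, 53), (36, 53), (35, 53), (34, 53), (33, 53), (32, 53), (31, 53), (30, 53), (29, 53), (28, 53),
    (27, 53), (26, 53), (25, 53), (24, 53), (23, 53), (22, 53), (21, 53), (20, 53), (19, 53), (18, 53), (17, 53), (16,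
    53), (15, 53), (14, 53), (13, 53), (12, 53), (11, 53), (10, 53), (9, 53), (8, 53), (7, 52), (7, 54), (7, 54), (7,
    54), (7, 54), (7, 54), (7, 54), (7, 54), (7, 54), (7, 54), (7, 54), (7, 54), (7, 54), (7, 54), (7, 54), (7, 54),
    (7, 54), (7, 54), (7, 54), (7, 54), (7, 54), (7, 54), (7, 54), (7, 54), (7, 54), (7, 54), (7, 54)]

/-- Steps. -/
def st2_149 : List (ℕ × ℕ) :=
  [(4, 9), (3, 8), (2, 6), (1, 5), (0, 0), (5, 44), (4, 44), (3, 43), (2, 42), (1, 41), (0, 40), (0, 48), (2, 51), (1,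
    51), (6, 51), (5, 51), (4, 50), (3, 51), (2, 51), (1, 49), (6, 50), (5, 51), (4, 51), (3, 50), (2, 51), (1, 51),
    (3, 53), (2, 53), (6, 53), (5, 53), (4, 53), (3, 53), (2, 52), (2, 54), (2, 54)]

/-- Steps. -/
def st2_150 : List (ℕ × ℕ) :=
  [(6, 18), (5, 16), (4, 15), (3, 13), (2, 11), (1, 10), (2, 24), (1, 21), (17, 26), (16, 25), (15, 24), (14, 26), (13,
    25), (12, 24), (11, 23), (10, 25), (9, 21), (8, 26), (7, 22), (6, 21), (5, 26), (4, 24), (3, 26), (2, 21), (1,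
    19), (31, 23), (30, 22), (29, 21), (28, 26), (27, 25), (26, 26), (25, 24), (24, 26), (23, 25), (22, 26), (21, 24),
    (20, 24), (19, 23), (18, 25), (17, 26), (16, 21), (15, 26), (14, 26), (13, 22), (12, 26), (11, 21), (10, 26), (9,
    26), (8, 24), (7, 26), (6, 26), (5, 21), (4, 26), (3, 25), (2, 24), (1, 22), (46, 31), (45, 30), (44, 33), (43,
    29), (42, 33), (41, 28), (40, 33), (39, 32), (38, 33), (37, 33), (36, 31), (35, 33), (34, 32), (33, 33), (32, 33),
    (31, 31), (30, 33), (29, 31), (28, 31), (27, 30), (26, 32), (25, 33), (24, 33), (23, 28), (22, 33), (21, 33), (20,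
    33), (19, 29), (18, 33), (17, 33), (16, 28), (15, 33), (14, 33), (13, 33), (12, 31), (11, 33), (10, 33), (9, 33),
    (8, 28), (7, 33), (6, 32), (5, 33), (4, 31), (3, 33), (2, 29), (8, 39), (7, 38), (6, 39), (5, 37), (4, 39), (3,
    35), (16, 39), (15, 39), (14, 39), (13, 37), (12, 39), (11, 39), (10, 39), (9, 39), (8, 38), (7, 39), (6, 37), (5,
    39), (4, 35)]

/-- Steps. -/
def st2_151 : List (ℕ × ℕ) :=
  [(3, 34), (22, 39), (21, 39), (20, 39), (19, 35), (18, 39), (17, 39), (16, 39), (15, 39), (14, 39), (13, 37), (12,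
    39), (11, 39), (10, 39), (9, 39), (8, 38), (7, 39), (6, 37), (5, 39), (4, 35), (3, 38), (41, 39), (40, 38), (39,
    39), (38, 39), (37, 37), (36, 39), (35, 38), (34, 39), (33, 39), (32, 37), (31, 39), (30, 37), (29, 37), (28, 37),
    (27, 36), (26, 38), (25, 39), (24, 39), (23, 39), (22, 39), (21, 39), (20, 35), (19, 39), (18, 39), (17, 39), (16,
    39), (15, 39), (14, 37), (13, 39), (12, 39), (11, 39), (10, 39), (9, 38), (8, 39), (7, 37), (6, 39), (5, 35), (4,
    38), (3, 34), (48, 37), (47, 37), (46, 36), (45, 39), (44, 35), (43, 39), (42, 39), (41, 38), (40, 39), (39, 39),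
    (38, 37), (37, 39), (36, 38), (35, 39), (34, 39), (33, 37), (32, 39), (31, 37), (30, 37), (29, 37), (28, 38), (27,
    36), (26, 38), (25, 39), (24, 39), (23, 39), (22, 39), (21, 39), (20, 35), (19, 39), (18, 39), (17, 39), (16, 39),
    (15, 39), (14, 37), (13, 39), (12, 39), (11, 39), (10, 39), (9, 38), (8, 39), (7, 37), (6, 39), (5, 35), (4, 38),
    (3, 38), (5, 43), (4, 43), (20, 44), (19, 44), (18, 44), (17, 44), (16, 44), (15, 42), (14, 44), (13, 44), (12,
    44), (11, 44), (10, 43), (9, 44)]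

/-- Steps. -/
def st2_152 : List (ℕ × ℕ) :=
  [(8, 42), (7, 44), (6, 43), (5, 43), (4, 40), (44, 44), (43, 44), (42, 43), (41, 44), (40, 44), (39, 42), (38, 44),
    (37, 43), (36, 44), (35, 44), (34, 42), (33, 44), (32, 42), (31, 42), (30, 42), (29, 43), (28, 43), (27, 41), (26,
    43), (25, 44), (24, 44), (23, 44), (22, 44), (21, 44), (20, 44), (19, 44), (18, 44), (17, 44), (16, 44), (15, 42),
    (14, 44), (13, 44), (12, 44), (11, 44), (10, 43), (9, 44), (8, 42), (7, 44), (6, 43), (5, 43), (4, 44), (27, 47),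
    (26, 48), (25, 48), (24, 48), (23, 48), (22, 48), (21, 48), (20, 48), (19, 48), (18, 48), (17, 48), (16, 46), (15,
    48), (14, 48), (13, 48), (12, 48), (11, 47), (10, 48), (9, 46), (8, 48), (7, 47), (6, 47), (5, 48), (47, 48), (46,
    48), (45, 48), (44, 47), (43, 48), (42, 48), (41, 46), (40, 48), (39, 47), (38, 48), (37, 48), (36, 46), (35, 48),
    (34, 46), (33, 46), (32, 46), (31, 47), (30, 47), (29, 48), (28, 47), (27, 48), (26, 48), (25, 48), (24, 48), (23,
    48), (22, 48), (21, 48), (20, 48), (19, 48), (18, 48), (17, 46), (16, 48), (15, 48), (14, 48), (13, 48), (12, 47),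
    (11, 48), (10, 46), (9, 48), (8, 47), (7, 47), (6, 48), (5, 45), (49, 46), (48, 46), (47, 47), (46, 48), (45, 48),
    (44, 48), (43, 47), (42, 48)]

/-- Steps. -/
def st2_153 : List (ℕ × ℕ) :=
  [(41, 48), (40, 46), (39, 48), (38, 47), (37, 48), (36, 48), (35, 46), (34, 48), (33, 46), (32, 46), (31, 46), (30,
    47), (29, 47), (28, 48), (27, 47), (26, 48), (25, 48), (24, 48), (23, 48), (22, 48), (21, 48), (20, 48), (19, 48),
    (18, 48), (17, 48), (16, 46), (15, 48), (14, 48), (13, 48), (12, 48), (11, 47), (10, 48), (9, 46), (8, 48), (7,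
    47), (6, 47), (5, 48), (9, 51), (8, 50), (7, 50), (6, 51), (16, 51), (15, 51), (14, 51), (13, 51), (12, 50), (11,
    51), (10, 51), (9, 50), (8, 50), (7, 51), (6, 49), (29, 50), (28, 50), (27, 51), (26, 50), (25, 51), (24, 51),
    (23, 51), (22, 51), (21, 51), (20, 51), (19, 51), (18, 51), (17, 51), (16, 51), (15, 51), (14, 51), (13, 51), (12,
    51), (11, 50), (10, 51), (9, 51), (8, 50), (7, 50), (6, 51), (30, 50), (29, 50), (28, 51), (27, 50), (26, 51),
    (25, 51), (24, 51), (23, 51), (22, 51), (21, 51), (20, 51), (19, 51), (18, 51), (17, 51), (16, 51), (15, 51), (14,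
    51), (13, 51), (12, 50), (11, 51), (10, 51), (9, 50), (8, 50), (7, 51), (6, 49), (29, 50), (28, 50), (27, 51),
    (26, 50), (25, 51), (24, 51), (23, 51), (22, 51), (21, 51), (20, 51), (19, 51), (18, 51), (17, 51), (16, 51), (15,
    51), (14, 51), (13, 51), (12, 51), (11, 50)]

/-- Steps. -/
def st2_154 : List (ℕ × ℕ) :=
  [(10, 51), (9, 51), (8, 50), (7, 50), (6, 51), (31, 51), (30, 50), (29, 50), (28, 51), (27, 50), (26, 51), (25, 51),
    (24, 51), (23, 51), (22, 51), (21, 51), (20, 51), (19, 51), (18, 51), (17, 51), (16, 51), (15, 51), (14, 51), (13,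
    51), (12, 50), (11, 51), (10, 51), (9, 50), (8, 50), (7, 51), (6, 49), (34, 51), (33, 50), (32, 51), (31, 51),
    (30, 51), (29, 50), (28, 50), (27, 51), (26, 50), (25, 51), (24, 51), (23, 51), (22, 51), (21, 51), (20, 51), (19,
    51), (18, 51), (17, 51), (16, 51), (15, 51), (14, 51), (13, 51), (12, 51), (11, 50), (10, 51), (9, 51), (8, 50),
    (7, 50), (6, 51), (42, 50), (41, 51), (40, 51), (39, 51), (38, 50), (37, 51), (36, 51), (35, 51), (34, 50), (33,
    51), (32, 51), (31, 51), (30, 50), (29, 50), (28, 51), (27, 50), (26, 51), (25, 51), (24, 51), (23, 51), (22, 51),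
    (21, 51), (20, 51), (19, 51), (18, 51), (17, 51), (16, 51), (15, 51), (14, 51), (13, 51), (12, 50), (11, 51), (10,
    51), (9, 50), (8, 50), (7, 51), (6, 49), (41, 50), (40, 51), (39, 51), (38, 51), (37, 50), (36, 51), (35, 51),
    (34, 51), (33, 50), (32, 51), (31, 51), (30, 51), (29, 50), (28, 50), (27, 51), (26, 50), (25, 51), (24, 51), (23,
    51), (22, 51), (21, 51), (20, 51), (19, 51)]

/-- Steps. -/
def st2_155 : List (ℕ × ℕ) :=
  [(18, 51), (17, 51), (16, 51), (15, 51), (14, 51), (13, 51), (12, 51), (11, 50), (10, 51), (9, 51), (8, 50), (7, 50),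
    (6, 51), (7, 53), (8, 53), (7, 52), (9, 53), (8, 53), (7, 53), (24, 53), (23, 53), (22, 53), (21, 53), (20, 53),
    (19, 53), (18, 53), (17, 53), (16, 53), (15, 53), (14, 53), (13, 53), (12, 53), (11, 53), (10, 53), (9, 53), (8,
    53), (7, 52), (24, 53), (23, 53), (22, 53), (21, 53), (20, 53), (19, 53), (18, 53), (17, 53), (16, 53), (15, 53),
    (14, 53), (13, 53), (12, 53), (11, 53), (10, 53), (9, 53), (8, 53), (7, 53), (25, 53), (24, 53), (23, 53), (22,
    53), (21, 53), (20, 53), (19, 53), (18, 53), (17, 53), (16, 53), (15, 53), (14, 53), (13, 53), (12, 53), (11, 53),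
    (10, 53), (9, 53), (8, 53), (7, 52), (27, 53), (26, 53), (25, 53), (24, 53), (23, 53), (22, 53), (21, 53), (20,
    53), (19, 53), (18, 53), (17, 53), (16, 53), (15, 53), (14, 53), (13, 53), (12, 53), (11, 53), (10, 53), (9, 53),
    (8, 53), (7, 53), (31, 53), (30, 53), (29, 53), (28, 53), (27, 53), (26, 53), (25, 53), (24, 53), (23, 53), (22,
    53), (21, 53), (20, 53), (19, 53), (18, 53), (17, 53), (16, 53), (15, 53), (14, 53), (13, 53), (12, 53), (11, 53),
    (10, 53), (9, 53), (8, 53), (7, 52)]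

/-- Steps. -/
def st2_156 : List (ℕ × ℕ) :=
  [(33, 53), (32, 53), (31, 53), (30, 53), (29, 53), (28, 53), (27, 53), (26, 53), (25, 53), (24, 53), (23, 53), (22,
    53), (21, 53), (20, 53), (19, 53), (18, 53), (17, 53), (16, 53), (15, 53), (14, 53), (13, 53), (12, 53), (11, 53),
    (10, 53), (9, 53), (8, 53), (7, 53), (34, 53), (33, 53), (32, 53), (31, 53), (30, 53), (29, 53), (28, 53), (27,
    53), (26, 53), (25, 53), (24, 53), (23, 53), (22, 53), (21, 53), (20, 53), (19, 53), (18, 53), (17, 53), (16, 53),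
    (15, 53), (14, 53), (13, 53), (12, 53), (11, 53), (10, 53), (9, 53), (8, 53), (7, 52), (7, 54), (7, 54), (7, 54),
    (7, 54), (7, 54), (7, 54), (7, 54), (7, 54), (7, 54), (7, 54), (7, 54), (7, 54), (7, 54)]

/-- Steps. -/
def st2_157 : List (ℕ × ℕ) :=
  [(2, 8), (1, 3), (0, 0), (3, 44), (2, 43), (1, 42), (4, 48), (3, 47), (2, 46), (5, 53), (4, 52), (4, 54)]

/-- Steps. -/
def st2_158 : List (ℕ × ℕ) :=
  [(2, 8), (1, 7), (0, 0), (2, 18), (1, 17), (0, 16), (4, 26), (3, 25), (2, 25), (1, 24), (6, 39), (5, 38), (4, 38), (3,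
    39), (2, 37), (7, 48), (6, 47), (5, 47), (4, 48), (3, 46), (8, 51), (7, 50), (6, 50), (5, 51), (4, 49), (4, 53),
    (5, 53), (4, 52), (4, 54)]

/-- Steps. -/
def st2_159 : List (ℕ × ℕ) :=
  [(4, 9), (3, 8), (2, 6), (1, 5), (0, 0), (5, 33), (4, 33), (3, 32), (2, 31), (1, 30), (0, 29), (3, 49), (6, 50), (5,
    51), (4, 51), (3, 50), (6, 53), (5, 53), (4, 52), (4, 54)]

/-- Steps. -/
def st2_160 : List (ℕ × ℕ) :=
  [(6, 9), (5, 7), (4, 6), (3, 4), (2, 2), (1, 1), (0, 0), (6, 25), (5, 23), (4, 22), (3, 21), (2, 20), (1, 19), (29,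
    25), (28, 24), (27, 26), (26, 24), (25, 24), (24, 23), (23, 25), (22, 24), (21, 22), (20, 21), (19, 26), (18, 25),
    (17, 24), (16, 22), (15, 25), (14, 24), (13, 23), (12, 26), (11, 22), (10, 26), (9, 21), (8, 26), (7, 25), (6,
    22), (5, 20), (4, 26), (3, 25), (2, 24), (1, 22), (7, 33), (6, 32), (5, 33), (4, 31), (3, 33), (2, 29), (49, 32),
    (48, 33), (47, 31), (46, 33), (45, 33), (44, 31), (43, 33), (42, 31), (41, 31), (40, 30), (39, 32), (38, 33), (37,
    31), (36, 33), (35, 29), (34, 33), (33, 28), (32, 33), (31, 32), (30, 33), (29, 31), (28, 33), (27, 29), (26, 32),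
    (25, 33), (24, 31), (23, 31), (22, 30), (21, 33), (20, 33), (19, 29), (18, 33), (17, 33), (16, 28), (15, 33), (14,
    32), (13, 33), (12, 29), (11, 33), (10, 32), (9, 29), (8, 33), (7, 32), (6, 33), (5, 31), (4, 33), (3, 29), (2,
    27), (15, 39), (14, 38), (13, 39), (12, 35), (11, 39), (10, 38), (9, 35), (8, 39), (7, 38), (6, 39), (5, 37), (4,
    39), (3, 35), (2, 37), (33, 39), (32, 38), (31, 39), (30, 37), (29, 39), (28, 35), (27, 38), (26, 39), (25, 37),
    (24, 37)]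

/-- Steps. -/
def st2_161 : List (ℕ × ℕ) :=
  [(23, 37), (22, 36), (21, 39), (20, 39), (19, 35), (18, 39), (17, 39), (16, 39), (15, 38), (14, 39), (13, 35), (12,
    39), (11, 38), (10, 35), (9, 39), (8, 38), (7, 39), (6, 37), (5, 39), (4, 35), (3, 37), (2, 34), (51, 38), (50,
    39), (49, 37), (48, 39), (47, 39), (46, 37), (45, 39), (44, 37), (43, 37), (42, 37), (41, 36), (40, 38), (39, 39),
    (38, 37), (37, 39), (36, 35), (35, 39), (34, 39), (33, 38), (32, 39), (31, 37), (30, 39), (29, 35), (28, 38), (27,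
    39), (26, 37), (25, 37), (24, 37), (23, 38), (22, 36), (21, 39), (20, 39), (19, 35), (18, 39), (17, 39), (16, 39),
    (15, 38), (14, 39), (13, 35), (12, 39), (11, 38), (10, 35), (9, 39), (8, 38), (7, 39), (6, 37), (5, 39), (4, 35),
    (3, 37), (2, 38), (4, 42), (3, 43), (10, 44), (9, 43), (8, 44), (7, 42), (6, 44), (5, 42), (4, 43), (3, 40), (12,
    44), (11, 43), (10, 44), (9, 43), (8, 44), (7, 42), (6, 44), (5, 42), (4, 43), (3, 44), (18, 44), (17, 44), (16,
    44), (15, 43), (14, 44), (13, 44), (12, 43), (11, 44), (10, 43), (9, 44), (8, 42), (7, 44), (6, 42), (5, 43), (4,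
    44), (3, 40), (28, 43), (27, 44), (26, 42), (25, 42), (24, 42), (23, 43), (22, 43), (21, 41), (20, 44), (19, 44),
    (18, 44), (17, 44)]

/-- Steps. -/
def st2_162 : List (ℕ × ℕ) :=
  [(16, 44), (15, 43), (14, 44), (13, 44), (12, 43), (11, 44), (10, 43), (9, 44), (8, 42), (7, 44), (6, 42), (5, 43),
    (4, 44), (3, 44), (36, 44), (35, 44), (34, 43), (33, 44), (32, 42), (31, 44), (30, 43), (29, 44), (28, 42), (27,
    42), (26, 42), (25, 43), (24, 43), (23, 44), (22, 41), (21, 44), (20, 44), (19, 44), (18, 44), (17, 44), (16, 43),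
    (15, 44), (14, 44), (13, 43), (12, 44), (11, 43), (10, 44), (9, 42), (8, 44), (7, 42), (6, 43), (5, 44), (4, 44),
    (3, 40), (21, 48), (20, 48), (19, 48), (18, 48), (17, 48), (16, 47), (15, 48), (14, 48), (13, 47), (12, 48), (11,
    47), (10, 48), (9, 46), (8, 48), (7, 46), (6, 47), (5, 48), (4, 48), (3, 48), (41, 47), (40, 48), (39, 46), (38,
    48), (37, 48), (36, 48), (35, 47), (34, 48), (33, 46), (32, 48), (31, 47), (30, 48), (29, 46), (28, 46), (27, 46),
    (26, 47), (25, 47), (24, 48), (23, 48), (22, 48), (21, 48), (20, 48), (19, 48), (18, 48), (17, 47), (16, 48), (15,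
    48), (14, 47), (13, 48), (12, 47), (11, 48), (10, 46), (9, 48), (8, 46), (7, 47), (6, 48), (5, 48), (4, 48), (3,
    45), (51, 47), (50, 48), (49, 46), (48, 48), (47, 48), (46, 46), (45, 48), (44, 46), (43, 46), (42, 46), (41, 47),
    (40, 47), (39, 48), (38, 46)]

/-- Steps. -/
def st2_163 : List (ℕ × ℕ) :=
  [(37, 48), (36, 48), (35, 48), (34, 47), (33, 48), (32, 46), (31, 48), (30, 47), (29, 48), (28, 46), (27, 46), (26,
    46), (25, 47), (24, 47), (23, 48), (22, 48), (21, 48), (20, 48), (19, 48), (18, 48), (17, 48), (16, 47), (15, 48),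
    (14, 48), (13, 47), (12, 48), (11, 47), (10, 48), (9, 46), (8, 48), (7, 46), (6, 47), (5, 48), (4, 48), (3, 48),
    (7, 50), (6, 51), (5, 51), (4, 51), (9, 51), (8, 50), (7, 51), (6, 51), (5, 51), (4, 49), (24, 50), (23, 50), (22,
    51), (21, 51), (20, 51), (19, 51), (18, 51), (17, 51), (16, 51), (15, 50), (14, 51), (13, 51), (12, 50), (11, 51),
    (10, 50), (9, 51), (8, 51), (7, 50), (6, 51), (5, 51), (4, 51), (25, 50), (24, 50), (23, 51), (22, 51), (21, 51),
    (20, 51), (19, 51), (18, 51), (17, 51), (16, 50), (15, 51), (14, 51), (13, 50), (12, 51), (11, 50), (10, 51), (9,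
    51), (8, 50), (7, 51), (6, 51), (5, 51), (4, 49), (24, 50), (23, 50), (22, 51), (21, 51), (20, 51), (19, 51), (18,
    51), (17, 51), (16, 51), (15, 50), (14, 51), (13, 51), (12, 50), (11, 51), (10, 50), (9, 51), (8, 51), (7, 50),
    (6, 51), (5, 51), (4, 51), (28, 51), (27, 50), (26, 51), (25, 50), (24, 50), (23, 51), (22, 51), (21, 51), (20,
    51), (19, 51), (18, 51)]

/-- Steps. -/
def st2_164 : List (ℕ × ℕ) :=
  [(17, 51), (16, 50), (15, 51), (14, 51), (13, 50), (12, 51), (11, 50), (10, 51), (9, 51), (8, 50), (7, 51), (6, 51),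
    (5, 51), (4, 49), (32, 51), (31, 51), (30, 51), (29, 50), (28, 51), (27, 51), (26, 50), (25, 51), (24, 50), (23,
    50), (22, 51), (21, 51), (20, 51), (19, 51), (18, 51), (17, 51), (16, 51), (15, 50), (14, 51), (13, 51), (12, 50),
    (11, 51), (10, 50), (9, 51), (8, 51), (7, 50), (6, 51), (5, 51), (4, 51), (36, 50), (35, 50), (34, 51), (33, 51),
    (32, 51), (31, 51), (30, 50), (29, 51), (28, 51), (27, 50), (26, 51), (25, 50), (24, 50), (23, 51), (22, 51), (21,
    51), (20, 51), (19, 51), (18, 51), (17, 51), (16, 50), (15, 51), (14, 51), (13, 50), (12, 51), (11, 50), (10, 51),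
    (9, 51), (8, 50), (7, 51), (6, 51), (5, 51), (4, 49), (35, 50), (34, 50), (33, 51), (32, 51), (31, 51), (30, 51),
    (29, 50), (28, 51), (27, 51), (26, 50), (25, 51), (24, 50), (23, 50), (22, 51), (21, 51), (20, 51), (19, 51), (18,
    51), (17, 51), (16, 51), (15, 50), (14, 51), (13, 51), (12, 50), (11, 51), (10, 50), (9, 51), (8, 51), (7, 50),
    (6, 51), (5, 51), (4, 51), (36, 50), (35, 50), (34, 51), (33, 51), (32, 51), (31, 51), (30, 50), (29, 51), (28,
    51), (27, 50), (26, 51), (25, 50)]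

/-- Steps. -/
def st2_165 : List (ℕ × ℕ) :=
  [(24, 50), (23, 51), (22, 51), (21, 51), (20, 51), (19, 51), (18, 51), (17, 51), (16, 50), (15, 51), (14, 51), (13,
    50), (12, 51), (11, 50), (10, 51), (9, 51), (8, 50), (7, 51), (6, 51), (5, 51), (4, 49), (36, 51), (35, 50), (34,
    50), (33, 51), (32, 51), (31, 51), (30, 51), (29, 50), (28, 51), (27, 51), (26, 50), (25, 51), (24, 50), (23, 50),
    (22, 51), (21, 51), (20, 51), (19, 51), (18, 51), (17, 51), (16, 51), (15, 50), (14, 51), (13, 51), (12, 50), (11,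
    51), (10, 50), (9, 51), (8, 51), (7, 50), (6, 51), (5, 51), (4, 51), (39, 51), (38, 51), (37, 51), (36, 50), (35,
    50), (34, 51), (33, 51), (32, 51), (31, 51), (30, 50), (29, 51), (28, 51), (27, 50), (26, 51), (25, 50), (24, 50),
    (23, 51), (22, 51), (21, 51), (20, 51), (19, 51), (18, 51), (17, 51), (16, 50), (15, 51), (14, 51), (13, 50), (12,
    51), (11, 50), (10, 51), (9, 51), (8, 50), (7, 51), (6, 51), (5, 51), (4, 49), (6, 53), (5, 53), (4, 53), (9, 53),
    (8, 53), (7, 53), (6, 53), (5, 53), (4, 52), (9, 53), (8, 53), (7, 53), (6, 53), (5, 53), (4, 53), (12, 53), (11,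
    53), (10, 53), (9, 53), (8, 53), (7, 53), (6, 53), (5, 53), (4, 52), (18, 53), (17, 53), (16, 53), (15, 53), (14,
    53), (13, 53)]

/-- Steps. -/
def st2_166 : List (ℕ × ℕ) :=
  [(12, 53), (11, 53), (10, 53), (9, 53), (8, 53), (7, 53), (6, 53), (5, 53), (4, 53), (19, 53), (18, 53), (17, 53),
    (16, 53), (15, 53), (14, 53), (13, 53), (12, 53), (11, 53), (10, 53), (9, 53), (8, 53), (7, 53), (6, 53), (5, 53),
    (4, 52), (19, 53), (18, 53), (17, 53), (16, 53), (15, 53), (14, 53), (13, 53), (12, 53), (11, 53), (10, 53), (9,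
    53), (8, 53), (7, 53), (6, 53), (5, 53), (4, 53), (22, 53), (21, 53), (20, 53), (19, 53), (18, 53), (17, 53), (16,
    53), (15, 53), (14, 53), (13, 53), (12, 53), (11, 53), (10, 53), (9, 53), (8, 53), (7, 53), (6, 53), (5, 53), (4,
    52), (25, 53), (24, 53), (23, 53), (22, 53), (21, 53), (20, 53), (19, 53), (18, 53), (17, 53), (16, 53), (15, 53),
    (14, 53), (13, 53), (12, 53), (11, 53), (10, 53), (9, 53), (8, 53), (7, 53), (6, 53), (5, 53), (4, 53), (26, 53),
    (25, 53), (24, 53), (23, 53), (22, 53), (21, 53), (20, 53), (19, 53), (18, 53), (17, 53), (16, 53), (15, 53), (14,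
    53), (13, 53), (12, 53), (11, 53), (10, 53), (9, 53), (8, 53), (7, 53), (6, 53), (5, 53), (4, 52), (29, 53), (28,
    53), (27, 53), (26, 53), (25, 53), (24, 53), (23, 53), (22, 53), (21, 53), (20, 53), (19, 53), (18, 53), (17, 53),
    (16, 53), (15, 53)]

/-- Steps. -/
def st2_167 : List (ℕ × ℕ) :=
  [(14, 53), (13, 53), (12, 53), (11, 53), (10, 53), (9, 53), (8, 53), (7, 53), (6, 53), (5, 53), (4, 53), (30, 53),
    (29, 53), (28, 53), (27, 53), (26, 53), (25, 53), (24, 53), (23, 53), (22, 53), (21, 53), (20, 53), (19, 53), (18,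
    53), (17, 53), (16, 53), (15, 53), (14, 53), (13, 53), (12, 53), (11, 53), (10, 53), (9, 53), (8, 53), (7, 53),
    (6, 53), (5, 53), (4, 52), (4, 54), (4, 54), (4, 54), (4, 54), (4, 54), (4, 54), (4, 54), (4, 54), (4, 54), (4,
    54), (4, 54), (4, 54), (4, 54)]

/-- Steps. -/
def st2_168 : List (ℕ × ℕ) :=
  [(3, 8), (2, 7), (1, 5), (0, 0), (3, 44), (2, 43), (1, 42), (0, 40), (0, 51), (3, 51), (2, 50), (1, 51), (0, 49), (0,
    53), (2, 53), (1, 53), (0, 52), (0, 54)]

/-- Steps. -/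
def st2_169 : List (ℕ × ℕ) :=
  [(4, 15), (3, 14), (2, 13), (1, 11), (0, 10), (1, 24), (0, 21), (15, 26), (14, 25), (13, 24), (12, 23), (11, 26), (10,
    22), (9, 25), (8, 21), (7, 26), (6, 22), (5, 21), (4, 26), (3, 24), (2, 26), (1, 21), (0, 19), (3, 39), (2, 38),
    (1, 37), (0, 35), (9, 39), (8, 39), (7, 37), (6, 39), (5, 39), (4, 39), (3, 38), (2, 37), (1, 35), (0, 34), (13,
    39), (12, 39), (11, 35), (10, 39), (9, 39), (8, 39), (7, 37), (6, 39), (5, 39), (4, 39), (3, 38), (2, 37), (1,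
    35), (0, 38), (25, 39), (24, 38), (23, 39), (22, 37), (21, 37), (20, 36), (19, 39), (18, 39), (17, 35), (16, 38),
    (15, 39), (14, 39), (13, 39), (12, 35), (11, 39), (10, 39), (9, 39), (8, 37), (7, 39), (6, 39), (5, 39), (4, 38),
    (3, 37), (2, 35), (1, 38), (0, 34), (1, 43), (0, 43), (11, 44), (10, 44), (9, 44), (8, 42), (7, 44), (6, 44), (5,
    44), (4, 43), (3, 42), (2, 43), (1, 43), (0, 40), (15, 43), (14, 44), (13, 44), (12, 44), (11, 44), (10, 44), (9,
    44), (8, 42), (7, 44), (6, 44), (5, 44), (4, 43), (3, 42), (2, 43), (1, 43), (0, 44), (25, 44), (24, 43), (23,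
    44), (22, 42), (21, 42), (20, 43), (19, 41), (18, 44), (17, 44), (16, 43), (15, 44), (14, 44), (13, 44)]

/-- Steps. -/
def st2_170 : List (ℕ × ℕ) :=
  [(12, 44), (11, 44), (10, 44), (9, 42), (8, 44), (7, 44), (6, 44), (5, 43), (4, 42), (3, 43), (2, 43), (1, 44), (0,
    40), (18, 48), (17, 48), (16, 47), (15, 48), (14, 48), (13, 48), (12, 48), (11, 48), (10, 48), (9, 46), (8, 48),
    (7, 48), (6, 48), (5, 47), (4, 46), (3, 47), (2, 47), (1, 48), (0, 48), (26, 48), (25, 47), (24, 48), (23, 46),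
    (22, 46), (21, 47), (20, 48), (19, 48), (18, 48), (17, 47), (16, 48), (15, 48), (14, 48), (13, 48), (12, 48), (11,
    48), (10, 46), (9, 48), (8, 48), (7, 48), (6, 47), (5, 46), (4, 47), (3, 47), (2, 48), (1, 48), (0, 45), (3, 50),
    (2, 50), (1, 51), (0, 51), (8, 51), (7, 51), (6, 51), (5, 50), (4, 50), (3, 50), (2, 51), (1, 51), (0, 49), (18,
    50), (17, 51), (16, 51), (15, 51), (14, 50), (13, 51), (12, 51), (11, 51), (10, 51), (9, 51), (8, 51), (7, 51),
    (6, 51), (5, 51), (4, 50), (3, 50), (2, 50), (1, 51), (0, 51), (19, 50), (18, 51), (17, 51), (16, 51), (15, 50),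
    (14, 51), (13, 51), (12, 51), (11, 51), (10, 51), (9, 51), (8, 51), (7, 51), (6, 51), (5, 50), (4, 50), (3, 50),
    (2, 51), (1, 51), (0, 49), (1, 53), (0, 53), (2, 53), (1, 53), (0, 52), (1, 53), (0, 53), (11, 53), (10, 53)]

/-- Steps. -/
def st2_171 : List (ℕ × ℕ) :=
  [(9, 53), (8, 53), (7, 53), (6, 53), (5, 53), (4, 53), (3, 53), (2, 53), (1, 53), (0, 52), (13, 53), (12, 53), (11,
    53), (10, 53), (9, 53), (8, 53), (7, 53), (6, 53), (5, 53), (4, 53), (3, 53), (2, 53), (1, 53), (0, 53), (15, 53),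
    (14, 53), (13, 53), (12, 53), (11, 53), (10, 53), (9, 53), (8, 53), (7, 53), (6, 53), (5, 53), (4, 53), (3, 53),
    (2, 53), (1, 53), (0, 52), (0, 54), (0, 54), (0, 54), (0, 54), (0, 54), (0, 54), (0, 54), (0, 54)]

/-- Steps. -/
def st2_172 : List (ℕ × ℕ) :=
  []

/-- Steps. -/
def st2_173 : List (ℕ × ℕ) :=
  []

/-- Steps. -/
def st2_174 : List (ℕ × ℕ) :=
  [(2, 8), (1, 3), (0, 0), (3, 44), (2, 43), (1, 42), (4, 51), (3, 50), (2, 49), (3, 53), (2, 52)]

/-- Steps. -/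
def st2_175 : List (ℕ × ℕ) :=
  [(2, 17), (1, 16), (4, 25), (3, 25), (2, 24), (6, 38), (5, 38), (4, 39), (3, 37), (7, 43), (6, 43), (5, 44), (4, 42),
    (8, 47), (7, 47), (6, 48), (5, 46), (7, 53), (8, 53), (7, 52)]

/-- Steps. -/
def st2_176 : List (ℕ × ℕ) :=
  [(3, 8), (2, 7), (1, 5), (0, 0), (3, 33), (2, 32), (1, 31), (0, 29), (5, 50), (4, 51), (3, 50), (2, 49), (3, 53), (2,
    52)]

/-- Steps. -/
def st2_177 : List (ℕ × ℕ) :=
  [(4, 6), (3, 5), (2, 4), (1, 2), (0, 1), (7, 25), (6, 23), (5, 22), (4, 21), (3, 20), (2, 19), (29, 25), (28, 24),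
    (27, 24), (26, 23), (25, 22), (24, 25), (23, 24), (22, 22), (21, 21), (20, 26), (19, 25), (18, 24), (17, 22), (16,
    25), (15, 24), (14, 23), (13, 26), (12, 22), (11, 26), (10, 21), (9, 26), (8, 25), (7, 22), (6, 20), (5, 26), (4,
    25), (3, 24), (2, 22), (8, 33), (7, 32), (6, 33), (5, 31), (4, 33), (3, 29), (49, 32), (48, 33), (47, 31), (46,
    33), (45, 31), (44, 31), (43, 30), (42, 33), (41, 29), (40, 32), (39, 33), (38, 31), (37, 33), (36, 29), (35, 33),
    (34, 28), (33, 33), (32, 32), (31, 33), (30, 31), (29, 33), (28, 29), (27, 32), (26, 33), (25, 31), (24, 31), (23,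
    30), (22, 33), (21, 33), (20, 29), (19, 33), (18, 33), (17, 28), (16, 33), (15, 32), (14, 33), (13, 29), (12, 33),
    (11, 32), (10, 29), (9, 33), (8, 32), (7, 33), (6, 31), (5, 33), (4, 29), (3, 27), (16, 39), (15, 38), (14, 39),
    (13, 35), (12, 39), (11, 38), (10, 35), (9, 39), (8, 38), (7, 39), (6, 37), (5, 39), (4, 35), (3, 37), (34, 39),
    (33, 38), (32, 39), (31, 37), (30, 39), (29, 35), (28, 38), (27, 39), (26, 37), (25, 37), (24, 37), (23, 36), (22,
    39), (21, 39)]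

/-- Steps. -/
def st2_178 : List (ℕ × ℕ) :=
  [(20, 35), (19, 39), (18, 39), (17, 39), (16, 38), (15, 39), (14, 35), (13, 39), (12, 38), (11, 35), (10, 39), (9,
    38), (8, 39), (7, 37), (6, 39), (5, 35), (4, 37), (3, 34), (51, 38), (50, 39), (49, 37), (48, 39), (47, 37), (46,
    37), (45, 37), (44, 36), (43, 39), (42, 35), (41, 38), (40, 39), (39, 37), (38, 39), (37, 35), (36, 39), (35, 39),
    (34, 38), (33, 39), (32, 37), (31, 39), (30, 35), (29, 38), (28, 39), (27, 37), (26, 37), (25, 37), (24, 38), (23,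
    36), (22, 39), (21, 39), (20, 35), (19, 39), (18, 39), (17, 39), (16, 38), (15, 39), (14, 35), (13, 39), (12, 38),
    (11, 35), (10, 39), (9, 38), (8, 39), (7, 37), (6, 39), (5, 35), (4, 37), (3, 38), (5, 42), (4, 43), (11, 44),
    (10, 43), (9, 44), (8, 42), (7, 44), (6, 42), (5, 43), (4, 40), (13, 44), (12, 43), (11, 44), (10, 43), (9, 44),
    (8, 42), (7, 44), (6, 42), (5, 43), (4, 44), (19, 44), (18, 44), (17, 44), (16, 43), (15, 44), (14, 44), (13, 43),
    (12, 44), (11, 43), (10, 44), (9, 42), (8, 44), (7, 42), (6, 43), (5, 44), (4, 40), (29, 43), (28, 44), (27, 42),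
    (26, 42), (25, 42), (24, 43), (23, 43), (22, 41), (21, 44), (20, 44), (19, 44), (18, 44), (17, 44), (16, 43), (15,
    44), (14, 44), (13, 43)]

/-- Steps. -/
def st2_179 : List (ℕ × ℕ) :=
  [(12, 44), (11, 43), (10, 44), (9, 42), (8, 44), (7, 42), (6, 43), (5, 44), (4, 44), (37, 44), (36, 44), (35, 43),
    (34, 44), (33, 42), (32, 44), (31, 43), (30, 44), (29, 42), (28, 42), (27, 42), (26, 43), (25, 43), (24, 44), (23,
    41), (22, 44), (21, 44), (20, 44), (19, 44), (18, 44), (17, 43), (16, 44), (15, 44), (14, 43), (13, 44), (12, 43),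
    (11, 44), (10, 42), (9, 44), (8, 42), (7, 43), (6, 44), (5, 44), (4, 40), (42, 43), (41, 44), (40, 42), (39, 44),
    (38, 44), (37, 44), (36, 43), (35, 44), (34, 42), (33, 44), (32, 43), (31, 44), (30, 42), (29, 42), (28, 42), (27,
    43), (26, 43), (25, 44), (24, 44), (23, 41), (22, 44), (21, 44), (20, 44), (19, 44), (18, 44), (17, 43), (16, 44),
    (15, 44), (14, 43), (13, 44), (12, 43), (11, 44), (10, 42), (9, 44), (8, 42), (7, 43), (6, 44), (5, 44), (4, 44),
    (23, 48), (22, 48), (21, 48), (20, 48), (19, 48), (18, 47), (17, 48), (16, 48), (15, 47), (14, 48), (13, 47), (12,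
    48), (11, 46), (10, 48), (9, 46), (8, 47), (7, 48), (6, 48), (5, 48), (45, 48), (44, 47), (43, 48), (42, 46), (41,
    48), (40, 48), (39, 48), (38, 47), (37, 48), (36, 46), (35, 48), (34, 47), (33, 48), (32, 46), (31, 46), (30, 46),
    (29, 47), (28, 47), (27, 48)]

/-- Steps. -/
def st2_180 : List (ℕ × ℕ) :=
  [(26, 48), (25, 48), (24, 48), (23, 48), (22, 48), (21, 48), (20, 48), (19, 47), (18, 48), (17, 48), (16, 47), (15,
    48), (14, 47), (13, 48), (12, 46), (11, 48), (10, 46), (9, 47), (8, 48), (7, 48), (6, 48), (5, 45), (52, 47), (51,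
    48), (50, 46), (49, 48), (48, 46), (47, 46), (46, 46), (45, 47), (44, 48), (43, 47), (42, 48), (41, 46), (40, 48),
    (39, 48), (38, 48), (37, 47), (36, 48), (35, 46), (34, 48), (33, 47), (32, 48), (31, 46), (30, 46), (29, 46), (28,
    47), (27, 47), (26, 48), (25, 48), (24, 48), (23, 48), (22, 48), (21, 48), (20, 48), (19, 48), (18, 47), (17, 48),
    (16, 48), (15, 47), (14, 48), (13, 47), (12, 48), (11, 46), (10, 48), (9, 46), (8, 47), (7, 48), (6, 48), (5, 48),
    (9, 50), (8, 51), (7, 51), (6, 51), (11, 51), (10, 50), (9, 51), (8, 51), (7, 51), (6, 49), (27, 50), (26, 50),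
    (25, 51), (24, 51), (23, 51), (22, 51), (21, 51), (20, 51), (19, 51), (18, 51), (17, 50), (16, 51), (15, 51), (14,
    50), (13, 51), (12, 50), (11, 51), (10, 51), (9, 50), (8, 51), (7, 51), (6, 51), (28, 50), (27, 50), (26, 51),
    (25, 51), (24, 51), (23, 51), (22, 51), (21, 51), (20, 51), (19, 51), (18, 50), (17, 51), (16, 51), (15, 50), (14,
    51), (13, 50), (12, 51), (11, 51)]

/-- Steps. -/
def st2_181 : List (ℕ × ℕ) :=
  [(10, 50), (9, 51), (8, 51), (7, 51), (6, 49), (27, 50), (26, 50), (25, 51), (24, 51), (23, 51), (22, 51), (21, 51),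
    (20, 51), (19, 51), (18, 51), (17, 50), (16, 51), (15, 51), (14, 50), (13, 51), (12, 50), (11, 51), (10, 51), (9,
    50), (8, 51), (7, 51), (6, 51), (31, 51), (30, 50), (29, 51), (28, 50), (27, 50), (26, 51), (25, 51), (24, 51),
    (23, 51), (22, 51), (21, 51), (20, 51), (19, 51), (18, 50), (17, 51), (16, 51), (15, 50), (14, 51), (13, 50), (12,
    51), (11, 51), (10, 50), (9, 51), (8, 51), (7, 51), (6, 49), (35, 51), (34, 51), (33, 51), (32, 50), (31, 51),
    (30, 51), (29, 50), (28, 51), (27, 50), (26, 50), (25, 51), (24, 51), (23, 51), (22, 51), (21, 51), (20, 51), (19,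
    51), (18, 51), (17, 50), (16, 51), (15, 51), (14, 50), (13, 51), (12, 50), (11, 51), (10, 51), (9, 50), (8, 51),
    (7, 51), (6, 51), (40, 50), (39, 51), (38, 50), (37, 51), (36, 51), (35, 51), (34, 51), (33, 50), (32, 51), (31,
    51), (30, 50), (29, 51), (28, 50), (27, 50), (26, 51), (25, 51), (24, 51), (23, 51), (22, 51), (21, 51), (20, 51),
    (19, 51), (18, 50), (17, 51), (16, 51), (15, 50), (14, 51), (13, 50), (12, 51), (11, 51), (10, 50), (9, 51), (8,
    51), (7, 51), (6, 49), (39, 50), (38, 51)]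

/-- Steps. -/
def st2_182 : List (ℕ × ℕ) :=
  [(37, 50), (36, 51), (35, 51), (34, 51), (33, 51), (32, 50), (31, 51), (30, 51), (29, 50), (28, 51), (27, 50), (26,
    50), (25, 51), (24, 51), (23, 51), (22, 51), (21, 51), (20, 51), (19, 51), (18, 51), (17, 50), (16, 51), (15, 51),
    (14, 50), (13, 51), (12, 50), (11, 51), (10, 51), (9, 50), (8, 51), (7, 51), (6, 51), (40, 50), (39, 51), (38,
    50), (37, 51), (36, 51), (35, 51), (34, 51), (33, 50), (32, 51), (31, 51), (30, 50), (29, 51), (28, 50), (27, 50),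
    (26, 51), (25, 51), (24, 51), (23, 51), (22, 51), (21, 51), (20, 51), (19, 51), (18, 50), (17, 51), (16, 51), (15,
    50), (14, 51), (13, 50), (12, 51), (11, 51), (10, 50), (9, 51), (8, 51), (7, 51), (6, 49), (40, 51), (39, 50),
    (38, 51), (37, 50), (36, 51), (35, 51), (34, 51), (33, 51), (32, 50), (31, 51), (30, 51), (29, 50), (28, 51), (27,
    50), (26, 50), (25, 51), (24, 51), (23, 51), (22, 51), (21, 51), (20, 51), (19, 51), (18, 51), (17, 50), (16, 51),
    (15, 51), (14, 50), (13, 51), (12, 50), (11, 51), (10, 51), (9, 50), (8, 51), (7, 51), (6, 51), (9, 53), (8, 53),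
    (7, 53), (12, 53), (11, 53), (10, 53), (9, 53), (8, 53), (7, 52), (12, 53), (11, 53), (10, 53), (9, 53), (8, 53),
    (7, 53), (15, 53), (14, 53), (13, 53)]

/-- Steps. -/
def st2_183 : List (ℕ × ℕ) :=
  [(12, 53), (11, 53), (10, 53), (9, 53), (8, 53), (7, 52), (22, 53), (21, 53), (20, 53), (19, 53), (18, 53), (17, 53),
    (16, 53), (15, 53), (14, 53), (13, 53), (12, 53), (11, 53), (10, 53), (9, 53), (8, 53), (7, 53), (23, 53), (22,
    53), (21, 53), (20, 53), (19, 53), (18, 53), (17, 53), (16, 53), (15, 53), (14, 53), (13, 53), (12, 53), (11, 53),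
    (10, 53), (9, 53), (8, 53), (7, 52), (23, 53), (22, 53), (21, 53), (20, 53), (19, 53), (18, 53), (17, 53), (16,
    53), (15, 53), (14, 53), (13, 53), (12, 53), (11, 53), (10, 53), (9, 53), (8, 53), (7, 53), (26, 53), (25, 53),
    (24, 53), (23, 53), (22, 53), (21, 53), (20, 53), (19, 53), (18, 53), (17, 53), (16, 53), (15, 53), (14, 53), (13,
    53), (12, 53), (11, 53), (10, 53), (9, 53), (8, 53), (7, 52), (29, 53), (28, 53), (27, 53), (26, 53), (25, 53),
    (24, 53), (23, 53), (22, 53), (21, 53), (20, 53), (19, 53), (18, 53), (17, 53), (16, 53), (15, 53), (14, 53), (13,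
    53), (12, 53), (11, 53), (10, 53), (9, 53), (8, 53), (7, 53), (31, 53), (30, 53), (29, 53), (28, 53), (27, 53),
    (26, 53), (25, 53), (24, 53), (23, 53), (22, 53), (21, 53), (20, 53), (19, 53), (18, 53), (17, 53), (16, 53), (15,
    53), (14, 53), (13, 53), (12, 53), (11, 53)]

/-- Steps. -/
def st2_184 : List (ℕ × ℕ) :=
  [(10, 53), (9, 53), (8, 53), (7, 52), (32, 53), (31, 53), (30, 53), (29, 53), (28, 53), (27, 53), (26, 53), (25, 53),
    (24, 53), (23, 53), (22, 53), (21, 53), (20, 53), (19, 53), (18, 53), (17, 53), (16, 53), (15, 53), (14, 53), (13,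
    53), (12, 53), (11, 53), (10, 53), (9, 53), (8, 53), (7, 53), (33, 53), (32, 53), (31, 53), (30, 53), (29, 53),
    (28, 53), (27, 53), (26, 53), (25, 53), (24, 53), (23, 53), (22, 53), (21, 53), (20, 53), (19, 53), (18, 53), (17,
    53), (16, 53), (15, 53), (14, 53), (13, 53), (12, 53), (11, 53), (10, 53), (9, 53), (8, 53), (7, 52), (7, 54), (7,
    54), (7, 54), (7, 54), (7, 54), (7, 54), (7, 54), (7, 54), (7, 54), (7, 54), (7, 54), (7, 54), (7, 54)]

/-- Steps. -/
def st2_185 : List (ℕ × ℕ) :=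
  [(2, 8), (1, 3), (0, 0), (3, 33), (2, 32), (1, 31), (0, 27), (0, 49), (1, 53), (0, 52)]

/-- Steps. -/
def st2_186 : List (ℕ × ℕ) :=
  [(2, 8), (1, 7), (0, 0), (2, 51), (1, 50), (0, 49), (1, 53), (0, 52)]

/-- Steps. -/
def st2_187 : List (ℕ × ℕ) :=
  [(1, 51), (0, 49)]

/-- Steps. -/
def st2_188 : List (ℕ × ℕ) :=
  [(4, 25), (3, 23), (2, 21), (1, 20), (0, 19), (3, 33), (2, 32), (1, 31), (0, 29), (12, 32), (11, 31), (10, 30), (9,
    33), (8, 28), (7, 33), (6, 32), (5, 29), (4, 33), (3, 32), (2, 31), (1, 29), (0, 27), (7, 39), (6, 38), (5, 35),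
    (4, 39), (3, 38), (2, 37), (1, 35), (0, 37), (13, 38), (12, 37), (11, 37), (10, 36), (9, 39), (8, 39), (7, 38),
    (6, 35), (5, 39), (4, 38), (3, 37), (2, 35), (1, 37), (0, 34), (1, 42), (0, 43), (5, 44), (4, 43), (3, 42), (2,
    42), (1, 43), (0, 40), (8, 48), (7, 48), (6, 47), (5, 48), (4, 47), (3, 46), (2, 46), (1, 47), (0, 48), (13, 47),
    (12, 46), (11, 46), (10, 47), (9, 48), (8, 48), (7, 47), (6, 48), (5, 47), (4, 46), (3, 46), (2, 47), (1, 48), (0,
    45), (1, 50), (0, 51), (2, 50), (1, 51), (0, 49), (7, 50), (6, 51), (5, 51), (4, 50), (3, 51), (2, 50), (1, 50),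
    (0, 51), (8, 50), (7, 51), (6, 51), (5, 50), (4, 51), (3, 50), (2, 50), (1, 51), (0, 49), (0, 53), (1, 53), (0,
    52), (1, 53), (0, 53), (4, 53), (3, 53), (2, 53), (1, 53), (0, 52), (3, 53), (2, 53), (1, 53), (0, 53), (4, 53),
    (3, 53), (2, 53), (1, 53), (0, 52), (0, 54), (0, 54)]

/-- Steps. -/
def st2_189 : List (ℕ × ℕ) :=
  [(4, 17), (3, 15), (2, 14), (1, 12), (0, 10), (1, 31), (0, 28), (10, 32), (9, 33), (8, 32), (7, 31), (6, 30), (5, 33),
    (4, 29), (3, 28), (2, 31), (1, 28), (0, 27), (0, 37), (2, 37), (1, 37), (0, 34), (2, 42), (1, 42), (0, 43), (10,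
    43), (9, 44), (8, 43), (7, 42), (6, 42), (5, 41), (4, 44), (3, 42), (2, 42), (1, 43), (0, 40), (4, 48), (3, 46),
    (2, 46), (1, 47), (0, 48), (11, 47), (10, 48), (9, 47), (8, 46), (7, 46), (6, 48), (5, 48), (4, 46), (3, 46), (2,
    47), (1, 48), (0, 45), (1, 50), (0, 51), (2, 50), (1, 51), (0, 49), (3, 51), (2, 51), (1, 50), (0, 51), (4, 51),
    (3, 51), (2, 50), (1, 51), (0, 49), (0, 53), (3, 53), (2, 53), (1, 53), (0, 52), (3, 53), (2, 53), (1, 53), (0,
    53), (4, 53), (3, 53), (2, 53), (1, 53), (0, 52), (0, 54), (0, 54)]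

/-- Steps. -/
def st2_190 : List (ℕ × ℕ) :=
  [(4, 38), (3, 37), (2, 36), (1, 35), (0, 34), (0, 43), (5, 43), (4, 42), (3, 43), (2, 41), (1, 43), (0, 40), (1, 47),
    (0, 48), (6, 47), (5, 46), (4, 47), (3, 48), (2, 47), (1, 48), (0, 45), (3, 50), (2, 51), (1, 50), (0, 51), (5,
    50), (4, 50), (3, 51), (2, 50), (1, 51), (0, 49), (0, 53), (2, 53), (1, 53), (0, 52), (1, 53), (0, 53), (2, 53),
    (1, 53), (0, 52), (0, 54)]

/-- Steps. -/
def st2_191 : List (ℕ × ℕ) :=
  []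

/-- Steps. -/
def st2_192 : List (ℕ × ℕ) :=
  []

/-- Steps. -/
def st2_193 : List (ℕ × ℕ) :=
  [(4, 18), (3, 15), (2, 14), (1, 12), (0, 10), (1, 31), (0, 28), (10, 33), (9, 33), (8, 32), (7, 31), (6, 30), (5, 33),
    (4, 29), (3, 28), (2, 31), (1, 28), (0, 27), (0, 37), (2, 37), (1, 37), (0, 34), (2, 42), (1, 42), (0, 43), (10,
    44), (9, 44), (8, 43), (7, 42), (6, 42), (5, 41), (4, 44), (3, 42), (2, 42), (1, 43), (0, 40), (4, 48), (3, 46),
    (2, 46), (1, 47), (0, 48), (11, 48), (10, 48), (9, 47), (8, 46), (7, 46), (6, 48), (5, 48), (4, 46), (3, 46), (2,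
    47), (1, 48), (0, 45), (1, 50), (0, 51), (2, 50), (1, 51), (0, 49), (3, 51), (2, 51), (1, 50), (0, 51), (4, 51),
    (3, 51), (2, 50), (1, 51), (0, 49), (0, 53), (3, 53), (2, 53), (1, 53), (0, 52), (4, 53), (3, 53), (2, 53), (1,
    53), (0, 53), (1, 54), (1, 54)]

/-- Steps. -/
def st2_194 : List (ℕ × ℕ) :=
  [(3, 37), (2, 35), (4, 42), (3, 40), (4, 46), (3, 48), (4, 51), (5, 51), (4, 49), (4, 53)]

/-- Steps. -/
def st2_195 : List (ℕ × ℕ) :=
  [(4, 17), (3, 15), (2, 14), (1, 12), (0, 10), (1, 31), (0, 28), (10, 32), (9, 33), (8, 32), (7, 31), (6, 30), (5, 33),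
    (4, 29), (3, 28), (2, 31), (1, 28), (0, 27), (0, 37), (2, 37), (1, 37), (0, 34), (2, 42), (1, 42), (0, 43), (10,
    43), (9, 44), (8, 43), (7, 42), (6, 42), (5, 41), (4, 44), (3, 42), (2, 42), (1, 43), (0, 40), (4, 48), (3, 46),
    (2, 46), (1, 47), (0, 48), (11, 47), (10, 48), (9, 47), (8, 46), (7, 46), (6, 48), (5, 48), (4, 46), (3, 46), (2,
    47), (1, 48), (0, 45), (1, 50), (0, 51), (2, 50), (1, 51), (0, 49), (3, 51), (2, 51), (1, 50), (0, 51), (4, 51),
    (3, 51), (2, 50), (1, 51), (0, 49), (0, 53), (3, 53), (2, 53), (1, 53), (0, 52), (3, 53), (2, 53), (1, 53), (0,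
    53), (1, 54), (1, 54)]

/-- Steps. -/
def st2_196 : List (ℕ × ℕ) :=
  [(4, 25), (3, 24), (2, 23), (1, 22), (0, 21), (9, 32), (8, 33), (7, 31), (6, 31), (5, 30), (4, 33), (3, 29), (2, 33),
    (1, 28), (3, 44), (11, 43), (10, 44), (9, 42), (8, 42), (7, 42), (6, 41), (5, 44), (4, 44), (3, 40), (5, 48), (4,
    48), (3, 48), (7, 51), (6, 51), (5, 51), (4, 51), (8, 51), (7, 51), (6, 51), (5, 51), (4, 49), (7, 51), (6, 51),
    (5, 51), (4, 51), (10, 50), (9, 51), (8, 51), (7, 51), (6, 51), (5, 51), (4, 49), (8, 53), (7, 53), (6, 53), (5,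
    53), (4, 53), (5, 54), (5, 54)]

/-- The certificate. -/
def cert2 : WordCert.Cert where
  m := 10
  p := 2
  n := 2
  rels := [([0, 0], []), ([1, 0], [0, 1, 2, 3, 4, 5, 6, 8]), ([2, 0], [0, 2, 5, 7, 8, 9]), ([3, 0], [0, 3, 7]), ([4, 0], [0, 4,
    5, 7, 8]), ([5, 0], [0, 5]), ([6, 0], [0, 6, 7]), ([7, 0], [0, 7]), ([8, 0], [0, 8, 9]), ([9, 0], [0, 9]), ([1,
    1], [4, 7]), ([2, 1], [1, 2, 4, 5, 9]), ([3, 1], [1, 3, 4]), ([4, 1], [1, 4, 8]), ([5, 1], [1, 5, 9]), ([6, 1],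
    [1, 6, 7, 8, 9]), ([7, 1], [1, 7, 8]), ([8, 1], [1, 8]), ([9, 1], [1, 9]), ([2, 2], [5, 7, 8, 9]), ([3, 2], [2, 3,
    5, 8, 9]), ([4, 2], [2, 4, 9]), ([5, 2], [2, 5, 9]), ([6, 2], [2, 6, 7]), ([7, 2], [2, 7, 9]), ([8, 2], [2, 8]),
    ([9, 2], [2, 9]), ([3, 3], [7]), ([4, 3], [3, 4]), ([5, 3], [3, 5]), ([6, 3], [3, 6, 7]), ([7, 3], [3, 7]), ([8,
    3], [3, 8]), ([9, 3], [3, 9]), ([4, 4], [8]), ([5, 4], [4, 5]), ([6, 4], [4, 6, 8]), ([7, 4], [4, 7]), ([8, 4],
    [4, 8]), ([9, 4], [4, 9]), ([5, 5], [9]), ([6, 5], [5, 6, 9]), ([7, 5], [5, 7]), ([8, 5], [5, 8]), ([9, 5], [5,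
    9]), ([6, 6], []), ([7, 6], [6, 7]), ([8, 6], [6, 8]), ([9, 6], [6, 9]), ([7, 7], []), ([8, 7], [7, 8]), ([9, 7],
    [7, 9]), ([8, 8], []), ([9, 8], [8, 9]), ([9, 9], [])]
  slots := [(0, [2, 3, 5, 9], [0, 3, 6, 8, 9]), (0, [0, 3, 7, 8], [2, 3, 6, 8]), (0, [6, 7, 9], [6, 9]), (0, [6, 7], [6]), (1,
    [0, 5, 8, 9], [0, 2, 3, 4, 6, 9]), (1, [0, 5, 8], [0, 9]), (2, [1, 3, 7], [8]), (3, [3, 5, 6, 8], [4, 5, 6]), (4,
    [0, 5, 6, 8, 9], [0, 1, 2, 4, 6, 7, 9]), (4, [0, 5, 7, 8], [1, 2, 4, 5, 6]), (4, [0, 3, 8], [0, 7, 8]), (4, [7,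
    9], [2, 3, 4, 6, 8]), (4, [7], [2, 3, 4, 6, 8, 9]), (5, [1, 3, 5, 6, 8], [4, 5, 6, 7, 8]), (5, [1, 3, 5, 6, 9],
    [2, 3, 5, 7]), (5, [1, 3, 7], [2, 3, 4, 6, 9])]
  eqs := [([1, 0, 0], (st2_0 ++ st2_1 ++ st2_2 ++ st2_3), st2_4), ([1, 1, 0], st2_5, (st2_6 ++ st2_7 ++ st2_8 ++ st2_9 ++
    st2_10)), ([2, 1, 0], (st2_11 ++ st2_12), (st2_13 ++ st2_14)), ([3, 1, 0], st2_15, st2_16), ([4, 1, 0], st2_17,
    st2_18), ([5, 1, 0], st2_19, st2_20), ([6, 1, 0], st2_21, st2_22), ([7, 1, 0], st2_23, st2_24), ([8, 1, 0],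
    st2_25, st2_26), ([9, 1, 0], st2_27, st2_28), ([2, 0, 0], st2_29, st2_30), ([2, 2, 0], st2_31, st2_32), ([3, 2,
    0], st2_33, st2_34), ([4, 2, 0], st2_35, st2_36), ([5, 2, 0], st2_37, st2_38), ([6, 2, 0], st2_39, st2_40), ([7,
    2, 0], st2_41, st2_42), ([8, 2, 0], st2_43, st2_44), ([9, 2, 0], st2_45, st2_46), ([3, 0, 0], st2_47, st2_48),
    ([3, 3, 0], st2_49, st2_50), ([4, 3, 0], st2_51, st2_52), ([5, 3, 0], st2_53, st2_54), ([6, 3, 0], st2_55,
    st2_56), ([8, 3, 0], st2_57, st2_58), ([9, 3, 0], st2_59, st2_60), ([4, 0, 0], st2_61, st2_62), ([4, 4, 0],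
    st2_63, st2_64), ([5, 4, 0], st2_65, st2_66), ([7, 4, 0], st2_67, st2_68), ([1, 1, 1], st2_69, st2_70), ([2, 1,
    1], st2_71, st2_72), ([2, 2, 1], st2_73, st2_74), ([3, 2, 1], st2_75, st2_76), ([4, 2, 1], st2_77, st2_78), ([5,
    2, 1], st2_79, st2_80), ([7, 2, 1], st2_81, st2_82), ([4, 3, 1], st2_83, st2_84)]
  ceqs := [(([0, 0], [2, 3]), (st2_85, st2_86), (st2_87, st2_88)), (([1, 0], [0, 1, 2, 3]), (st2_89, st2_90), (st2_91, st2_92)),
    (([2, 0], [0, 2]), (st2_93, st2_94), (st2_95, st2_96)), (([5, 4], [4, 5]), (st2_97, st2_98), (st2_99, st2_100)),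
    (([6, 6], []), (st2_101, st2_102), (st2_103, st2_104)), (([7, 7], []), (st2_105, st2_106), (st2_107, st2_108)),
    (([8, 8], [11]), (st2_109, (st2_110 ++ st2_111 ++ st2_112 ++ st2_113 ++ st2_114 ++ st2_115 ++ st2_116 ++ st2_117
    ++ st2_118 ++ st2_119 ++ st2_120 ++ st2_121 ++ st2_122 ++ st2_123 ++ st2_124 ++ st2_125 ++ st2_126 ++ st2_127)),
    (st2_128, st2_129)), (([9, 8], [8, 9, 11]), (st2_130, (st2_131 ++ st2_132 ++ st2_133 ++ st2_134 ++ st2_135 ++
    st2_136 ++ st2_137 ++ st2_138 ++ st2_139 ++ st2_140 ++ st2_141 ++ st2_142 ++ st2_143 ++ st2_144 ++ st2_145 ++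
    st2_146 ++ st2_147 ++ st2_148)), (st2_149, (st2_150 ++ st2_151 ++ st2_152 ++ st2_153 ++ st2_154 ++ st2_155 ++
    st2_156))), (([10, 8], [8, 10, 12]), (st2_157, st2_158), (st2_159, (st2_160 ++ st2_161 ++ st2_162 ++ st2_163 ++
    st2_164 ++ st2_165 ++ st2_166 ++ st2_167))), (([9, 9], []), (st2_168, (st2_169 ++ st2_170 ++ st2_171)), (st2_172,
    st2_173)), (([10, 9], [9, 10, 12]), (st2_174, st2_175), (st2_176, (st2_177 ++ st2_178 ++ st2_179 ++ st2_180 ++
    st2_181 ++ st2_182 ++ st2_183 ++ st2_184))), (([10, 10], [11, 12]), (st2_185, st2_186), (st2_187, st2_188)),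
    (([13, 13], []), (st2_189, st2_190), (st2_191, st2_192)), (([14, 13], [13, 14]), (st2_193, st2_194), (st2_195,
    st2_196))]
  rows := [0x1000011100111001010101111010111110000000000101111100, 0x1001001111010100111001001001111101110101111100010010000,
    0x1110111110111110011001010010111110101110100001000110000,
    0x1101011010101100011101111000011001100010000000000010000,
    0x1100100110101100011000110110111011000110100000100000000,
    0x100000000010100000100000100100010000000000001000000000,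
    0x1110110000110101001001011000100100000010000001110000000, 0x101110111001110001110000011000000000000000100000000,
    0x100001100110001100001100000110000001000000000000000000,
    0x100001000100001000001000000100000000000000000000000000,
    0x111110000111010000000000000000000000000000001110100000, 0x11110000011010000000000000111010000000000001110100000,
    0x100100000101000000001110100001000000000000001100100000,
    0x1100000000100001110100000000011010000000000001000000000,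
    0x101000000011000000000000000000000000000000001000000000,
    0x1000001110100100000000000000001000000000000000010000000,
    0x100100000101000000000000000000000000000000001000000000, 0x1100000110000000000000000100000000000000000000000000,
    0x101000000100000000000000000000000000000000000000000000, 0x10000000000000000000000000000000000000000010000000,
    0x10000000000000000010000000000000000000000010000000, 0x100000001000010000110100000000000000000000000000000,
    0x1000000000000000000000000000000000000000000, 0x10000000000000010000000000000000000000010000000,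
    0x1100000000000000001000000000000000000000000000000000, 0x1000000000000000000000000000000000000000000000000000,
    0x1010110000011010000000000000000000000000000000110100000,
    0x110110000011010110100000000000000000000000000100000000, 0x11000000000000000000000000000000000000000000,
    0x100000001000000000000000000000000000000000000000000, 0x10100000000000000000000000000000000010010000000000000,
    0x1110100000110011100110000000001001001000110000000000000, 0x100000110011000110000000100011001110100000000000000,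
    0x110000000101000110000001001100100000000000000, 0x110000100100000000010000001000000000000000000,
    0x100000000100000000100000001000000000000000000, 0x1000000111001110000000000010000001000000000000000000,
    0x100000100000000000000000000000000000000, 0x11000101000111111000000001001000100010110000000001101001001,
    0x11000000010010111000000000110100101100000000000001101100000,
    0x1100001100001100000001010000101100000000000001001000000,
    0x1011001010010010100100110100100000000000000001001011100, 0x100000000000010010110011000000000010001010000000000,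
    0x101010010001000001110101101000000000000000000000000000,
    0x1000000000000010000010011011010010100000000111010100101010110110110,
    0x1000000000000111001000100011111011110100000001000101011101010110110,
    0x10000000000000110100111101011111010111001110101011110000000100111110,
    0x1100011001101111011100000000101100010001110110110100001,
    0x10000000000001110010011011111101110100101111111010110000000011011110,
    0x11000000000000010110001111011101011101110010101110000000000010001000,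
    0x1100111010001000101100011111000000000101101010000000000,
    0x101111110100100010100001110011111001100000000000000000]
  D := [0x0, 0x0, 0x10000010010, 0x0, 0x11000010100000000, 0x1000000100010000, 0x0, 0x11000000100000000, 0x10000000000000000,
    0x100000000]
  combs := [[(1, 1), (3, 1), (4, 1), (9, 1), (10, 1), (13, 1), (14, 1), (16, 1), (17, 1), (19, 1), (20, 1), (21, 1), (23, 1),
    (24, 1), (27, 1), (30, 1), (31, 1), (35, 1), (42, 1), (47, 1)], [], [(0, 1), (1, 1), (2, 1), (5, 1), (6, 1), (7,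
    1), (12, 1), (16, 1), (17, 1), (18, 1), (19, 1), (20, 1), (24, 1), (25, 1), (26, 1), (27, 1), (32, 1), (36, 1),
    (38, 1), (39, 1), (40, 1), (42, 1), (43, 1), (47, 1), (51, 1)], [(4, 1), (5, 1), (9, 1), (11, 1), (13, 1), (14,
    1), (20, 1), (24, 1), (25, 1), (29, 1), (32, 1), (34, 1), (36, 1), (37, 1), (38, 1), (39, 1), (40, 1), (45, 1),
    (47, 1), (48, 1), (49, 1), (50, 1), (51, 1)], [], [(2, 1), (3, 1), (8, 1), (10, 1), (14, 1), (22, 1), (24, 1),
    (25, 1), (28, 1), (33, 1), (35, 1), (36, 1), (40, 1), (46, 1), (48, 1)], [(0, 1), (1, 1), (2, 1), (4, 1), (5, 1),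
    (6, 1), (13, 1), (15, 1), (17, 1), (19, 1), (20, 1), (21, 1), (22, 1), (23, 1), (24, 1), (25, 1), (26, 1), (27,
    1), (28, 1), (29, 1), (34, 1), (37, 1), (41, 1), (42, 1), (43, 1), (45, 1), (48, 1), (49, 1), (50, 1)], [(2, 1),
    (3, 1), (5, 1), (7, 1), (8, 1), (10, 1), (12, 1), (13, 1), (14, 1), (15, 1), (16, 1), (17, 1), (22, 1), (24, 1),
    (33, 1), (35, 1), (36, 1), (40, 1), (46, 1), (48, 1)], [], [(16, 1), (18, 1), (25, 1), (29, 1)], [], [(0, 1), (1,
    1), (2, 1), (3, 1), (7, 1), (8, 1), (12, 1), (13, 1), (16, 1), (19, 1), (20, 1), (21, 1), (25, 1), (27, 1), (28,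
    1), (29, 1), (30, 1), (33, 1), (34, 1), (35, 1), (40, 1), (41, 1), (43, 1), (46, 1), (48, 1), (50, 1)], [(4, 1),
    (5, 1), (6, 1), (7, 1), (8, 1), (12, 1), (13, 1), (17, 1), (20, 1), (21, 1), (22, 1), (23, 1), (24, 1), (25, 1),
    (26, 1), (28, 1), (30, 1), (31, 1), (33, 1), (35, 1), (36, 1), (43, 1), (50, 1), (51, 1)], [(2, 1), (3, 1), (4,
    1), (6, 1), (7, 1), (8, 1), (10, 1), (16, 1), (17, 1), (18, 1), (21, 1), (22, 1), (24, 1), (28, 1), (30, 1), (35,
    1), (36, 1), (37, 1)], [(2, 1), (3, 1), (5, 1), (9, 1), (13, 1), (16, 1), (17, 1), (18, 1), (19, 1), (20, 1), (23,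
    1), (24, 1), (25, 1), (26, 1), (37, 1), (51, 1)], [], [], [(11, 1), (16, 1), (17, 1), (26, 1), (29, 1), (30, 1),
    (31, 1), (32, 1), (34, 1), (35, 1)], [(5, 1), (8, 1), (13, 1), (15, 1), (18, 1), (21, 1), (22, 1), (23, 1), (24,
    1)], [(3, 1), (4, 1), (9, 1), (10, 1), (12, 1), (13, 1), (14, 1), (15, 1), (17, 1), (18, 1), (19, 1), (20, 1),
    (25, 1), (28, 1), (34, 1), (36, 1), (37, 1), (42, 1), (44, 1), (46, 1), (49, 1), (51, 1)], [(2, 1), (4, 1), (5,
    1), (6, 1), (7, 1), (8, 1), (12, 1), (17, 1), (18, 1), (20, 1), (24, 1), (25, 1), (28, 1), (32, 1), (35, 1), (37,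
    1), (42, 1), (50, 1)], [(0, 1), (1, 1), (3, 1), (4, 1), (5, 1), (9, 1), (14, 1), (15, 1), (18, 1), (20, 1), (22,
    1), (26, 1), (27, 1), (28, 1), (32, 1), (33, 1), (35, 1), (41, 1), (43, 1), (45, 1), (46, 1), (49, 1)], [(2, 1),
    (3, 1), (7, 1), (10, 1), (11, 1), (18, 1), (23, 1), (24, 1), (27, 1), (28, 1), (29, 1), (33, 1), (34, 1), (35, 1),
    (36, 1), (40, 1), (46, 1), (48, 1)], [(0, 1), (1, 1), (2, 1), (4, 1), (5, 1), (6, 1), (13, 1), (14, 1), (19, 1),
    (20, 1), (21, 1), (22, 1), (26, 1), (27, 1), (28, 1), (29, 1), (34, 1), (37, 1), (40, 1), (41, 1), (42, 1), (43,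
    1), (45, 1), (48, 1), (49, 1), (50, 1)], [(2, 1), (3, 1), (7, 1), (11, 1), (13, 1), (14, 1), (16, 1), (17, 1),
    (18, 1), (23, 1), (24, 1), (26, 1), (27, 1), (29, 1), (33, 1), (34, 1), (40, 1), (46, 1), (48, 1)], [(11, 1), (13,
    1), (18, 1), (25, 1), (26, 1), (28, 1), (35, 1), (36, 1)], [(14, 1), (16, 1), (17, 1)], [(2, 1), (3, 1), (8, 1),
    (10, 1), (13, 1), (15, 1), (16, 1), (17, 1), (19, 1), (20, 1), (21, 1), (24, 1), (28, 1), (30, 1), (31, 1), (32,
    1), (34, 1), (37, 1), (42, 1), (43, 1), (50, 1), (51, 1)], [(0, 1), (1, 1), (2, 1), (4, 1), (7, 1), (8, 1), (10,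
    1), (11, 1), (12, 1), (13, 1), (14, 1), (15, 1), (17, 1), (20, 1), (24, 1), (25, 1), (26, 1), (28, 1), (30, 1),
    (31, 1), (34, 1), (41, 1), (43, 1), (45, 1), (46, 1), (49, 1), (51, 1)], [(7, 1), (8, 1), (10, 1), (12, 1), (14,
    1), (16, 1), (19, 1), (20, 1), (22, 1), (23, 1), (24, 1), (25, 1), (27, 1), (28, 1), (35, 1), (37, 1)], [(0, 1),
    (1, 1), (2, 1), (4, 1), (6, 1), (8, 1), (9, 1), (10, 1), (11, 1), (12, 1), (14, 1), (15, 1), (18, 1), (19, 1),
    (23, 1), (26, 1), (27, 1), (28, 1), (34, 1), (35, 1), (36, 1), (41, 1), (42, 1), (43, 1), (45, 1), (46, 1), (49,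
    1), (50, 1)], [(19, 1), (20, 1)], [(11, 1), (13, 1), (14, 1), (16, 1), (17, 1), (18, 1), (22, 1), (25, 1), (26,
    1), (34, 1), (36, 1), (37, 1)], [(22, 1), (24, 1), (25, 1), (29, 1)], [(0, 1), (1, 1), (3, 1), (5, 1), (6, 1), (7,
    1), (10, 1), (11, 1), (12, 1), (13, 1), (17, 1), (21, 1), (22, 1), (25, 1), (27, 1), (30, 1), (31, 1), (32, 1),
    (33, 1), (36, 1), (41, 1), (43, 1), (45, 1), (46, 1), (49, 1), (51, 1)], [(5, 1), (8, 1), (13, 1), (15, 1), (17,
    1), (18, 1), (21, 1), (22, 1), (23, 1), (24, 1), (25, 1), (28, 1), (29, 1), (35, 1)], [(4, 1), (9, 1), (11, 1),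
    (12, 1), (15, 1), (19, 1), (20, 1), (21, 1), (22, 1), (24, 1), (25, 1), (27, 1), (28, 1), (33, 1), (34, 1), (35,
    1), (36, 1), (37, 1)], [(7, 1), (8, 1), (10, 1), (11, 1), (12, 1), (13, 1), (17, 1), (18, 1), (21, 1), (23, 1),
    (24, 1), (26, 1), (27, 1), (28, 1), (29, 1), (34, 1), (35, 1), (36, 1)], [(11, 1), (13, 1), (14, 1), (16, 1), (17,
    1), (18, 1), (22, 1), (25, 1), (26, 1), (34, 1), (36, 1)], [(5, 1), (7, 1), (10, 1), (11, 1), (12, 1), (15, 1),
    (26, 1), (27, 1)], [(4, 1), (6, 1), (7, 1), (10, 1), (14, 1), (17, 1), (18, 1), (19, 1), (21, 1), (28, 1), (29,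
    1), (33, 1), (37, 1), (40, 1), (46, 1), (48, 1)], [(2, 1), (3, 1), (11, 1), (12, 1), (13, 1), (14, 1), (15, 1),
    (19, 1), (20, 1), (21, 1), (22, 1), (23, 1), (24, 1), (25, 1), (28, 1), (33, 1), (34, 1), (35, 1), (36, 1), (37,
    1), (40, 1), (46, 1), (48, 1)], [(22, 1)], [(22, 1), (28, 1)], [(14, 1), (16, 1), (25, 1), (28, 1), (29, 1)], [(1,
    1), (2, 1), (5, 1), (6, 1), (7, 1), (8, 1), (9, 1), (10, 1), (12, 1), (13, 1), (14, 1), (18, 1), (19, 1), (20, 1),
    (21, 1), (25, 1), (26, 1), (30, 1), (31, 1), (34, 1), (37, 1), (42, 1), (44, 1), (45, 1)], [(2, 1), (3, 1), (5,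
    1), (7, 1), (8, 1), (10, 1), (12, 1), (13, 1), (14, 1), (15, 1), (16, 1), (17, 1), (19, 1), (20, 1), (22, 1), (23,
    1), (24, 1), (33, 1), (35, 1), (36, 1), (40, 1), (46, 1), (48, 1)], [(5, 1), (9, 1), (11, 1), (15, 1), (21, 1),
    (23, 1), (24, 1), (25, 1), (26, 1), (35, 1), (36, 1), (37, 1)], [(5, 1), (7, 1), (9, 1), (10, 1), (11, 1), (12,
    1), (14, 1), (15, 1), (16, 1), (17, 1), (18, 1), (22, 1), (24, 1), (26, 1), (27, 1), (29, 1)], [(2, 1), (3, 1),
    (5, 1), (7, 1), (8, 1), (10, 1), (12, 1), (13, 1), (14, 1), (15, 1), (16, 1), (17, 1), (19, 1), (22, 1), (24, 1),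
    (33, 1), (35, 1), (36, 1), (40, 1), (46, 1), (48, 1)], [(22, 1), (29, 1)], [(25, 1)], [(2, 1), (3, 1), (4, 1), (6,
    1), (7, 1), (8, 1), (10, 1), (16, 1), (17, 1), (18, 1), (21, 1), (24, 1), (28, 1), (29, 1), (35, 1), (36, 1), (37,
    1)], [(14, 1), (16, 1), (18, 1), (28, 1), (29, 1)], [(10, 1), (16, 1), (25, 1), (26, 1), (29, 1)]]

/-- The generators. -/
def gi2 : List ℕ := [0, 1, 2, 3, 4, 5, 6, 7, 8, 9]

/-- The conjugators. -/
def ci2 : List ℕ := [10, 11, 12, 13, 14, 15]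

/-- Base points. -/
def base2 : List ℕ := [2, 4]

/-- Positions. -/
def pos2_0 : List ℕ :=
  [0, 890, 658, 987, 968, 265, 91, 178, 107, 688, 337, 410, 241, 848, 163, 323, 456, 288, 631, 367, 601, 544, 30, 615,
    464, 368, 519, 358, 448, 441, 598, 479, 70, 41, 62, 568, 815, 904, 726, 74, 378, 670, 784, 646, 232, 806, 921,
    582, 309, 126, 1002, 148, 765, 982, 18, 949, 883, 221, 157, 350, 730, 301, 419, 134, 834, 276, 637, 942, 845, 212,
    964, 919, 500, 260, 207, 228, 188, 541, 870, 620, 954, 876, 993, 82, 746, 1010, 753, 138, 826, 899, 704, 251, 283,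
    114, 97, 482, 774, 700, 11, 819, 799, 932, 51, 857, 196, 524, 170, 398, 588, 34, 778, 559, 528, 1023, 679, 312,
    736, 655, 687, 400, 719, 424, 504, 566, 439, 489, 384, 335, 492, 435, 334, 389, 713, 430, 511, 565, 406, 682, 653,
    742, 675, 314, 534, 1021, 39, 591, 553, 776, 199, 526, 169, 392, 862, 54, 928, 794, 12, 823, 769, 696, 96, 483,
    280, 113, 249, 705, 897, 824, 745, 1009, 752, 137, 873, 952, 81, 992, 869, 619, 189, 540, 229, 204, 258, 502, 844,
    214, 963, 916, 278, 836, 940, 636, 647, 790, 664, 381, 926, 583, 234, 802]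

/-- Positions. -/
def pos2_200 : List ℕ :=
  [46, 71, 572, 57, 814, 910, 721, 75, 156, 349, 882, 222, 133, 421, 302, 732, 308, 123, 1003, 150, 981, 762, 950, 19,
    111, 692, 342, 415, 855, 245, 327, 165, 662, 991, 5, 894, 181, 95, 270, 973, 369, 465, 354, 513, 450, 443, 593,
    472, 363, 625, 290, 457, 25, 609, 602, 545, 698, 771, 820, 8, 858, 48, 933, 795, 172, 395, 194, 521, 586, 33, 779,
    557, 532, 1017, 678, 317, 684, 402, 741, 651, 560, 508, 429, 717, 490, 437, 330, 390, 277, 837, 941, 634, 915,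
    965, 213, 843, 206, 227, 501, 259, 190, 539, 866, 621, 958, 872, 998, 80, 758, 136, 750, 1008, 248, 709, 896, 831,
    112, 286, 480, 102, 180, 92, 269, 972, 892, 3, 988, 663, 246, 851, 167, 325, 341, 413, 109, 691, 27, 608, 606,
    547, 460, 289, 628, 362, 440, 452, 474, 596, 353, 514, 371, 470, 905, 808, 73, 720, 570, 56, 40, 65, 920, 577,
    233, 800, 377, 666, 785, 640, 766, 979, 20, 947, 1004, 147, 310, 122, 131, 422, 300, 731, 218, 884, 346, 158, 881,
    220, 155, 348, 132, 420, 298, 729, 125, 307, 149, 1001, 17, 948, 764, 980]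

/-- Positions. -/
def pos2_400 : List ℕ :=
  [671, 376, 641, 791, 927, 576, 236, 807, 64, 47, 63, 569, 72, 727, 911, 809, 375, 467, 352, 517, 597, 475, 449, 447,
    459, 294, 630, 360, 611, 31, 551, 600, 108, 693, 340, 412, 326, 164, 850, 244, 893, 2, 989, 660, 93, 182, 971,
    268, 263, 503, 231, 205, 871, 623, 191, 542, 839, 279, 639, 943, 918, 967, 215, 847, 898, 825, 250, 710, 98, 481,
    281, 116, 953, 874, 996, 83, 139, 754, 1012, 744, 174, 397, 197, 522, 36, 589, 556, 782, 821, 13, 702, 773, 797,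
    934, 50, 861, 506, 561, 714, 425, 493, 434, 328, 385, 316, 674, 1016, 529, 737, 650, 680, 404, 24, 610, 546, 603,
    624, 361, 291, 458, 355, 512, 466, 370, 473, 592, 451, 442, 176, 88, 975, 271, 985, 656, 7, 895, 336, 408, 695,
    110, 160, 321, 853, 247, 44, 67, 60, 575, 908, 810, 724, 79, 238, 804, 579, 924, 382, 668, 643, 789, 121, 311,
    1005, 145, 976, 767, 22, 945, 733, 297, 129, 423, 885, 217, 344, 159, 995, 84, 879, 956, 757, 140, 1014, 749, 484,
    100, 285, 119, 252, 708, 827, 902, 939, 635, 833, 275, 914, 962, 841, 211]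

/-- Positions. -/
def pos2_600 : List ℕ :=
  [867, 618, 536, 186, 203, 226, 257, 497, 935, 792, 55, 856, 703, 768, 15, 816, 192, 527, 393, 175, 584, 38, 552, 783,
    648, 740, 685, 405, 1018, 533, 677, 318, 716, 427, 562, 509, 438, 491, 331, 388, 488, 432, 391, 332, 712, 426,
    567, 510, 313, 672, 535, 1022, 681, 401, 654, 743, 37, 590, 781, 554, 198, 525, 396, 171, 822, 14, 770, 701, 52,
    863, 930, 796, 256, 499, 201, 224, 185, 537, 616, 865, 913, 960, 840, 209, 633, 937, 273, 832, 828, 901, 253, 707,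
    117, 284, 99, 486, 755, 142, 1011, 748, 85, 997, 955, 877, 925, 580, 801, 239, 644, 788, 380, 667, 68, 45, 574,
    59, 909, 813, 723, 78, 130, 418, 734, 303, 154, 347, 223, 886, 124, 304, 1006, 151, 763, 978, 951, 21, 359, 515,
    471, 374, 599, 478, 446, 455, 548, 607, 29, 613, 463, 295, 366, 629, 409, 339, 106, 689, 162, 322, 849, 240, 266,
    969, 90, 177, 1, 889, 986, 657, 793, 931, 859, 49, 817, 9, 772, 697, 394, 168, 195, 520, 585, 32, 555, 780, 652,
    739, 686, 407, 676, 319, 1020, 531, 507, 564, 431, 718, 494, 436, 387, 333]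

/-- Positions. -/
def pos2_800 : List ℕ :=
  [87, 999, 959, 878, 751, 1015, 143, 759, 287, 118, 487, 103, 255, 711, 829, 903, 938, 632, 835, 274, 842, 210, 917,
    961, 187, 538, 617, 868, 225, 202, 498, 262, 462, 292, 364, 627, 612, 26, 605, 550, 476, 594, 453, 445, 468, 372,
    357, 516, 6, 888, 990, 659, 183, 89, 974, 267, 320, 166, 243, 854, 104, 694, 411, 343, 811, 907, 77, 722, 573, 58,
    66, 43, 642, 787, 383, 665, 237, 803, 578, 922, 983, 760, 23, 946, 1007, 144, 127, 305, 152, 351, 219, 887, 296,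
    735, 417, 135, 728, 299, 128, 416, 153, 345, 216, 880, 306, 120, 146, 1000, 16, 944, 977, 761, 805, 235, 923, 581,
    645, 786, 379, 669, 42, 69, 61, 571, 76, 725, 812, 906, 414, 338, 105, 690, 852, 242, 161, 324, 179, 94, 970, 264,
    891, 4, 661, 984, 356, 518, 469, 373, 444, 454, 595, 477, 614, 28, 604, 549, 293, 461, 626, 365, 101, 485, 115,
    282, 830, 900, 254, 706, 994, 86, 875, 957, 747, 1013, 141, 756, 622, 864, 184, 543, 261, 496, 200, 230, 936, 638,
    838, 272, 208, 846, 966, 912, 399, 173, 193, 523, 35, 587, 777, 558]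

/-- Positions. -/
def pos2_1000 : List ℕ :=
  [860, 53, 798, 929, 699, 775, 10, 818, 563, 505, 715, 428, 495, 433, 386, 329, 403, 683, 738, 649, 1019, 530, 673,
    315]

/-- Positions. -/
def pos2 : List ℕ := pos2_0 ++ pos2_200 ++ pos2_400 ++ pos2_600 ++ pos2_800 ++ pos2_1000

/-- Sorted images. -/
def tabS2 : ℕ := 0x84e2384e2084dfa84def84c8284c8184c6d84c3e84a0e849dd849c9849868495e8494d8489f8485183e0d83dee83dce83d7983d7283d3683c9d83c2082a0e829cc829aa829868297e829458290b828b68222282206821ae821968204d8203a820398202d8160d8154c8150c8149d814708145c814578145280e1f80e0680df580dd580dae80d8180c3c80c028060e805cc805c9805618054e8054d805068049f7fe147fd847fd6b7fd617fd5e7fd377fcf97fc9f7e1ee7e1727e0f77e0bc7e0b87e0727e0537e0317de147dddd7dd6b7dd4e7dd377dd2b7dc9f7dc657d20b7d1ef7d0c17d0ba7d09a7d0907d06d7d0307ca0d7c9ee7c9727c94c7c8b87c89d7c8527c8317b5dd7b5d07b5867b55e7b5457b5377b50e7b4517b21a7b1ee7b1447b1367b0bc7b0b87b0b57b0537ae147addd7ad507ad457ad377ad2b7acb67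ac517a9fe7a9f57a9be7a9b27a88e7a86a7a83c7a8257a61a7a5ee7a5957a5797a54c7a5447a4bc7a4577a1dd7a1b17a14e7a14d7a1347a12b7a10e7a0657860e785dd785aa785867854d78534784b678465781fa781dc780be780ac780aa780a9780817803877e2277e0677dfe77dc077db277d5277c4a77c0277a14779847797e77950779347792b778ea778b675dd075dcc75dc975daa75d8675d7e75cea75ce171dcc71dc971db171daa71d6171d4d71cf971ce171a2071970718f2718c1718817186d7183e718386fdce6fda46fd726fd656fcfa6fcf76fc726fc316d61a6d5ce6d5796d5366d4fa6d4e66d4c86d4206c1676c1416c0f26c0da6c0826c05e6c03e6c0226be1a6bda46bd4c6bd446bcfa6bc706bc576bc5269e2369d3969cda69caa69c8269c8169c6d69c30681a268167680be680aa6809e68090680306802267d9567d7967d0f67d0067ce667cc867c2067c17679b1679846797e6796b679506792b6790b678e1675d0675cc675616754e67545675376750e6750666a20669fa669a266966668be668a9668a2668386620d661a46619566172661656614c66100660316520d65195651796514c6510c65100650e66505764223641ef641a2641666409e6409a6409064030635d063586635846357e6355e635346350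e634ea6320b63139630da630ba630ac630a9630a26305e629fe629d2629be629b362996629816283a628026220b621ef6216762141620c1620906205e6203e60e0b60da260d6760d3960cda60caa60ca960c3060a0d609ce60965609366090c608b56089d6085c5fdd55fdb35fd815fd525fcdb5fcc95fc4a5fc235ee235eddc5ed705ed395ecac5ecaa5ec9e5ec815e1ee5e1955e1795e1725e10f5e0bc5e0725e0205b5b15b5845b5615b55e5b54d5b5345b50e5b4f95b1fe5b1d25b1ca5b1c05b1be5b1b25b03c5b0025a9d05a9845a96b5a9615a9505a9375a9065a8e15a61f5a5d55a5ca5a5ae5a4db5a46a5a43c5a42d58e2258dc058db658db258cc958c4a58c3958c2558a2258a1f58a06589c0589bd589ae5883a58802569dc56970568f2568ba568ac5689e5689a5682252da452d9552d6552d4452d0f52d0052cb552c175210f5210c520fa520e6520b8520b5520725205251e2051e0b51d7051d3951cc151cba51ca251c6d5196651941518c1518be518a2518905185e5183850dd250dbe50dbd50db350c8e50c4d50c3a50c23509cc509b15097e5094e509455092b5090e5090b501dc501705016650141500f2500c15009a500384fe0b4fddc4fd704fd674fd414fd394fcc14fcaa4be1f4bdd54bdd24bdb64bdb34bd814b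c4a4bc024b1fa4b1dc4b1674b1414b0be4b0aa4b0824b02249dd049d4e49d3449d1649d0e49d0649cea49c65498c1498be498aa49890498814986d4983849830469b14695e46945469164690e4690b468f946851449fe449b3449b244952448db4488e4486a4484a441ca441c0441bd44152440db440c94409644023421b3421ae4219642181420db420c94203a42039411f5411d5411be41181410c94103c410254102340dd240dca40db640d9640c9640c4d40c3940c2d3ba233b9663b9413b9393b8da3b8a23b8823b85e3b0f23b0da3b0ac3b0a93b0813b05e3b03e3b03837dce37d7937d0c37cfa37cf737ce637c7237c57375ca375c0375b2375ae374db374c93743c3743934cf234cda34cba34c9a34c8234c6d34c3034c2233da233d6633cf233cda33ca933c9a33c3833c3033a20339a23397033967338f23389e3383e3382231d0031cf731ce631cc831cb831c5331c3131c1731a06319f5319b2319ae3188e3184d3183c318392f61f2f5f52f5bd2f5b62f4962f48e2f46a2f4252de222ddfe2ddbe2dd962dc6a2dc3a2dc2d2dc252d20d2d1362d10c2d1002d0e62d0b82d0b52d0532c6062c5f52c5bd2c5522c4962c48e2c44d2c4232c20b2c1fa2c1ef2c1dc2c0ba2c0ac2c0a92c09a2b9f52b9b62b9962b9812b8c92b896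2b8392b8252b4be2b4ba2b4ac2b4a22b49e2b4902b45e2b42229d9529d6529d0f29d0c29cbc29cb529c7229c5c28dee28d4428d0f28cb828cb528c9d28c5228c172822228206281d5281522804d2804a2802d280232660e2658426561265502654d2653426506264b625e0e25d5025d4525d1625d0b25d0625cb625c51255fe255ca2559625552254db254962546a2542d2460e24586245842457e2456b2455e2450b2449f23e0e23d6b23d4e23d1623d0b23d0623c9f23c652361f235bd235b3235ae234db2348e2346a2343a2210c220f7220bc22072220702205c22057220531fe141fdcc1fdaa1fd611fd451fd371fcf91fcb61f5a41f5721f50f1f4fa1f4721f4701f4521f4201e9b11e9aa1e96b1e9161e90b1e8f91e8e11e8651cddd1cdc91cdb11cd501cd4d1cd2b1cce11cc511c6201c5fa1c4be1c4ba1c4a21c4821c46d1c4221b2141b1c91b15e1b1161b0f91b0ea1b09f1b05118dd218db618db318db218c8e18c4d18c4a18c3915223151ef150ac1509e15090150811505e1503e141d5141d2141ca141be1404d1403c1402d14023115ce11565114f7114c81149d1145c114311141710da410d4410d0010cf710c7010c5710c5310c1710a14109aa1093410916108f9108ea108b6108651061a10536104c8104bc10470104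5c10453104201021a1014c100fa100e6100c8100b810052100310eddd0edd00edaa0ed860ed6b0ed370ece10ec650da220da1f0d9d50d9b60d86a0d84a0d82d0d8250a6140a5cc0a5c90a57e0a54e0a52b0a4ea0a49f0a2220a1c00a1be0a1bd0a0c90a03a0a0250a02307dd007dc907d5007d1607d0607cea07ce107c510710f070c80709d070700705c070520702007017059ee059ce0597905944058f70589d05857058170561a05595055650554c054c8054bc0545c054310462304620045a2045700456604539044a20449e03e0d03da403d7203d3603d0003c7003c5303c20032200320b031fa031ef031a203167030a90303e02a06029fe029f5029960298102952028960280201e1a01dce01da401d6501d4401d3601cfa01cb501623015fa015ef015dc01566015410149a014820121f011d2011ca011c0011bd011b60109601002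

/-- Inverse positions. -/
def tabI2 : ℕ := 0x7128b08f3163fc2741111fa3252463cd1de2ba0550a91373742da2321740da03218b38b3211322bd1da2403c80520af0e93521ba1460032fe2143af3700350dc18f1712dd38e2342123560ef1431be3aa2f90041cd3de1250460ba2553372a93221303cb2432be0501d80ad2de0de03718d17337323738d1cb0431220be2503302ad3d82601ed10606530129e3eb09a1940c42c022b39236f02e1680471cc3360bb1242542a83df19e0cd2cc22436139f16002532f24f2b13c50591d00a613a2170eb1b81443ac0012fd35137b2d723c17d0380d21803872423232bf0513ca1d90ac1311c404e0b033b25812e2a73d129d0981ef3e83021040672630e435b21e3a41491b62f600d1cf3dd0440b81273342562aa1c83da1210bd3320402522af13b3c432e2b024e0581d10a709d2981e81020633ef3042670240cc2cd39e36022519f16119702d39022936d0c72c216b0643ea1ec29f10709b3002611930c122f2c536939516e02a26f1e729230f10e06e3e60933ed0601eb30610129a09e26523517003418e2dc0dd38f3713271342443cf2b81dd0560aa3241362472bb3cc0540a81df28f08b1162713113fa1fc07437d2d22380d717b03c18738019d02639d2262ce3630ce163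07831b11b2783f21f208428432d1d313924d2b33c70a505a2641ea29b0613ec10030709f21a35d1b10e114f3a32f30090763122721143f908928c1fe07211227631408c1f93fe28919002939722d2c716d36b0c21470e83ae1bb3530022ff21507528e08a3101171fd3fb2700c002b3942c422e36819216f1ca3d90420bf2511232ac3310121aa2ef1563433be0f92041c53d012f04f0b125933a2a60173b82eb3441ac2010fd1512e91523463ba2030fe0141af2e401e1a415b3b63490f620d0912911e506c3e510c30c26c0c502f3932c122a36e1691952232ca3640ca39b16419b02328607b0873193f027a1f111806f3e710f1e630e29309226e1ae3473bb2e81532020ff0153d31c704d0b312d3392a525a28a08e2751103173fd1fb0702690952950693e31e310b30b01a3b11a334f2e115d0f320908628727b1193181f03f107a1c10b712a0482a133e25f3d53f431c1f408027d11c07d28032a2b73c12480a105f1d513e01f2e53b73481a515a20c0f72e215f3b234c1a120a0f10182ec3403bd1541a82070fb0102e73b534a15920e0f41a601c1a72e634b3b40f520f01d15807c27c11d31d0811f53f528131a08511a3f32792851f307923b1790d518503e2d137e3830e33a014d1b335e00b2f02193130882731ff3f811528d0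773e006b1e129610930826a09728211f08327f31e3f61f707e36a22c0c32c639602816c1911a02e33b334d15e20b0f00190132ee3bf3420f81572051ab2e001b34e3b02080f215c1a237903b0d11832d517e38523e35f0e214c1b22f13a100a21807f08231f28327e11e3f71f60e61b414b3a700f2f521d3583152771131f83ff08d2880732311760300d81893883772d92d30d603d17a38118623937c2ed1a93bc3412060fa15501132813d24a2b505c3c31d60a21c90bc1200412533332ae3db2130ee1421bf3572f80053ab1c033f3d404912b0b625e2a032c3c62b224c05b1d20a413821f1480e51b735a3a500c2f72c322836c1963910c616a02c1c23d70b404b12925d33c2a32d60d303918137a17c23d3861ce0b91260452573352ab3dc04a1281c30b525c33d2a23d60942941e206830a10a3e22681c612c0b204c33825b2a43d23541bd0ec1403a80072fb21026b1e03e110829706a09630914a3590e71b500e2f43a621c23f17f03a0d01822d43843782db0db18a03317538a2333753262b93ce2451dc0570ab13537f03f0d41841782d023a3823760311882d80d917723038924b3292b41d73c205d0a313c0e021b14e1b00082f23a235c32b13f3c02492b61d405e0a00ed3a91bc1410062fa3552113203c92bc2411db0530ae1332272cf36239c0cf02716219c0c90203992c822136616719819a02239a2222cb3650cb1652620993e929c0661ee3031051990c82c922036739802116609026d2901e43e406d10d30d1ad0162ea3b91503450fc2003722362df1720df03618c38c2662991e909c0623ee3051032163500ea3ad1451b92fc000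

end

end Cfsg.Agent.Co3Mult
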