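import Cfsg.Agent.Lib.WordCert.Cert

/-! A word certificate at the prime 5 (found by an unshipped search). -/

set_option autoImplicit false
set_option maxRecDepth 20000

namespace Cfsg.Agent.Co3Mult

noncomputable section

/-- Steps. -/
def st5_0 : List (ℕ × ℕ) :=
  [(0, 1), (2, 2), (1, 1), (4, 2), (3, 2), (2, 1), (6, 2), (5, 2), (4, 2), (3, 1), (8, 2), (7, 2), (6, 2), (5, 2), (4,
    1), (0, 0), (1, 5)]

/-- Steps. -/
def st5_1 : List (ℕ × ℕ) :=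
  [(1, 0)]

/-- Steps. -/
def st5_2 : List (ℕ × ℕ) :=
  [(9, 2), (8, 2), (7, 2), (6, 2), (5, 1), (4, 1), (0, 0), (7, 2), (6, 2), (5, 2), (4, 2), (3, 2), (2, 1), (1, 2), (0,
    1), (10, 2), (9, 2), (8, 2), (7, 2), (6, 2), (5, 2), (4, 1), (3, 2), (2, 2), (1, 1), (13, 2), (12, 2), (11, 2),
    (10, 2), (9, 2), (8, 2), (7, 2), (6, 1), (5, 2), (4, 2), (3, 2), (2, 1), (22, 2), (21, 2), (20, 2), (19, 2), (18,
    1), (17, 1), (16, 2), (15, 2), (14, 2), (13, 2), (12, 2), (11, 2), (10, 2), (9, 2), (8, 1), (7, 2), (6, 2), (5,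
    2), (4, 2), (3, 1), (27, 2), (26, 2), (25, 2), (24, 2), (23, 2), (22, 1), (21, 2), (20, 1), (19, 2), (18, 2), (17,
    2), (16, 2), (15, 2), (14, 2), (13, 2), (12, 2), (11, 2), (10, 1), (9, 2), (8, 2), (7, 2), (6, 2), (5, 2), (4, 1),
    (0, 0), (27, 2), (26, 2), (25, 2), (24, 2), (23, 2), (22, 2), (21, 1), (20, 2), (19, 2), (18, 1), (17, 2), (16,
    2), (15, 2), (14, 2), (13, 2), (12, 2), (11, 2), (10, 2), (9, 2), (8, 2), (7, 1), (6, 2), (5, 2), (4, 2), (3, 2),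
    (2, 2), (1, 2), (0, 1), (32, 2), (31, 2), (30, 2), (29, 2), (28, 2), (27, 2), (26, 2), (25, 1), (24, 2), (23, 2)]

/-- Steps. -/
def st5_3 : List (ℕ × ℕ) :=
  [(22, 2), (21, 1), (20, 2), (19, 2), (18, 2), (17, 2), (16, 2), (15, 2), (14, 2), (13, 2), (12, 2), (11, 2), (10, 2),
    (9, 1), (8, 2), (7, 2), (6, 2), (5, 2), (4, 2), (3, 2), (2, 2), (1, 1), (43, 2), (42, 2), (41, 2), (40, 2), (39,
    1), (38, 1), (37, 2), (36, 2), (35, 2), (34, 2), (33, 2), (32, 2), (31, 2), (30, 2), (29, 1), (28, 2), (27, 2),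
    (26, 2), (25, 2), (24, 1), (23, 2), (22, 2), (21, 2), (20, 2), (19, 2), (18, 2), (17, 2), (16, 2), (15, 2), (14,
    2), (13, 2), (12, 2), (11, 1), (10, 2), (9, 2), (8, 2), (7, 2), (6, 2), (5, 2), (4, 2), (3, 2), (2, 1), (50, 2),
    (49, 2), (48, 2), (47, 2), (46, 2), (45, 1), (44, 2), (43, 1), (42, 2), (41, 2), (40, 2), (39, 2), (38, 2), (37,
    2), (36, 2), (35, 2), (34, 2), (33, 1), (32, 2), (31, 2), (30, 2), (29, 2), (28, 2), (27, 1), (26, 2), (25, 2),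
    (24, 2), (23, 2), (22, 2), (21, 2), (20, 2), (19, 2), (18, 2), (17, 2), (16, 2), (15, 2), (14, 2), (13, 1), (12,
    2), (11, 2), (10, 2), (9, 2), (8, 2), (7, 2), (6, 2), (5, 2), (4, 2), (3, 1), (57, 2), (56, 2), (55, 2), (54, 2),
    (53, 2), (52, 2), (51, 1), (50, 2)]

/-- Steps. -/
def st5_4 : List (ℕ × ℕ) :=
  [(49, 2), (48, 1), (47, 2), (46, 2), (45, 2), (44, 2), (43, 2), (42, 2), (41, 2), (40, 2), (39, 2), (38, 2), (37, 1),
    (36, 2), (35, 2), (34, 2), (33, 2), (32, 2), (31, 2), (30, 1), (29, 2), (28, 2), (27, 2), (26, 2), (25, 2), (24,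
    2), (23, 2), (22, 2), (21, 2), (20, 2), (19, 2), (18, 2), (17, 2), (16, 2), (15, 1), (14, 2), (13, 2), (12, 2),
    (11, 2), (10, 2), (9, 2), (8, 2), (7, 2), (6, 2), (5, 2), (4, 1), (0, 0), (59, 2), (58, 2), (57, 2), (56, 2), (55,
    2), (54, 2), (53, 2), (52, 1), (51, 2), (50, 2), (49, 2), (48, 1), (47, 2), (46, 2), (45, 2), (44, 2), (43, 2),
    (42, 2), (41, 2), (40, 2), (39, 2), (38, 2), (37, 2), (36, 1), (35, 2), (34, 2), (33, 2), (32, 2), (31, 2), (30,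
    2), (29, 2), (28, 1), (27, 2), (26, 2), (25, 2), (24, 2), (23, 2), (22, 2), (21, 2), (20, 2), (19, 2), (18, 2),
    (17, 2), (16, 2), (15, 2), (14, 2), (13, 2), (12, 1), (11, 2), (10, 2), (9, 2), (8, 2), (7, 2), (6, 2), (5, 2),
    (4, 2), (3, 2), (2, 2), (1, 2), (0, 1), (72, 2), (71, 2), (70, 2), (69, 2), (68, 1), (67, 1), (66, 2), (65, 2),
    (64, 2), (63, 2), (62, 2), (61, 2), (60, 2)]

/-- Steps. -/
def st5_5 : List (ℕ × ℕ) :=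
  [(59, 2), (58, 1), (57, 2), (56, 2), (55, 2), (54, 2), (53, 1), (52, 2), (51, 2), (50, 2), (49, 2), (48, 2), (47, 2),
    (46, 2), (45, 2), (44, 2), (43, 2), (42, 2), (41, 2), (40, 1), (39, 2), (38, 2), (37, 2), (36, 2), (35, 2), (34,
    2), (33, 2), (32, 2), (31, 1), (30, 2), (29, 2), (28, 2), (27, 2), (26, 2), (25, 2), (24, 2), (23, 2), (22, 2),
    (21, 2), (20, 2), (19, 2), (18, 2), (17, 2), (16, 2), (15, 2), (14, 1), (13, 2), (12, 2), (11, 2), (10, 2), (9,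
    2), (8, 2), (7, 2), (6, 2), (5, 2), (4, 2), (3, 2), (2, 2), (1, 1), (81, 2), (80, 2), (79, 2), (78, 2), (77, 2),
    (76, 1), (75, 2), (74, 1), (73, 2), (72, 2), (71, 2), (70, 2), (69, 2), (68, 2), (67, 2), (66, 2), (65, 2), (64,
    1), (63, 2), (62, 2), (61, 2), (60, 2), (59, 2), (58, 1), (57, 2), (56, 2), (55, 2), (54, 2), (53, 2), (52, 2),
    (51, 2), (50, 2), (49, 2), (48, 2), (47, 2), (46, 2), (45, 2), (44, 1), (43, 2), (42, 2), (41, 2), (40, 2), (39,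
    2), (38, 2), (37, 2), (36, 2), (35, 2), (34, 1), (33, 2), (32, 2), (31, 2), (30, 2), (29, 2), (28, 2), (27, 2),
    (26, 2), (25, 2), (24, 2), (23, 2), (22, 2), (21, 2)]

/-- Steps. -/
def st5_6 : List (ℕ × ℕ) :=
  [(20, 2), (19, 2), (18, 2), (17, 2), (16, 1), (15, 2), (14, 2), (13, 2), (12, 2), (11, 2), (10, 2), (9, 2), (8, 2),
    (7, 2), (6, 2), (5, 2), (4, 2), (3, 2), (2, 1), (90, 2), (89, 2), (88, 2), (87, 2), (86, 2), (85, 2), (84, 1),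
    (83, 2), (82, 2), (81, 1), (80, 2), (79, 2), (78, 2), (77, 2), (76, 2), (75, 2), (74, 2), (73, 2), (72, 2), (71,
    2), (70, 1), (69, 2), (68, 2), (67, 2), (66, 2), (65, 2), (64, 2), (63, 1), (62, 2), (61, 2), (60, 2), (59, 2),
    (58, 2), (57, 2), (56, 2), (55, 2), (54, 2), (53, 2), (52, 2), (51, 2), (50, 2), (49, 2), (48, 1), (47, 2), (46,
    2), (45, 2), (44, 2), (43, 2), (42, 2), (41, 2), (40, 2), (39, 2), (38, 2), (37, 1), (36, 2), (35, 2), (34, 2),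
    (33, 2), (32, 2), (31, 2), (30, 2), (29, 2), (28, 2), (27, 2), (26, 2), (25, 2), (24, 2), (23, 2), (22, 2), (21,
    2), (20, 2), (19, 2), (18, 1), (17, 2), (16, 2), (15, 2), (14, 2), (13, 2), (12, 2), (11, 2), (10, 2), (9, 2), (8,
    2), (7, 2), (6, 2), (5, 2), (4, 2), (3, 1), (99, 2), (98, 2), (97, 2), (96, 2), (95, 2), (94, 2), (93, 2), (92,
    1), (91, 2), (90, 2), (89, 2), (88, 1), (87, 2)]

/-- Steps. -/
def st5_7 : List (ℕ × ℕ) :=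
  [(86, 2), (85, 2), (84, 2), (83, 2), (82, 2), (81, 2), (80, 2), (79, 2), (78, 2), (77, 2), (76, 1), (75, 2), (74, 2),
    (73, 2), (72, 2), (71, 2), (70, 2), (69, 2), (68, 1), (67, 2), (66, 2), (65, 2), (64, 2), (63, 2), (62, 2), (61,
    2), (60, 2), (59, 2), (58, 2), (57, 2), (56, 2), (55, 2), (54, 2), (53, 2), (52, 1), (51, 2), (50, 2), (49, 2),
    (48, 2), (47, 2), (46, 2), (45, 2), (44, 2), (43, 2), (42, 2), (41, 2), (40, 1), (39, 2), (38, 2), (37, 2), (36,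
    2), (35, 2), (34, 2), (33, 2), (32, 2), (31, 2), (30, 2), (29, 2), (28, 2), (27, 2), (26, 2), (25, 2), (24, 2),
    (23, 2), (22, 2), (21, 2), (20, 1), (19, 2), (18, 2), (17, 2), (16, 2), (15, 2), (14, 2), (13, 2), (12, 2), (11,
    2), (10, 2), (9, 2), (8, 2), (7, 2), (6, 2), (5, 2), (4, 1), (0, 0), (16, 4), (15, 4), (14, 4), (13, 4), (12, 4),
    (11, 4), (10, 4), (9, 4), (8, 4), (7, 4), (6, 4), (5, 4), (4, 4), (3, 4), (2, 4), (1, 4), (37, 4), (36, 4), (35,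
    4), (34, 4), (33, 4), (32, 4), (31, 4), (30, 4), (29, 4), (28, 4), (27, 4), (26, 4), (25, 4), (24, 4), (23, 4),
    (22, 4), (21, 4), (20, 4), (19, 4), (18, 4)]

/-- Steps. -/
def st5_8 : List (ℕ × ℕ) :=
  [(17, 4), (16, 4), (15, 4), (14, 4), (13, 4), (12, 4), (11, 4), (10, 4), (9, 4), (8, 4), (7, 4), (6, 4), (5, 4), (4,
    4), (3, 4), (2, 4), (50, 4), (49, 4), (48, 4), (47, 4), (46, 4), (45, 4), (44, 4), (43, 4), (42, 4), (41, 4), (40,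
    4), (39, 4), (38, 4), (37, 4), (36, 4), (35, 4), (34, 4), (33, 4), (32, 4), (31, 4), (30, 4), (29, 4), (28, 4),
    (27, 4), (26, 4), (25, 4), (24, 4), (23, 4), (22, 4), (21, 4), (20, 4), (19, 4), (18, 4), (17, 4), (16, 4), (15,
    4), (14, 4), (13, 4), (12, 4), (11, 4), (10, 4), (9, 4), (8, 4), (7, 4), (6, 4), (5, 4), (4, 4), (3, 4), (67, 4),
    (66, 4), (65, 4), (64, 4), (63, 4), (62, 4), (61, 4), (60, 4), (59, 4), (58, 4), (57, 4), (56, 4), (55, 4), (54,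
    4), (53, 4), (52, 4), (51, 4), (50, 4), (49, 4), (48, 4), (47, 4), (46, 4), (45, 4), (44, 4), (43, 4), (42, 4),
    (41, 4), (40, 4), (39, 4), (38, 4), (37, 4), (36, 4), (35, 4), (34, 4), (33, 4), (32, 4), (31, 4), (30, 4), (29,
    4), (28, 4), (27, 4), (26, 4), (25, 4), (24, 4), (23, 4), (22, 4), (21, 4), (20, 4), (19, 4), (18, 4), (17, 4),
    (16, 4), (15, 4), (14, 4), (13, 4), (12, 4)]

/-- Steps. -/
def st5_9 : List (ℕ × ℕ) :=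
  [(11, 4), (10, 4), (9, 4), (8, 4), (7, 4), (6, 4), (5, 4), (4, 4), (0, 3), (71, 4), (70, 4), (69, 4), (68, 4), (67,
    4), (66, 4), (65, 4), (64, 4), (63, 4), (62, 4), (61, 4), (60, 4), (59, 4), (58, 4), (57, 4), (56, 4), (55, 4),
    (54, 4), (53, 4), (52, 4), (51, 4), (50, 4), (49, 4), (48, 4), (47, 4), (46, 4), (45, 4), (44, 4), (43, 4), (42,
    4), (41, 4), (40, 4), (39, 4), (38, 4), (37, 4), (36, 4), (35, 4), (34, 4), (33, 4), (32, 4), (31, 4), (30, 4),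
    (29, 4), (28, 4), (27, 4), (26, 4), (25, 4), (24, 4), (23, 4), (22, 4), (21, 4), (20, 4), (19, 4), (18, 4), (17,
    4), (16, 4), (15, 4), (14, 4), (13, 4), (12, 4), (11, 4), (10, 4), (9, 4), (8, 4), (7, 4), (6, 4), (5, 4), (4, 4),
    (3, 4), (2, 4), (1, 4), (0, 4), (84, 4), (83, 4), (82, 4), (81, 4), (80, 4), (79, 4), (78, 4), (77, 4), (76, 4),
    (75, 4), (74, 4), (73, 4), (72, 4), (71, 4), (70, 4), (69, 4), (68, 4), (67, 4), (66, 4), (65, 4), (64, 4), (63,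
    4), (62, 4), (61, 4), (60, 4), (59, 4), (58, 4), (57, 4), (56, 4), (55, 4), (54, 4), (53, 4), (52, 4), (51, 4),
    (50, 4), (49, 4), (48, 4), (47, 4), (46, 4)]

/-- Steps. -/
def st5_10 : List (ℕ × ℕ) :=
  [(45, 4), (44, 4), (43, 4), (42, 4), (41, 4), (40, 4), (39, 4), (38, 4), (37, 4), (36, 4), (35, 4), (34, 4), (33, 4),
    (32, 4), (31, 4), (30, 4), (29, 4), (28, 4), (27, 4), (26, 4), (25, 4), (24, 4), (23, 4), (22, 4), (21, 4), (20,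
    4), (19, 4), (18, 4), (17, 4), (16, 4), (15, 4), (14, 4), (13, 4), (12, 4), (11, 4), (10, 4), (9, 4), (8, 4), (7,
    4), (6, 4), (5, 4), (4, 4), (3, 4), (2, 4), (1, 4), (89, 4), (88, 4), (87, 4), (86, 4), (85, 4), (84, 4), (83, 4),
    (82, 4), (81, 4), (80, 4), (79, 4), (78, 4), (77, 4), (76, 4), (75, 4), (74, 4), (73, 4), (72, 4), (71, 4), (70,
    4), (69, 4), (68, 4), (67, 4), (66, 4), (65, 4), (64, 4), (63, 4), (62, 4), (61, 4), (60, 4), (59, 4), (58, 4),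
    (57, 4), (56, 4), (55, 4), (54, 4), (53, 4), (52, 4), (51, 4), (50, 4), (49, 4), (48, 4), (47, 4), (46, 4), (45,
    4), (44, 4), (43, 4), (42, 4), (41, 4), (40, 4), (39, 4), (38, 4), (37, 4), (36, 4), (35, 4), (34, 4), (33, 4),
    (32, 4), (31, 4), (30, 4), (29, 4), (28, 4), (27, 4), (26, 4), (25, 4), (24, 4), (23, 4), (22, 4), (21, 4), (20,
    4), (19, 4), (18, 4), (17, 4), (16, 4), (15, 4)]

/-- Steps. -/
def st5_11 : List (ℕ × ℕ) :=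
  [(14, 4), (13, 4), (12, 4), (11, 4), (10, 4), (9, 4), (8, 4), (7, 4), (6, 4), (5, 4), (4, 4), (3, 4), (2, 4), (98, 4),
    (97, 4), (96, 4), (95, 4), (94, 4), (93, 4), (92, 4), (91, 4), (90, 4), (89, 4), (88, 4), (87, 4), (86, 4), (85,
    4), (84, 4), (83, 4), (82, 4), (81, 4), (80, 4), (79, 4), (78, 4), (77, 4), (76, 4), (75, 4), (74, 4), (73, 4),
    (72, 4), (71, 4), (70, 4), (69, 4), (68, 4), (67, 4), (66, 4), (65, 4), (64, 4), (63, 4), (62, 4), (61, 4), (60,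
    4), (59, 4), (58, 4), (57, 4), (56, 4), (55, 4), (54, 4), (53, 4), (52, 4), (51, 4), (50, 4), (49, 4), (48, 4),
    (47, 4), (46, 4), (45, 4), (44, 4), (43, 4), (42, 4), (41, 4), (40, 4), (39, 4), (38, 4), (37, 4), (36, 4), (35,
    4), (34, 4), (33, 4), (32, 4), (31, 4), (30, 4), (29, 4), (28, 4), (27, 4), (26, 4), (25, 4), (24, 4), (23, 4),
    (22, 4), (21, 4), (20, 4), (19, 4), (18, 4), (17, 4), (16, 4), (15, 4), (14, 4), (13, 4), (12, 4), (11, 4), (10,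
    4), (9, 4), (8, 4), (7, 4), (6, 4), (5, 4), (4, 4), (3, 4), (99, 4), (98, 4), (97, 4), (96, 4), (95, 4), (94, 4),
    (93, 4), (92, 4), (91, 4), (90, 4), (89, 4)]

/-- Steps. -/
def st5_12 : List (ℕ × ℕ) :=
  [(88, 4), (87, 4), (86, 4), (85, 4), (84, 4), (83, 4), (82, 4), (81, 4), (80, 4), (79, 4), (78, 4), (77, 4), (76, 4),
    (75, 4), (74, 4), (73, 4), (72, 4), (71, 4), (70, 4), (69, 4), (68, 4), (67, 4), (66, 4), (65, 4), (64, 4), (63,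
    4), (62, 4), (61, 4), (60, 4), (59, 4), (58, 4), (57, 4), (56, 4), (55, 4), (54, 4), (53, 4), (52, 4), (51, 4),
    (50, 4), (49, 4), (48, 4), (47, 4), (46, 4), (45, 4), (44, 4), (43, 4), (42, 4), (41, 4), (40, 4), (39, 4), (38,
    4), (37, 4), (36, 4), (35, 4), (34, 4), (33, 4), (32, 4), (31, 4), (30, 4), (29, 4), (28, 4), (27, 4), (26, 4),
    (25, 4), (24, 4), (23, 4), (22, 4), (21, 4), (20, 4), (19, 4), (18, 4), (17, 4), (16, 4), (15, 4), (14, 4), (13,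
    4), (12, 4), (11, 4), (10, 4), (9, 4), (8, 4), (7, 4), (6, 4), (5, 4), (4, 4), (0, 3), (0, 5), (0, 5), (0, 5), (0,
    5), (0, 5), (0, 5), (0, 5), (0, 5), (0, 5), (0, 5), (0, 5), (0, 5), (0, 5), (0, 5), (0, 5), (0, 5), (0, 5), (0,
    5), (0, 5), (0, 5)]

/-- Steps. -/
def st5_13 : List (ℕ × ℕ) :=
  [(6, 2), (5, 2), (4, 2), (3, 2), (7, 2), (6, 2), (5, 2), (4, 2), (0, 0), (3, 2), (2, 2), (1, 2), (0, 2), (8, 2), (7,
    2), (6, 2), (5, 2), (4, 2), (3, 2), (2, 2), (1, 2), (9, 2), (8, 2), (7, 2), (6, 2), (5, 2), (4, 2), (3, 2), (2,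
    2), (10, 2), (9, 2), (8, 2), (7, 2), (6, 2), (5, 2), (4, 2), (3, 2), (15, 2), (14, 2), (13, 2), (12, 2), (11, 2),
    (10, 2), (9, 2), (8, 2), (7, 2), (6, 2), (5, 2), (4, 2), (0, 0), (11, 2), (10, 2), (9, 2), (8, 2), (7, 2), (6, 2),
    (5, 2), (4, 2), (3, 2), (2, 2), (1, 2), (0, 2), (12, 2), (11, 2), (10, 2), (9, 2), (8, 2), (7, 2), (6, 2), (5, 2),
    (4, 2), (3, 2), (2, 2), (1, 2), (17, 2), (16, 2), (15, 2), (14, 2), (13, 2), (12, 2), (11, 2), (10, 2), (9, 2),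
    (8, 2), (7, 2), (6, 2), (5, 2), (4, 2), (3, 2), (2, 2), (18, 2), (17, 2), (16, 2), (15, 2), (14, 2), (13, 2), (12,
    2), (11, 2), (10, 2), (9, 2), (8, 2), (7, 2), (6, 2), (5, 2), (4, 2), (3, 2), (19, 2), (18, 2), (17, 2), (16, 2),
    (15, 2), (14, 2), (13, 2), (12, 2), (11, 2), (10, 2), (9, 2), (8, 2), (7, 2), (6, 2)]

/-- Steps. -/
def st5_14 : List (ℕ × ℕ) :=
  [(5, 2), (4, 2), (0, 0), (0, 5), (0, 5), (0, 5), (0, 5)]

/-- Steps. -/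
def st5_15 : List (ℕ × ℕ) :=
  []

/-- Steps. -/
def st5_16 : List (ℕ × ℕ) :=
  []

/-- Steps. -/
def st5_17 : List (ℕ × ℕ) :=
  [(0, 0)]

/-- Steps. -/
def st5_18 : List (ℕ × ℕ) :=
  [(6, 2), (5, 2), (4, 2), (0, 0), (2, 2), (1, 2), (0, 2), (3, 2), (2, 2), (1, 2), (4, 2), (3, 2), (2, 2), (8, 2), (7,
    2), (6, 2), (5, 2), (4, 2), (3, 2), (9, 2), (8, 2), (7, 2), (6, 2), (5, 2), (4, 2), (0, 0), (5, 2), (4, 2), (3,
    2), (2, 2), (1, 2), (0, 2), (6, 2), (5, 2), (4, 2), (3, 2), (2, 2), (1, 2), (10, 2), (9, 2), (8, 2), (7, 2), (6,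
    2), (5, 2), (4, 2), (3, 2), (2, 2), (11, 2), (10, 2), (9, 2), (8, 2), (7, 2), (6, 2), (5, 2), (4, 2), (3, 2), (12,
    2), (11, 2), (10, 2), (9, 2), (8, 2), (7, 2), (6, 2), (5, 2), (4, 2), (0, 0), (8, 2), (7, 2), (6, 2), (5, 2), (4,
    2), (3, 2), (2, 2), (1, 2), (0, 2), (12, 2), (11, 2), (10, 2), (9, 2), (8, 2), (7, 2), (6, 2), (5, 2), (4, 2), (3,
    2), (2, 2), (1, 2), (13, 2), (12, 2), (11, 2), (10, 2), (9, 2), (8, 2), (7, 2), (6, 2), (5, 2), (4, 2), (3, 2),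
    (2, 2), (14, 2), (13, 2), (12, 2), (11, 2), (10, 2), (9, 2), (8, 2), (7, 2), (6, 2), (5, 2), (4, 2), (3, 2), (15,
    2), (14, 2), (13, 2), (12, 2), (11, 2), (10, 2), (9, 2), (8, 2), (7, 2)]

/-- Steps. -/
def st5_19 : List (ℕ × ℕ) :=
  [(6, 2), (5, 2), (4, 2), (0, 0), (0, 5), (0, 5), (0, 5)]

/-- Steps. -/
def st5_20 : List (ℕ × ℕ) :=
  []

/-- Steps. -/
def st5_21 : List (ℕ × ℕ) :=
  []

/-- Steps. -/
def st5_22 : List (ℕ × ℕ) :=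
  [(0, 1)]

/-- Steps. -/
def st5_23 : List (ℕ × ℕ) :=
  [(6, 2), (5, 2), (4, 1), (0, 0), (3, 2), (2, 2), (1, 2), (0, 1), (5, 2), (4, 2), (3, 2), (2, 2), (1, 1), (7, 2), (6,
    2), (5, 2), (4, 2), (3, 2), (2, 1), (4, 5)]

/-- Steps. -/
def st5_24 : List (ℕ × ℕ) :=
  []

/-- Steps. -/
def st5_25 : List (ℕ × ℕ) :=
  [(6, 2), (5, 2), (4, 2), (0, 0), (2, 2), (1, 2), (0, 2), (3, 2), (2, 2), (1, 2), (4, 2), (3, 2), (2, 2), (5, 4), (4,
    4), (3, 4), (4, 5)]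

/-- Steps. -/
def st5_26 : List (ℕ × ℕ) :=
  [(0, 4)]

/-- Steps. -/
def st5_27 : List (ℕ × ℕ) :=
  [(3, 2), (2, 2), (1, 2), (0, 2), (4, 2), (3, 2), (2, 2), (1, 2), (5, 2), (4, 2), (3, 2), (2, 2), (6, 2), (5, 2), (4,
    2), (3, 2), (7, 4), (6, 4), (5, 4), (4, 4), (5, 5)]

/-- Steps. -/
def st5_28 : List (ℕ × ℕ) :=
  []

/-- Steps. -/
def st5_29 : List (ℕ × ℕ) :=
  [(5, 5)]

/-- Steps. -/
def st5_30 : List (ℕ × ℕ) :=
  [(0, 1)]

/-- Steps. -/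
def st5_31 : List (ℕ × ℕ) :=
  [(6, 2), (5, 2), (4, 1), (3, 1), (5, 4), (9, 4), (8, 4), (7, 4), (6, 4), (7, 5)]

/-- Steps. -/
def st5_32 : List (ℕ × ℕ) :=
  []

/-- Steps. -/
def st5_33 : List (ℕ × ℕ) :=
  [(2, 2), (1, 1), (4, 2), (3, 2), (2, 1), (6, 2), (5, 2), (4, 2), (3, 1), (8, 4), (7, 4), (6, 4), (5, 4), (9, 4), (8,
    4), (7, 4), (6, 4), (7, 5), (7, 5)]

/-- Steps. -/
def st5_34 : List (ℕ × ℕ) :=
  [(0, 4)]

/-- Steps. -/
def st5_35 : List (ℕ × ℕ) :=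
  [(3, 2), (2, 2), (1, 2), (0, 2), (4, 2), (3, 2), (2, 2), (1, 2), (5, 2), (4, 2), (3, 2), (2, 2), (6, 4), (5, 4), (4,
    4), (3, 4), (7, 4), (6, 4), (5, 4), (4, 4), (5, 5)]

/-- Steps. -/
def st5_36 : List (ℕ × ℕ) :=
  []

/-- Steps. -/
def st5_37 : List (ℕ × ℕ) :=
  [(5, 5)]

/-- The certificate. -/
def cert5 : WordCert.Cert where
  m := 3
  p := 5
  n := 5
  rels := [([0, 0, 0, 0, 0], []), ([1, 0], [0, 1, 2]), ([2, 0], [0, 2]), ([1, 1, 1, 1, 1], []), ([2, 1], [1, 2]), ([2, 2, 2, 2,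
    2], [])]
  slots := [(0, [0, 0, 0, 0, 1, 1, 2, 2, 2, 2], [0, 0, 0, 2, 2, 2, 2]), (1, [0], [0, 0, 0, 0, 2, 2, 2]), (1, [1], [0, 0, 0, 0, 1,
    2, 2]), (1, [2], [2, 2, 2, 2]), (2, [0], [0, 1, 2]), (2, [1], [0, 0, 0, 1, 1, 2, 2]), (2, [2], [2, 2, 2, 2])]
  eqs := [([1, 0, 0, 0, 0, 0], st5_0, st5_1)]
  ceqs := [(([0, 0, 0, 0, 0], []), ((st5_2 ++ st5_3 ++ st5_4 ++ st5_5 ++ st5_6 ++ st5_7 ++ st5_8 ++ st5_9 ++ st5_10 ++ st5_11 ++
    st5_12), (st5_13 ++ st5_14)), (st5_15, st5_16)), (([1, 1, 1, 1, 1], []), (st5_17, (st5_18 ++ st5_19)), (st5_20,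
    st5_21)), (([2, 1], [1, 2, 3]), (st5_22, st5_23), (st5_24, st5_25)), (([3, 2], [2, 3]), (st5_26, st5_27), (st5_28,
    st5_29)), (([5, 4], [4, 5, 6]), (st5_30, st5_31), (st5_32, st5_33)), (([6, 5], [5, 6]), (st5_34, st5_35), (st5_36,
    st5_37))]
  rows := [0x100000, 0x403004, 0x300003, 0x4000020230, 0x30100, 0x4000000420130, 0x20200]
  D := [0x0, 0x0, 0x10]
  combs := [[(0, 4), (2, 2)], [], [(4, 2), (6, 2)], [(1, 2), (2, 4)], [(4, 3), (6, 1)], [(0, 1)]]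

/-- The generators. -/
def gi5 : List ℕ := [25, 26, 27]

/-- The conjugators. -/
def ci5 : List ℕ := [28, 29, 30]

/-- Base points. -/
def base5 : List ℕ := [3]

/-- Positions. -/
def pos5_0 : List ℕ :=
  [0, 80, 29, 13, 46, 86, 44, 9, 82, 101, 76, 17, 104, 41, 90, 77, 121, 105, 15, 57, 118, 95, 66, 27, 47, 2, 116, 89,
    43, 59, 113, 83, 87, 48, 10, 34, 67, 3, 8, 23, 108, 120, 42, 53, 75, 21, 109, 51, 65, 115, 97, 12, 64, 85, 18, 16,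
    36, 7, 94, 50, 55, 98, 124, 45, 73, 31, 110, 58, 69, 1, 103, 96, 61, 68, 114, 14, 38, 91, 70, 102, 5, 26, 28, 37,
    81, 107, 20, 49, 84, 93, 19, 78, 33, 88, 111, 123, 32, 52, 63, 99, 24, 35, 11, 62, 6, 100, 119, 56, 72, 22, 71,
    40, 92, 117, 30, 39, 79, 4, 122, 60, 112, 54, 74, 25, 106]

/-- Positions. -/
def pos5 : List ℕ := pos5_0

/-- Sorted images. -/
def tabS5 : ℕ := 0x2268921a8621384a118360b8260781a037f1fb7ddf67d1f17bdee7b1ea7a1e6791e2779d7751d2745cf72dc26f9a6691a367d996519062d8a611815fd7e5f1745b56057d565494f535424d5334c12b4a9244811d414ee384dc35cd3330c4308c12d8b22c0a92a0a6294a2284a027c9c25c9625491230871e8751b8631845f1705b1685715853138480f03a0dc320c42b06c18054120440f01c0601003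

/-- Inverse positions. -/
def tabI5 : ℕ := 0x3e05f07601002906a01407101a03104a01e07805e04202e02805507c01100c04604f00906906303d03204701503a05907004d00e01b05d02000503505801f00805400107405b00f00a02c07a04006c06e04e04404902401603003406206704807701d04301306b03c07902b06102f03b05702101800403f00601c02a00d06f07304c05303806502305c06004107200205201705107b06402706d02d05605a03600b03701204b003033066022007026039068050075025019045000

end

end Cfsg.Agent.Co3Mult
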