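import Cfsg.Agent.Lib.Co3Mult.Data
import Cfsg.Agent.Lib.Co3Mult.Cert2

/-! Kernel checks of the certificate at 2. -/

set_option autoImplicit false
set_option maxRecDepth 20000
set_option maxHeartbeats 2000000

namespace Cfsg.Agent.Co3Mult

theorem shape2 : cert2.shapeOk = true := by decide +kernel

theorem lin2 : cert2.linOk = true := by decide +kernel

theorem range2 : (gi2 ++ ci2).all (fun i => Nat.blt i (theEls.map Elt.P).length) = true := by decide +kernel

theorem group2 : groupOk cert2 (gi2.map fun i => (theEls.map Elt.P).getD i 0)
    (ci2.map fun i => (theEls.map Elt.P).getD i 0) theSel = true := by decide +kernel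

theorem distinct2 : distinctOk cert2 (gi2.map fun i => (theEls.map Elt.P).getD i 0) base2
    20 tabS2 tabI2 pos2 = true := by decide +kernel

theorem consts2 : cert2.n = 2 ∧ Nat.Coprime cert2.n (495766656000 / cert2.p ^ cert2.m) := by
  decide +kernel

end Cfsg.Agent.Co3Mult
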