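import Cfsg.Agent.Lib.Co3Mult.Data
import Cfsg.Agent.Lib.Co3Mult.Cert3

/-! Kernel checks of the certificate at 3. -/

set_option autoImplicit false
set_option maxRecDepth 20000
set_option maxHeartbeats 2000000

namespace Cfsg.Agent.Co3Mult

theorem shape3 : cert3.shapeOk = true := by decide +kernel

theorem lin3 : cert3.linOk = true := by decide +kernel

theorem range3 : (gi3 ++ ci3).all (fun i => Nat.blt i (theEls.map Elt.P).length) = true := by decide +kernel

theorem group3 : groupOk cert3 (gi3.map fun i => (theEls.map Elt.P).getD i 0)
    (ci3.map fun i => (theEls.map Elt.P).getD i 0) theSel = true := by decide +kernel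

theorem distinct3 : distinctOk cert3 (gi3.map fun i => (theEls.map Elt.P).getD i 0) base3
    20 tabS3 tabI3 pos3 = true := by decide +kernel

theorem consts3 : cert3.n = 3 ∧ Nat.Coprime cert3.n (495766656000 / cert3.p ^ cert3.m) := by
  decide +kernel

end Cfsg.Agent.Co3Mult
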