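import Cfsg.Agent.Lib.Co3Mult.Data
import Cfsg.Agent.Lib.Co3Mult.Cert5

/-! Kernel checks of the certificate at 5. -/

set_option autoImplicit false
set_option maxRecDepth 20000
set_option maxHeartbeats 2000000

namespace Cfsg.Agent.Co3Mult

theorem shape5 : cert5.shapeOk = true := by decide +kernel

theorem lin5 : cert5.linOk = true := by decide +kernel

theorem range5 : (gi5 ++ ci5).all (fun i => Nat.blt i (theEls.map Elt.P).length) = true := by decide +kernel

theorem group5 : groupOk cert5 (gi5.map fun i => (theEls.map Elt.P).getD i 0)
    (ci5.map fun i => (theEls.map Elt.P).getD i 0) theSel = true := by decide +kernel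

theorem distinct5 : distinctOk cert5 (gi5.map fun i => (theEls.map Elt.P).getD i 0) base5
    10 tabS5 tabI5 pos5 = true := by decide +kernel

theorem consts5 : cert5.n = 5 ∧ Nat.Coprime cert5.n (495766656000 / cert5.p ^ cert5.m) := by
  decide +kernel

end Cfsg.Agent.Co3Mult
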