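import Cfsg.Agent.Lib.Co3Mult.Data

/-! Kernel checks of the elements. -/

set_option autoImplicit false
set_option maxRecDepth 20000
set_option maxHeartbeats 2000000

namespace Cfsg.Agent.Co3Mult

theorem el0_ok : eltOk thePx thePts el0 = true := by decide +kernel

theorem el1_ok : eltOk thePx thePts el1 = true := by decide +kernel

theorem el2_ok : eltOk thePx thePts el2 = true := by decide +kernel

theorem el3_ok : eltOk thePx thePts el3 = true := by decide +kernel

theorem el4_ok : eltOk thePx thePts el4 = true := by decide +kernel

theorem el5_ok : eltOk thePx thePts el5 = true := by decide +kernel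

theorem el6_ok : eltOk thePx thePts el6 = true := by decide +kernel

theorem el7_ok : eltOk thePx thePts el7 = true := by decide +kernel

end Cfsg.Agent.Co3Mult
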