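import Cfsg.Agent.Lib.Co3Mult.Data

/-! Kernel checks of the elements. -/

set_option autoImplicit false
set_option maxRecDepth 20000
set_option maxHeartbeats 2000000

namespace Cfsg.Agent.Co3Mult

theorem el8_ok : eltOk thePx thePts el8 = true := by decide +kernel

theorem el9_ok : eltOk thePx thePts el9 = true := by decide +kernel

theorem el10_ok : eltOk thePx thePts el10 = true := by decide +kernel

theorem el11_ok : eltOk thePx thePts el11 = true := by decide +kernel

theorem el12_ok : eltOk thePx thePts el12 = true := by decide +kernel

theorem el13_ok : eltOk thePx thePts el13 = true := by decide +kernel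

theorem el14_ok : eltOk thePx thePts el14 = true := by decide +kernel

theorem el15_ok : eltOk thePx thePts el15 = true := by decide +kernel

end Cfsg.Agent.Co3Mult
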