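import Cfsg.Agent.Lib.Co3Mult.Data

/-! Kernel checks of the elements. -/

set_option autoImplicit false
set_option maxRecDepth 20000
set_option maxHeartbeats 2000000

namespace Cfsg.Agent.Co3Mult

theorem el16_ok : eltOk thePx thePts el16 = true := by decide +kernel

theorem el17_ok : eltOk thePx thePts el17 = true := by decide +kernel

theorem el18_ok : eltOk thePx thePts el18 = true := by decide +kernel

theorem el19_ok : eltOk thePx thePts el19 = true := by decide +kernel

theorem el20_ok : eltOk thePx thePts el20 = true := by decide +kernel

theorem el21_ok : eltOk thePx thePts el21 = true := by decide +kernel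

theorem el22_ok : eltOk thePx thePts el22 = true := by decide +kernel

theorem el23_ok : eltOk thePx thePts el23 = true := by decide +kernel

end Cfsg.Agent.Co3Mult
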