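import Cfsg.Agent.Lib.Co3Mult.Data

/-! Kernel checks of the elements. -/

set_option autoImplicit false
set_option maxRecDepth 20000
set_option maxHeartbeats 2000000

namespace Cfsg.Agent.Co3Mult

theorem el24_ok : eltOk thePx thePts el24 = true := by decide +kernel

theorem el25_ok : eltOk thePx thePts el25 = true := by decide +kernel

theorem el26_ok : eltOk thePx thePts el26 = true := by decide +kernel

theorem el27_ok : eltOk thePx thePts el27 = true := by decide +kernel

theorem el28_ok : eltOk thePx thePts el28 = true := by decide +kernel

theorem el29_ok : eltOk thePx thePts el29 = true := by decide +kernel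

theorem el30_ok : eltOk thePx thePts el30 = true := by decide +kernel

end Cfsg.Agent.Co3Mult
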