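import Cfsg.Agent.Lib.Co3Mult.Data

/-! Kernel checks of the tables of points. -/

set_option autoImplicit false
set_option maxRecDepth 20000
set_option maxHeartbeats 2000000

namespace Cfsg.Agent.Co3Mult

open Cfsg.Agent.LeechCount

theorem pts_table : (List.range 552).map thePts = list552 := by decide +kernel

theorem pts_packed : ((List.range 552).all fun k => pk (thePts k) == thePx k && bnd 8 (thePts k)) = true := by
  decide +kernel

theorem pts_gens : theCombos.map (comb thePts) = genList := by decide +kernel

theorem ptsOk : PtsOk thePts thePx theCombos := ⟨pts_table, pts_packed, pts_gens⟩

theorem span_ok : spanOk thePts theD theSel theSc = true := by decide +kernel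

end Cfsg.Agent.Co3Mult
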