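import Cfsg.Agent.Lib.Co3Mult.Lin
import Cfsg.Agent.Lib.WordCert.Bound
import Cfsg.Agent.Lib.Golay.SylowCert

/-!
The bound on stem extensions of the vector stabiliser from a word certificate and permutations of the points.
-/

set_option autoImplicit false
set_option linter.style.haveILetI false

namespace Cfsg.Agent.Co3Mult

open Cfsg Cfsg.Agent.Leech Cfsg.Agent.LeechCount Cfsg.Agent.Golay24

noncomputable section

attribute [local irreducible] normFS dotFS

/-- The image of a point under a word. -/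
def run (gs : List ℕ) : List ℕ → ℕ → ℕ
  | [], x => x
  | i :: w, x => app (gs.getD i 0) (run gs w x)

/-- Combinations of points giving multiples of the unit vectors. -/
def spanOk (pts : ℕ → List ℤ) (D : ℤ) (sel : List ℕ) (sc : List (List ℤ)) : Bool :=
  decide (0 < D) && sel.all (fun x => Nat.blt x 552) && sc.length == 24 &&
    (List.range 24).all fun i => (sc.getD i []).length == sel.length &&
      comb pts (sel.zip (sc.getD i [])) == (List.range 24).map fun j => if j = i then D else 0

/-- The identities on the points of a spanning set. -/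
def groupOk (C : WordCert.Cert) (gs cs sel : List ℕ) : Bool :=
  gs.length == C.m && C.rels.all (fun r => (r.1 ++ r.2).all (fun k => Nat.blt k C.m) &&
      sel.all fun x => Nat.beq (run gs r.1 x) (run gs r.2 x)) &&
    C.slots.all fun s => Nat.blt s.1 cs.length && (s.2.1 ++ s.2.2).all (fun k => Nat.blt k C.m) &&
      sel.all fun x => Nat.beq (app (cs.getD s.1 0) (run gs s.2.1 x)) (run gs s.2.2 (app (cs.getD s.1 0) x))

/-- The images of the base points. -/
def sig (gs base : List ℕ) (w : List ℕ) : ℕ := (base.map (run gs w)).foldr (fun a b => a + 1024 * b) 0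

/-- Positions in a sorted table. -/
def posGo (gs base : List ℕ) (width S INV N : ℕ) : ℕ → List (List ℕ) → List ℕ → Bool
  | _, [], _ => true
  | _, _ :: _, [] => false
  | i, w :: ws, q :: qs =>
    Nat.blt q N && getSlot width S q == sig gs base w && getSlot 12 INV q == i &&
      posGo gs base width S INV N (i + 1) ws qs

/-- All normal forms differ on the base points. -/
def distinctOk (C : WordCert.Cert) (gs base : List ℕ) (width S INV : ℕ) (pos : List ℕ) : Bool :=
  base.all (fun x => Nat.blt x 552) &&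
    sortedB ((List.range (C.p ^ C.m)).map (getSlot width S)) &&
    posGo gs base width S INV (C.p ^ C.m) 0 (C.nfs C.m) pos

theorem posGo_spec {gs base : List ℕ} {width S INV N : ℕ}
    (hS : ∀ a < N, ∀ b < N, getSlot width S a = getSlot width S b → a = b) :
    ∀ (ws : List (List ℕ)) (qs : List ℕ) (i : ℕ), posGo gs base width S INV N i ws qs = true →
      (ws.map (sig gs base)).Nodup ∧ ∀ v ∈ ws, ∃ q < N, getSlot width S q = sig gs base v ∧ i ≤ getSlot 12 INV q
  | [], _, _, _ => ⟨List.nodup_nil, fun v hv => by simp at hv⟩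
  | _ :: _, [], _, h => by simp [posGo] at h
  | w :: ws, q :: qs, i, h => by
    simp only [posGo, Bool.and_eq_true, Nat.blt_eq, beq_iff_eq] at h
    obtain ⟨⟨⟨hq, hs⟩, hi⟩, hr⟩ := h
    obtain ⟨hn, hall⟩ := posGo_spec hS ws qs (i + 1) hr
    refine ⟨?_, fun v hv => ?_⟩
    · rw [List.map_cons, List.nodup_cons]
      refine ⟨fun hm => ?_, hn⟩
      obtain ⟨v, hv, e⟩ := List.mem_map.1 hm
      obtain ⟨q', hq', hs', hi'⟩ := hall v hv
      rw [hS q' hq' q hq (by rw [hs', hs, e]), hi] at hi'
      omega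
    · rcases List.mem_cons.1 hv with rfl | hv
      · exact ⟨q, hq, hs, hi.ge⟩
      · obtain ⟨q', hq', hs', hi'⟩ := hall v hv
        exact ⟨q', hq', hs', by omega⟩

theorem sorted_inj {f : ℕ → ℕ} {N : ℕ} (h : sortedB ((List.range N).map f) = true) :
    ∀ a < N, ∀ b < N, f a = f b → a = b := by
  intro a ha b hb e
  have hp : ((List.range N).map f).Nodup := (sortedB_pairwise h).imp fun hlt => ne_of_lt hlt
  exact List.inj_on_of_nodup_map hp (List.mem_range.2 ha) (List.mem_range.2 hb) e

variable {pts : ℕ → List ℤ} {px : ℕ → ℤ} {combos : List (List (ℕ × ℤ))}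

/-- A packed permutation describes the element. -/
def Rep (pts : ℕ → List ℤ) (F : ℕ → ℕ) (g : G3) : Prop :=
  ∀ k < 552, F k < 552 ∧ ap (g : ↥Co0) (vecOf (pts k)) = vecOf (pts (F k))

theorem rep_run (h : PtsOk pts px combos) {gs : List ℕ} {g : ℕ → G3}
    (hg : ∀ i < gs.length, Rep pts (app (gs.getD i 0)) (g i)) :
    ∀ w : List ℕ, (∀ i ∈ w, i < gs.length) → Rep pts (run gs w) ((w.map g).prod)
  | [], _ => fun k hk => ⟨hk, by simp [ap_one, run]⟩
  | i :: w, hw => fun k hk => by
    obtain ⟨h1, h2⟩ := rep_run h hg w (fun j hj => hw j (List.mem_cons_of_mem _ hj)) k hk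
    obtain ⟨h3, h4⟩ := hg i (hw i List.mem_cons_self) _ h1
    refine ⟨h3, ?_⟩
    rw [List.map_cons, List.prod_cons, Subgroup.coe_mul, ap_mul _ _ (list552_mem _ (h.mem hk)).1, h2, h4]
    rfl

theorem rep_mul (h : PtsOk pts px combos) {F F' : ℕ → ℕ} {a b : G3} (ha : Rep pts F a) (hb : Rep pts F' b) :
    Rep pts (fun x => F (F' x)) (a * b) := fun k hk => by
  obtain ⟨h1, h2⟩ := hb k hk
  obtain ⟨h3, h4⟩ := ha _ h1
  exact ⟨h3, by rw [Subgroup.coe_mul, ap_mul _ _ (list552_mem _ (h.mem hk)).1, h2, h4]⟩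

theorem faithful (h : PtsOk pts px combos) {D : ℤ} {sel : List ℕ} {sc : List (List ℤ)}
    (hs : spanOk pts D sel sc = true) {a b : G3}
    (hab : ∀ x ∈ sel, ap (a : ↥Co0) (vecOf (pts x)) = ap (b : ↥Co0) (vecOf (pts x))) : a = b := by
  simp only [spanOk, Bool.and_eq_true, decide_eq_true_eq, List.all_eq_true, Nat.blt_eq, List.mem_range,
    beq_iff_eq] at hs
  obtain ⟨⟨⟨hD, hsel⟩, -⟩, hsc⟩ := hs
  let K : AddSubgroup Vec :=
    { carrier := {x | x ∈ leechLattice ∧ ap (a : ↥Co0) x = ap (b : ↥Co0) x}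
      zero_mem' := ⟨zero_mem _, by rw [ap_zero, ap_zero]⟩
      add_mem' := fun {x y} hx hy => ⟨add_mem hx.1 hy.1, by
        rw [ap_add _ hx.1 hy.1, ap_add _ hx.1 hy.1, hx.2, hy.2]⟩
      neg_mem' := fun {x} hx => ⟨neg_mem hx.1, by rw [ap_neg _ hx.1, ap_neg _ hx.1, hx.2]⟩ }
  have hmem : ∀ (l : List ℕ) (c : List ℤ), (∀ x ∈ l, x ∈ sel) →
      (comb pts (l.zip c)).length = 24 ∧ vecOf (comb pts (l.zip c)) ∈ K := by
    intro l
    induction l with
    | nil =>
      intro c _
      refine ⟨by simp [comb], ?_⟩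
      rw [List.zip_nil_left, comb, show vecOf (List.replicate 24 (0 : ℤ)) = 0 by funext i; revert i; decide +kernel]
      exact zero_mem K
    | cons x l ih =>
      intro c hl
      cases c with
      | nil =>
        refine ⟨by simp [comb], ?_⟩
        rw [List.zip_nil_right, comb, show vecOf (List.replicate 24 (0 : ℤ)) = 0 by funext i; revert i; decide +kernel]
        exact zero_mem K
      | cons z c =>
        have hx := hl x List.mem_cons_self
        obtain ⟨hlen', hm⟩ := ih c fun y hy => hl y (List.mem_cons_of_mem _ hy)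
        have hb : Nat.blt x 552 = true := by simpa [Nat.blt_eq] using hsel x hx
        have hp := list552_mem _ (h.mem (hsel x hx))
        rw [List.zip_cons_cons, comb, hb, cond_true]
        refine ⟨by simp [hp.2.1, hlen'], ?_⟩
        rw [vecOf_zipWith z hp.2.1 hlen']
        exact add_mem (zsmul_mem (show vecOf (pts x) ∈ K from ⟨hp.1, hab x hx⟩) _) hm
  have he8 : ∀ i, ap (a : ↥Co0) (e8 i) = ap (b : ↥Co0) (e8 i) := by
    intro i
    obtain ⟨hlen, hc⟩ := hsc _ (Golay24.idx i).isLt
    have h1 := (hmem sel (sc.getD (Golay24.idx i).val []) fun _ hy => hy).2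
    rw [hc, vecOf_range] at h1
    have h8 : (8 : ℤ) • (fun j => if (Golay24.idx j).val = (Golay24.idx i).val then D else 0 : Vec) = D • e8 i := by
      funext j
      simp only [Pi.smul_apply, smul_eq_mul, e8]
      by_cases hj : j = i
      · simp [hj, mul_comm]
      · rw [if_neg hj, if_neg fun e => hj (Golay24.ptEquiv.injective (Fin.ext e : Golay24.idx j = Golay24.idx i))]
        simp
    have h2 : D • e8 i ∈ K := h8 ▸ zsmul_mem h1 8
    have ea : ∀ g : ↥Co0, ap g (D • e8 i) = D • ap g (e8 i) := fun g => by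
      have := map_zsmul (coHom g) D (⟨e8 i, e8_mem i⟩ : ↥leechLattice)
      have := congrArg Subtype.val this
      simp only [coHom_apply] at this
      rw [← ap_coe, AddSubgroupClass.coe_zsmul, AddSubgroupClass.coe_zsmul, ← ap_coe] at this
      exact this
    have := h2.2
    rw [ea, ea] at this
    funext j
    exact mul_left_cancel₀ hD.ne' (congrFun this j)
  apply Subtype.ext
  have key : ∀ v : ↥leechLattice, coHom (a : ↥Co0) v = coHom (b : ↥Co0) v := by
    intro v
    have h8 : (8 : ℤ) • v = ∑ i, (v : Vec) i • (⟨e8 i, e8_mem i⟩ : ↥leechLattice) := by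
      apply Subtype.ext
      push_cast
      funext j
      simp only [Pi.smul_apply, Finset.sum_apply, e8, smul_eq_mul, mul_ite, mul_zero, Finset.sum_ite_eq,
        Finset.mem_univ, if_true]
      ring
    have hh : ∀ i, coHom (a : ↥Co0) ⟨e8 i, e8_mem i⟩ = coHom (b : ↥Co0) ⟨e8 i, e8_mem i⟩ := fun i =>
      Subtype.ext ((ap_coe _ ⟨e8 i, e8_mem i⟩).symm.trans ((he8 i).trans (ap_coe _ ⟨e8 i, e8_mem i⟩)))
    have h1 := congrArg (coHom (a : ↥Co0)) h8
    have h2 := congrArg (coHom (b : ↥Co0)) h8
    simp only [map_sum, map_zsmul, hh] at h1 h2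
    have h3 := congrArg Subtype.val (h1.trans h2.symm)
    push_cast at h3
    apply Subtype.ext
    exact eight_inj h3
  exact Subtype.ext (Equiv.ext fun v => key v)

theorem card_G3 : Nat.card G3 = 495766656000 := card_stab48 uV (by exact vecV_norm)

theorem finite_G3 : Finite G3 := Nat.finite_of_card_ne_zero (by rw [card_G3]; norm_num)

/-- The vanishing of the kernel from a certificate. -/
theorem cert_bound (h : PtsOk pts px combos) (C : WordCert.Cert) (els gi ci : List ℕ) (D : ℤ) (sel base pos : List ℕ)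
    (sc : List (List ℤ)) (width S INV : ℕ)
    (hel : ∀ P ∈ els, ∃ g : G3, Rep pts (app P) g) (hin : (gi ++ ci).all (fun i => Nat.blt i els.length) = true)
    (hsp : spanOk pts D sel sc = true) (hshape : C.shapeOk = true) (hlin : C.linOk = true)
    (hgr : groupOk C (gi.map fun i => els.getD i 0) (ci.map fun i => els.getD i 0) sel = true)
    (hd : distinctOk C (gi.map fun i => els.getD i 0) base width S INV pos = true)
    (hco : Nat.Coprime C.n (495766656000 / C.p ^ C.m))
    {Γ : Type} [Group Γ] [Finite Γ] (π : Γ →* G3) (hπ : Function.Surjective π)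
    (hc : π.ker ≤ Subgroup.center Γ) (hdd : π.ker ≤ commutator Γ) (hexp : ∀ z ∈ π.ker, z ^ C.n = 1) :
    π.ker = ⊥ := by
  classical
  set gs := gi.map fun i => els.getD i 0 with hgs
  set cs := ci.map fun i => els.getD i 0 with hcs
  simp only [List.all_eq_true, Nat.blt_eq] at hin
  have hex : ∀ P ∈ gs ++ cs, ∃ g : G3, Rep pts (app P) g := fun P hP => by
    rw [hgs, hcs, ← List.map_append] at hP
    obtain ⟨i, hi, rfl⟩ := List.mem_map.1 hP
    exact hel _ (by rw [List.getD_eq_getElem _ _ (hin i hi)]; exact List.getElem_mem _)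
  have hch : ∀ l : List ℕ, (∀ P ∈ l, P ∈ gs ++ cs) → ∀ i, ∃ g : G3, i < l.length → Rep pts (app (l.getD i 0)) g := by
    intro l hl i
    by_cases hi : i < l.length
    · obtain ⟨g, hg⟩ := hex (l.getD i 0) (hl _ (by
        rw [List.getD_eq_getElem _ _ hi]; exact List.getElem_mem _))
      exact ⟨g, fun _ => hg⟩
    · exact ⟨1, fun e => absurd e hi⟩
  choose g hg using hch gs fun P hP => List.mem_append_left _ hP
  choose γ hγ using hch cs fun P hP => List.mem_append_right _ hP
  simp only [groupOk, Bool.and_eq_true, beq_iff_eq, List.all_eq_true, Nat.blt_eq] at hgr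
  obtain ⟨⟨hlen, hrel⟩, hslot⟩ := hgr
  simp only [spanOk, Bool.and_eq_true, decide_eq_true_eq, List.all_eq_true, Nat.blt_eq] at hsp ⊢
  have hsel : ∀ x ∈ sel, x < 552 := hsp.1.1.2
  have hsp' : spanOk pts D sel sc = true := by
    simp only [spanOk, Bool.and_eq_true, decide_eq_true_eq, List.all_eq_true, Nat.blt_eq]; exact hsp
  have hrun : ∀ w : List ℕ, (∀ i ∈ w, i < C.m) → Rep pts (run gs w) ((w.map g).prod) :=
    fun w hw => rep_run h hg w fun i hi => by rw [hlen]; exact hw i hi
  have heq : ∀ {F F' : ℕ → ℕ} {a b : G3}, Rep pts F a → Rep pts F' b → (∀ x ∈ sel, F x = F' x) → a = b :=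
    fun ha hb e => faithful h hsp' fun x hx => by rw [(ha x (hsel x hx)).2, (hb x (hsel x hx)).2, e x hx]
  haveI := finite_G3
  refine WordCert.ker_eq_bot_of_cert C hshape hlin g γ ?_ ?_ ?_ ?_ π hπ hc hdd hexp
  · intro r hr
    have hm : C.rel r ∈ C.rels := by
      rw [WordCert.Cert.rel, List.getD_eq_getElem _ _ hr]; exact List.getElem_mem _
    exact heq (hrun _ fun i hi => (hrel _ hm).1 i (List.mem_append_left _ hi))
      (hrun _ fun i hi => (hrel _ hm).1 i (List.mem_append_right _ hi))
      fun x hx => Nat.eq_of_beq_eq_true ((hrel _ hm).2 x hx)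
  · intro s hs
    obtain ⟨⟨h1, h2⟩, h3⟩ := hslot (C.slot s) (by
      rw [WordCert.Cert.slot, List.getD_eq_getElem _ _ hs]; exact List.getElem_mem _)
    exact heq (rep_mul h (hγ _ h1) (hrun _ fun i hi => h2 i (List.mem_append_left _ hi)))
      (rep_mul h (hrun _ fun i hi => h2 i (List.mem_append_right _ hi)) (hγ _ h1))
      fun x hx => Nat.eq_of_beq_eq_true (h3 x hx)
  · simp only [distinctOk, Bool.and_eq_true, List.all_eq_true, Nat.blt_eq] at hd
    obtain ⟨⟨hb, hs⟩, hp⟩ := hd
    have hn := (posGo_spec (sorted_inj hs) _ _ _ hp).1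
    refine (List.Nodup.of_map _ hn).map_on fun w hw v hv e => List.inj_on_of_nodup_map hn hw hv ?_
    simp only [sig]
    congr 1
    refine List.map_congr_left fun x hx => ?_
    obtain ⟨l1, e1⟩ := hrun w (C.nfs_lt C.m le_rfl w hw) x (hb x hx)
    obtain ⟨l2, e2⟩ := hrun v (C.nfs_lt C.m le_rfl v hv) x (hb x hx)
    rw [e] at e1
    exact h.inj l1 l2 (e1.symm.trans e2)
  · intro H hH
    have h' := Subgroup.card_mul_index H
    rw [hH, card_G3] at h'
    rw [← h', Nat.mul_div_cancel_left _ (hH ▸ Nat.card_pos)] at hco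
    exact hco

end

end Cfsg.Agent.Co3Mult
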