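import Cfsg.Agent.Lib.LeechCount.List552

/-!
Thirty-seven vectors generating the lattice.
-/

set_option autoImplicit false

namespace Cfsg.Agent.Co3Mult

open Cfsg Cfsg.Agent.Leech Cfsg.Agent.LeechCount

noncomputable section

/-- Twice the basis words, the vectors four at the last place and one more, eight at the last place, and the vector. -/
def genList : List (List ℤ) :=
  (Golay24.basisMasks.map fun b => (List.range 24).map fun j => if b.testBit j then 2 else 0) ++
  ((List.range 23).map fun k => (List.range 24).map fun j => if j = 23 ∨ j = k then 4 else 0) ++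
  [(List.range 24).map fun j => if j = 23 then 8 else 0, uList]

theorem gen_basis : ∀ i : Fin 12, ∀ x : GolayPt,
    ((¬ (4 : ℤ) ∣ vecOf (genList.getD i.val []) x) ↔ Golay24.basisWord i x = 1) := by
  decide +kernel

theorem gen_e44 : ∀ t : ZMod 23, ∀ x : GolayPt,
    vecOf (genList.getD (12 + t.val) []) x = e44 none (some t) x := by
  decide +kernel

theorem gen_e8 : ∀ x : GolayPt, vecOf (genList.getD 35 []) x = e8 none x := by decide +kernel

theorem genList_length : genList.length = 37 := by decide +kernel

theorem gen_latM : ∀ i : Fin 12, LatM 0 (vecOf (genList.getD i.val [])) := by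
  intro i
  have h2 : ∀ j : Fin 12, ∀ x : GolayPt, (2 : ℤ) ∣ vecOf (genList.getD j.val []) x := by decide +kernel
  have h8 : ∀ j : Fin 12, (8 : ℤ) ∣ ∑ x, vecOf (genList.getD j.val []) x := by decide +kernel
  refine ⟨fun x => by simpa using h2 i x, by simpa using h8 i, ?_⟩
  refine ⟨Golay24.basisWord i, Golay24.basisWord_mem i, ?_⟩
  ext x
  rw [mem_pat, sub_zero, gen_basis i x]
  simp [support₂]
  rcases Golay24.zmod2_cases (Golay24.basisWord i x) with h | h <;> simp [h]

/-- The lattice lies in every subgroup containing the generators. -/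
theorem leech_le {H : AddSubgroup Vec} (h : ∀ l ∈ genList, vecOf l ∈ H) : leechLattice ≤ H := by
  classical
  have hget : ∀ k < 37, vecOf (genList.getD k []) ∈ H := fun k hk => h _ (by
    rw [List.getD_eq_getElem _ _ (by rw [genList_length]; exact hk)]; exact List.getElem_mem _)
  have hV : Spor.vecV ∈ H := by rw [← uList_eq]; exact h _ (by simp [genList])
  have hcode : ∀ w ∈ golayCode, ∃ z ∈ H, LatM 0 z ∧ ∀ i, (¬ (4 : ℤ) ∣ z i ↔ w i = 1) := by
    intro w hw
    rw [Golay24.golayCode_eq_span] at hw
    induction hw using Submodule.span_induction with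
    | mem v hv =>
      obtain ⟨i, rfl⟩ := hv
      exact ⟨_, hget i (by omega), gen_latM i, gen_basis i⟩
    | zero => exact ⟨0, zero_mem _, latM_zero, fun i => by simp⟩
    | add u v _ _ hu hv =>
      obtain ⟨z, hz, hl, hp⟩ := hu
      obtain ⟨z', hz', hl', hp'⟩ := hv
      refine ⟨z + z', add_mem hz hz', by simpa using hl.add hl', fun i => ?_⟩
      have a := hl.1 i
      have b := hl'.1 i
      have ha := hp i
      have hb := hp' i
      simp only [Pi.add_apply]
      rcases Golay24.zmod2_cases (u i) with e | e <;> rcases Golay24.zmod2_cases (v i) with e' | e' <;>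
        simp only [e, e', zero_add, add_zero, show (1 : ZMod 2) + 1 = 0 from rfl, zero_ne_one, iff_false, iff_true] at ha hb ⊢ <;>
        omega
    | smul a v _ hv =>
      rcases Golay24.zmod2_cases a with rfl | rfl
      · exact ⟨0, zero_mem _, latM_zero, fun i => by simp⟩
      · simpa using hv
  intro x hx
  obtain ⟨m, hm⟩ := (mem_leech_iff x).1 hx
  have hy : x - m • Spor.vecV ∈ leechLattice := sub_mem hx (zsmul_mem vecV_leech _)
  set y := x - m • Spor.vecV with hy'
  have hev : ∀ i, (2 : ℤ) ∣ y i := fun i => by
    have := hm.1 i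
    simp only [hy', Pi.sub_apply, Pi.smul_apply, smul_eq_mul, Spor.vecV]
    split <;> omega
  have hy0 : LatM 0 y := (exists_witness hy).resolve_right fun e => by
    have := e.1 none; have := hev none; omega
  obtain ⟨w, hw, hwS⟩ := hy0.2.2
  obtain ⟨z, hzH, hzl, hzp⟩ := hcode w hw
  have hr : LatM 0 (y - z) := by simpa [sub_eq_add_neg] using hy0.add hzl.neg
  have h4 : ∀ i, (4 : ℤ) ∣ (y - z) i := fun i => by
    have a := hy0.1 i
    have b := hzl.1 i
    have hwi : ¬ (4 : ℤ) ∣ y i ↔ w i = 1 := by
      have := Finset.ext_iff.1 hwS i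
      rw [mem_pat, sub_zero] at this
      rw [← this]
      simp [support₂]
      rcases Golay24.zmod2_cases (w i) with e | e <;> simp [e]
    have := hwi.trans (hzp i).symm
    simp only [Pi.sub_apply]
    omega
  set r := y - z with hr'
  have h8 : (8 : ℤ) ∣ r none - ∑ t : ZMod 23, r (some t) := by
    have hs := hr.2.1
    rw [Fintype.sum_option] at hs
    have : (4 : ℤ) ∣ ∑ t : ZMod 23, r (some t) := Finset.dvd_sum fun t _ => h4 (some t)
    omega
  have hrH : r ∈ H := by
    have e : r = (∑ t : ZMod 23, (r (some t) / 4) • e44 none (some t)) +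
        ((r none - ∑ t : ZMod 23, r (some t)) / 8) • e8 none := by
      funext i
      simp only [Pi.add_apply, Finset.sum_apply, Pi.smul_apply, smul_eq_mul, e44, e8]
      cases i with
      | none =>
        simp only [true_or, if_true, ← Finset.sum_mul]
        rw [Finset.sum_mul, Finset.sum_congr rfl fun t _ => Int.ediv_mul_cancel (h4 (some t)),
          Int.ediv_mul_cancel h8]
        ring
      | some s =>
        simp only [reduceCtorEq, Option.some.injEq, false_or, if_false, mul_zero, add_zero, mul_ite,
          Finset.sum_ite_eq, Finset.mem_univ, if_true]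
        exact (Int.ediv_mul_cancel (h4 _)).symm
    rw [e]
    refine add_mem (sum_mem fun t _ => zsmul_mem ?_ _) (zsmul_mem ?_ _)
    · rw [← funext (gen_e44 t)]; exact hget _ (by have := ZMod.val_lt t; omega)
    · rw [← funext gen_e8]; exact hget 35 (by omega)
  have : x = m • Spor.vecV + (r + z) := by rw [hr', hy']; abel
  rw [this]
  exact add_mem (zsmul_mem hV _) (add_mem hrH hzH)

end

end Cfsg.Agent.Co3Mult
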