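import Cfsg.Agent.Lib.Co3Mult.Lattice
import Cfsg.Agent.Lib.LeechCount.McLData
import Cfsg.Agent.Lib.LeechCount.Co3Group

/-!
Automorphisms fixing the vector from integer matrices, eight times their values, checked through rows packed into integers.
-/

set_option autoImplicit false

namespace Cfsg.Agent.Co3Mult

open Cfsg Cfsg.Agent.Leech Cfsg.Agent.LeechCount

noncomputable section

attribute [local irreducible] normFS dotFS

/-- The entries packed in base 4096, signed. -/
def pk : List ℤ → ℤ
  | [] => 0
  | a :: l => a + 4096 * pk l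

/-- The columns packed. -/
def colsX : List (List ℤ) → List ℤ
  | [] => List.replicate 24 0
  | r :: rs => List.zipWith (fun a b => a + 4096 * b) r (colsX rs)

/-- The entries are at most `c` in absolute value. -/
def bnd (c : ℤ) (l : List ℤ) : Bool := l.all fun a => decide (-c ≤ a) && decide (a ≤ c)

theorem dotL_zipWith : ∀ v r s : List ℤ, r.length = s.length →
    dotL v (List.zipWith (fun a b => a + 4096 * b) r s) = dotL v r + 4096 * dotL v s
  | [], _, _, _ => by simp [dotL]
  | _ :: _, [], [], _ => by simp [dotL]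
  | _ :: _, [], _ :: _, h => by simp at h
  | _ :: _, _ :: _, [], h => by simp at h
  | x :: v, a :: r, b :: s, h => by
    have ih := dotL_zipWith v r s (by simpa using h)
    simp only [dotL, List.zipWith_cons_cons, List.sum_cons] at ih ⊢
    rw [ih]; ring

theorem dotL_zero : ∀ (v : List ℤ) (n : ℕ), dotL v (List.replicate n 0) = 0
  | [], _ => by simp [dotL]
  | _ :: _, 0 => by simp [dotL]
  | x :: v, n + 1 => by
    have := dotL_zero v n
    simp only [dotL, List.replicate_succ, List.zipWith_cons_cons, List.sum_cons] at this ⊢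
    rw [this]; ring

theorem colsX_length : ∀ rows : List (List ℤ), (∀ r ∈ rows, r.length = 24) → (colsX rows).length = 24
  | [], _ => by simp [colsX]
  | r :: rs, h => by
    simp [colsX, h r List.mem_cons_self, colsX_length rs fun x hx => h x (List.mem_cons_of_mem _ hx)]

theorem pk_map (v : List ℤ) : ∀ rows : List (List ℤ), (∀ r ∈ rows, r.length = 24) →
    pk (rows.map (dotL v)) = dotL v (colsX rows)
  | [], _ => (dotL_zero v 24).symm
  | r :: rs, h => by
    have hl : ∀ x ∈ rs, x.length = 24 := fun x hx => h x (List.mem_cons_of_mem _ hx)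
    rw [List.map_cons, pk, pk_map v rs hl, colsX,
      dotL_zipWith v r _ ((h r List.mem_cons_self).trans (colsX_length rs hl).symm)]

theorem pk_inj : ∀ a b : List ℤ, a.length = b.length → bnd 2000 a = true → bnd 2000 b = true →
    pk a = pk b → a = b
  | [], [], _, _, _, _ => rfl
  | [], _ :: _, h, _, _, _ => by simp at h
  | _ :: _, [], h, _, _, _ => by simp at h
  | x :: a, y :: b, h, ha, hb, he => by
    simp only [bnd, List.all_cons, Bool.and_eq_true, decide_eq_true_eq] at ha hb
    simp only [pk] at he
    have hxy : x = y := by omega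
    subst hxy
    rw [pk_inj a b (by simpa using h) ha.2 hb.2 (by omega)]

theorem dotL_bound : ∀ v r : List ℤ, bnd 8 v = true → bnd 8 r = true →
    -(64 * (v.length : ℤ)) ≤ dotL v r ∧ dotL v r ≤ 64 * (v.length : ℤ)
  | [], _, _, _ => by simp [dotL]
  | x :: v, [], _, _ => by simp [dotL]; omega
  | x :: v, y :: r, hv, hr => by
    simp only [bnd, List.all_cons, Bool.and_eq_true, decide_eq_true_eq] at hv hr
    obtain ⟨h1, h2⟩ := dotL_bound v r hv.2 hr.2
    simp only [dotL, List.zipWith_cons_cons, List.sum_cons, List.length_cons] at h1 h2 ⊢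
    push_cast
    have : -64 ≤ x * y ∧ x * y ≤ 64 := by constructor <;> nlinarith
    omega

/-- The product of a matrix and a vector. -/
def matT (rows : List (List ℤ)) (x : Vec) : Vec :=
  fun i => dotInt x (vecOf (rows.getD (Golay24.idx i).val []))

/-- A list of 24 rows of 24 small entries. -/
def shapeM (rows : List (List ℤ)) : Bool :=
  rows.length == 24 && rows.all (fun r => r.length == 24 && bnd 8 r)

theorem shapeM_spec {rows : List (List ℤ)} (h : shapeM rows = true) :
    rows.length = 24 ∧ ∀ r ∈ rows, r.length = 24 ∧ bnd 8 r = true := by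
  simpa [shapeM] using h

theorem shapeM_row {rows : List (List ℤ)} (h : shapeM rows = true) {j : ℕ} (hj : j < 24) :
    (rows.getD j []).length = 24 ∧ bnd 8 (rows.getD j []) = true := by
  obtain ⟨h1, h2⟩ := shapeM_spec h
  rw [List.getD_eq_getElem _ _ (by omega)]
  exact h2 _ (List.getElem_mem _)

/-- A packed equation gives the product. -/
theorem matT_of_pk {rows : List (List ℤ)} (hR : shapeM rows = true) {v t : List ℤ} (hv : v.length = 24)
    (hvb : bnd 8 v = true) (ht : t.length = 24) (htb : bnd 2000 t = true)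
    (h : dotL v (colsX rows) = pk t) : matT rows (vecOf v) = vecOf t := by
  obtain ⟨h1, h2⟩ := shapeM_spec hR
  have e : rows.map (dotL v) = t := pk_inj _ _ (by simp [h1, ht]) (by
    simp only [bnd, List.all_map, List.all_eq_true, Function.comp_apply, Bool.and_eq_true, decide_eq_true_eq]
    intro r hr
    have := dotL_bound v r hvb (h2 r hr).2
    rw [hv] at this
    omega) htb (by rw [pk_map v rows fun r hr => (h2 r hr).1, h])
  funext i
  have hi : (Golay24.idx i).val < rows.length := by rw [h1]; exact (Golay24.idx i).isLt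
  rw [← e]
  show dotInt _ (vecOf (rows.getD _ [])) = (rows.map (dotL v)).getD _ 0
  rw [List.getD_eq_getElem rows _ hi, List.getD_eq_getElem _ _ (by simpa using hi), List.getElem_map,
    dot_vecOf hv (h2 _ (List.getElem_mem _)).1]

theorem matT_add (rows : List (List ℤ)) (x y : Vec) : matT rows (x + y) = matT rows x + matT rows y := by
  funext i
  simp [matT, dotInt, add_mul, Finset.sum_add_distrib]

theorem matT_smul (rows : List (List ℤ)) (c : ℤ) (x : Vec) : matT rows (c • x) = c • matT rows x := by
  funext i
  simp only [matT, dotInt, Pi.smul_apply, smul_eq_mul, Finset.mul_sum, mul_assoc]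

/-- The transposition. -/
def transOk (R RT : List (List ℤ)) : Bool :=
  (List.range 24).all fun i => (List.range 24).all fun j => (R.getD i []).getD j 0 == (RT.getD j []).getD i 0

theorem matT_adj {R RT : List (List ℤ)} (h : transOk R RT = true) (x y : Vec) :
    dotInt (matT R x) y = dotInt x (matT RT y) := by
  simp only [transOk, List.all_eq_true, List.mem_range, beq_iff_eq] at h
  simp only [dotInt, matT, Finset.sum_mul, Finset.mul_sum]
  rw [Finset.sum_comm]
  refine Finset.sum_congr rfl fun j _ => Finset.sum_congr rfl fun i _ => ?_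
  have := h _ (Golay24.idx i).isLt _ (Golay24.idx j).isLt
  simp only [vecOf]
  rw [this]; ring

/-- The unit list times 64. -/
def unit64 (j : ℕ) : List ℤ := (List.range 24).map fun i => if i = j then 64 else 0

/-- The columns of `R` are orthogonal of square 64. -/
def orthOk (RT : List (List ℤ)) (cXT : List ℤ) : Bool :=
  (List.range 24).all fun j => dotL (RT.getD j []) cXT == pk (unit64 j)

theorem matT_inv {R RT : List (List ℤ)} (hT : shapeM RT = true) (htr : transOk R RT = true)
    (ho : orthOk RT (colsX RT) = true) (x : Vec) : matT RT (matT R x) = (64 : ℤ) • x := by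
  simp only [orthOk, List.all_eq_true, List.mem_range, beq_iff_eq] at ho
  funext i
  have hj := (Golay24.idx i).isLt
  have e := matT_of_pk hT (shapeM_row hT hj).1 (shapeM_row hT hj).2 (t := unit64 (Golay24.idx i).val)
    (by simp [unit64])
    (by simp only [bnd, unit64, List.all_map, List.all_eq_true, Function.comp_apply]; intro a _; split <;> decide)
    (ho _ hj)
  rw [unit64, vecOf_range] at e
  show dotInt (matT R x) _ = _
  rw [matT_adj htr, e, dotInt, Finset.sum_eq_single i]
  · simp [mul_comm]
  · intro k _ hk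
    rw [if_neg fun e => hk (Golay24.ptEquiv.injective (Fin.ext e : Golay24.idx k = Golay24.idx i)), mul_zero]
  · intro h; exact absurd (Finset.mem_univ i) h

/-- An element: matrix, transpose, packed columns of both, permutation of the points. -/
structure Elt where
  /-- rows -/
  R : List (List ℤ)
  /-- columns -/
  RT : List (List ℤ)
  /-- packed columns -/
  cX : List ℤ
  /-- packed rows -/
  cXT : List ℤ
  /-- permutation -/
  P : ℕ

/-- The image of a point under a packed permutation. -/
def app (P x : ℕ) : ℕ := Nat.shiftRight P (10 * x) % 1024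

/-- The check of an element against the table of points. -/
def eltOk (px : ℕ → ℤ) (pts : ℕ → List ℤ) (e : Elt) : Bool :=
  shapeM e.R && shapeM e.RT && (colsX e.R == e.cX) && (colsX e.RT == e.cXT) && transOk e.R e.RT &&
  orthOk e.RT e.cXT && orthOk e.R e.cX &&
  (dotL uList e.cX == pk (uList.map fun a => 8 * a)) &&
  ((List.range 552).all fun k => Nat.blt (app e.P k) 552 && dotL (pts k) e.cX == 8 * px (app e.P k)) &&
  (latOk 0 (e.RT.getD 23 []) || latOk 1 (e.RT.getD 23 [])) &&
  (latOk 0 (e.R.getD 23 []) || latOk 1 (e.R.getD 23 []))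

/-- A combination of the points and the vector with 8 at the last place. -/
def comb (pts : ℕ → List ℤ) : List (ℕ × ℤ) → List ℤ
  | [] => List.replicate 24 0
  | (k, c) :: l =>
    List.zipWith (fun a b => c * a + b)
      (bif Nat.blt k 552 then pts k else (List.range 24).map fun j => if j = 23 then 8 else 0) (comb pts l)

/-- The checks on the table. -/
structure PtsOk (pts : ℕ → List ℤ) (px : ℕ → ℤ) (combos : List (List (ℕ × ℤ))) : Prop where
  table : (List.range 552).map pts = list552
  packed : ((List.range 552).all fun k => pk (pts k) == px k && bnd 8 (pts k)) = true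
  gens : combos.map (comb pts) = genList

variable {pts : ℕ → List ℤ} {px : ℕ → ℤ} {combos : List (List (ℕ × ℤ))}

theorem PtsOk.mem (h : PtsOk pts px combos) {k : ℕ} (hk : k < 552) : pts k ∈ list552 :=
  h.table ▸ List.mem_map.2 ⟨k, List.mem_range.2 hk, rfl⟩

theorem PtsOk.inj (h : PtsOk pts px combos) {k l : ℕ} (hk : k < 552) (hl : l < 552)
    (e : vecOf (pts k) = vecOf (pts l)) : k = l :=
  List.inj_on_of_nodup_map (h.table.symm ▸ list552_check.2.1) (List.mem_range.2 hk) (List.mem_range.2 hl)
    (vecOf_inj (list552_mem _ (h.mem hk)).2.1 (list552_mem _ (h.mem hl)).2.1 e)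

theorem vecOf_zipWith (c : ℤ) {a b : List ℤ} (ha : a.length = 24) (hb : b.length = 24) :
    vecOf (List.zipWith (fun x y => c * x + y) a b) = c • vecOf a + vecOf b := by
  funext i
  have h := (Golay24.idx i).isLt
  simp only [vecOf, Pi.add_apply, Pi.smul_apply, smul_eq_mul]
  rw [List.getD_eq_getElem _ _ (by simp [ha, hb]), List.getD_eq_getElem _ _ (by omega),
    List.getD_eq_getElem _ _ (by omega), List.getElem_zipWith]

theorem e8_list : vecOf ((List.range 24).map fun j => if j = 23 then (8 : ℤ) else 0) = e8 none := by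
  funext x; revert x; decide +kernel

theorem comb_mem (h : PtsOk pts px combos) {H : AddSubgroup Vec} (hp : ∀ k < 552, vecOf (pts k) ∈ H)
    (h8 : e8 none ∈ H) : ∀ l, (comb pts l).length = 24 ∧ vecOf (comb pts l) ∈ H
  | [] => by
    refine ⟨by simp [comb], ?_⟩
    have : vecOf (List.replicate 24 (0 : ℤ)) = 0 := by funext i; revert i; decide +kernel
    rw [comb, this]; exact zero_mem _
  | (k, c) :: l => by
    obtain ⟨hl, hm⟩ := comb_mem h hp h8 l
    by_cases hk : k < 552
    · have hb : Nat.blt k 552 = true := by simpa [Nat.blt_eq] using hk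
      have hlen := (list552_mem _ (h.mem hk)).2.1
      rw [comb, hb, cond_true]
      exact ⟨by simp [hlen, hl], by rw [vecOf_zipWith c hlen hl]; exact add_mem (zsmul_mem (hp k hk) _) hm⟩
    · have hb : Nat.blt k 552 = false := Bool.eq_false_iff.2 fun e => hk (by simpa [Nat.blt_eq] using e)
      rw [comb, hb, cond_false]
      exact ⟨by simp [hl], by
        rw [vecOf_zipWith c (by simp) hl, e8_list]; exact add_mem (zsmul_mem h8 _) hm⟩

theorem leech_le_pts (h : PtsOk pts px combos) {H : AddSubgroup Vec} (hp : ∀ k < 552, vecOf (pts k) ∈ H)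
    (h8 : e8 none ∈ H) : leechLattice ≤ H := by
  refine leech_le fun l hl => ?_
  rw [← h.gens, List.mem_map] at hl
  obtain ⟨c, -, rfl⟩ := hl
  exact (comb_mem h hp h8 c).2

/-- The vectors whose images are eight times lattice vectors. -/
def preLat (R : List (List ℤ)) : AddSubgroup Vec where
  carrier := {x | ∃ y ∈ leechLattice, matT R x = (8 : ℤ) • y}
  zero_mem' := ⟨0, zero_mem _, by funext i; simp [matT, dotInt]⟩
  add_mem' := fun ⟨y, hy, e⟩ ⟨z, hz, e'⟩ => ⟨y + z, add_mem hy hz, by rw [matT_add, e, e', smul_add]⟩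
  neg_mem' := fun {x} ⟨y, hy, e⟩ => ⟨-y, neg_mem hy, by
    rw [show -x = (-1 : ℤ) • x by simp, matT_smul, e]; simp⟩

theorem preLat_e8 {R RT : List (List ℤ)} (htr : transOk R RT = true)
    (h : (latOk 0 (RT.getD 23 []) || latOk 1 (RT.getD 23 [])) = true) : e8 none ∈ preLat R := by
  refine ⟨vecOf (RT.getD 23 []), ?_, ?_⟩
  · rcases Bool.or_eq_true_iff.1 h with e | e <;> exact mem_of_latOk e
  · simp only [transOk, List.all_eq_true, List.mem_range, beq_iff_eq] at htr
    funext i
    have := htr _ (Golay24.idx i).isLt 23 (by norm_num)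
    simp only [matT, dotInt, e8, ite_mul, zero_mul, Finset.sum_ite_eq', Finset.mem_univ, if_true,
      Pi.smul_apply, smul_eq_mul, vecOf]
    rw [← this]
    rfl

theorem eight_inj {x y : Vec} (h : (8 : ℤ) • x = (8 : ℤ) • y) : x = y := by
  funext i; have := congrFun h i; simp only [Pi.smul_apply, smul_eq_mul] at this; omega

/-- The vector as a lattice element. -/
def uV : ↥leechLattice := ⟨Spor.vecV, vecV_leech⟩

/-- The stabiliser of the vector. -/
abbrev G3 : Subgroup ↥Co0 := MulAction.stabilizer ↥Co0 uV

theorem exists_elt (h : PtsOk pts px combos) {e : Elt} (he : eltOk px pts e = true) :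
    ∃ g : G3, ∀ k < 552, app e.P k < 552 ∧ ap (g : ↥Co0) (vecOf (pts k)) = vecOf (pts (app e.P k)) := by
  classical
  simp only [eltOk, Bool.and_eq_true, beq_iff_eq, List.all_eq_true, List.mem_range, Nat.blt_eq] at he
  obtain ⟨⟨⟨⟨⟨⟨⟨⟨⟨⟨hR, hT⟩, hcX⟩, hcT⟩, htr⟩, ho⟩, ho'⟩, hu⟩, hpts⟩, hl⟩, hl'⟩ := he
  rw [← hcX] at hu ho' hpts
  rw [← hcT] at ho
  have htr' : transOk e.RT e.R = true := by
    simp only [transOk, List.all_eq_true, List.mem_range, beq_iff_eq] at htr ⊢
    exact fun i hi j hj => (htr j hj i hi).symm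
  have hpk := h.packed
  simp only [List.all_eq_true, List.mem_range, Bool.and_eq_true, beq_iff_eq] at hpk
  have hp : ∀ k < 552, matT e.R (vecOf (pts k)) = (8 : ℤ) • vecOf (pts (app e.P k)) := by
    intro k hk
    obtain ⟨hlt, heq⟩ := hpts k hk
    have hlen := (list552_mem _ (h.mem hlt)).2.1
    have hb := (hpk _ hlt).2
    have hscale : ∀ l : List ℤ, pk (l.map fun a => 8 * a) = 8 * pk l := fun l => by
      induction l with
      | nil => rfl
      | cons a l ih => simp [pk, ih]; ring
    rw [matT_of_pk hR (list552_mem _ (h.mem hk)).2.1 (hpk k hk).2 (t := (pts (app e.P k)).map fun a => 8 * a)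
      (by simp [hlen])
      (by
        simp only [bnd, List.all_map, List.all_eq_true, Function.comp_apply, Bool.and_eq_true,
          decide_eq_true_eq] at hb ⊢
        intro a ha; have := hb a ha; omega)
      (by rw [heq, hscale, (hpk _ hlt).1])]
    funext i
    simp [vecOf, List.getD_eq_getElem?_getD]
    cases (pts (app e.P k))[(Golay24.idx i).val]? <;> simp
  have hinv := matT_inv hT htr ho
  have hinv' := matT_inv hR htr' ho'
  have hP : ∀ k < 552, ∀ l < 552, app e.P k = app e.P l → k = l := fun k hk l hl e' => by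
    refine h.inj hk hl ?_
    have q : matT e.R (vecOf (pts k)) = matT e.R (vecOf (pts l)) := by rw [hp k hk, hp l hl, e']
    have := congrArg (matT e.RT) q
    rw [hinv, hinv] at this
    funext i; have := congrFun this i; simp only [Pi.smul_apply, smul_eq_mul] at this; omega
  let F : Fin 552 → Fin 552 := fun k => ⟨app e.P k, (hpts k k.2).1⟩
  have hF : Function.Surjective F := Finite.injective_iff_surjective.1 fun a b hab =>
    Fin.ext (hP a a.2 b b.2 (congrArg Fin.val hab))
  have key : ∀ x ∈ leechLattice, ∃ y ∈ leechLattice, matT e.R x = (8 : ℤ) • y :=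
    leech_le_pts h (H := preLat e.R) (fun k hk => ⟨_, (list552_mem _ (h.mem (hpts k hk).1)).1, hp k hk⟩)
      (preLat_e8 htr hl)
  have key' : ∀ x ∈ leechLattice, ∃ y ∈ leechLattice, matT e.RT x = (8 : ℤ) • y := by
    refine leech_le_pts h (H := preLat e.RT) (fun k hk => ?_) (preLat_e8 htr' hl')
    obtain ⟨j, hj⟩ := hF ⟨k, hk⟩
    refine ⟨vecOf (pts j), (list552_mem _ (h.mem j.2)).1, ?_⟩
    have := congrArg (matT e.RT) (hp j j.2)
    rw [hinv, matT_smul, show app e.P j = k from congrArg Fin.val hj] at this
    apply eight_inj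
    rw [← this, smul_smul]; norm_num
  let f : Vec → Vec := fun x i => matT e.R x i / 8
  let f' : Vec → Vec := fun x i => matT e.RT x i / 8
  have hfe : ∀ {M : List (List ℤ)} {x y : Vec}, matT M x = (8 : ℤ) • y → (fun i => matT M x i / 8) = y :=
    fun {M x y} e' => funext fun i => by rw [e']; simp
  have hf : ∀ x ∈ leechLattice, f x ∈ leechLattice ∧ matT e.R x = (8 : ℤ) • f x := fun x hx => by
    obtain ⟨y, hy, e'⟩ := key x hx
    rw [show f x = y from hfe e']; exact ⟨hy, e'⟩
  have hf' : ∀ x ∈ leechLattice, f' x ∈ leechLattice ∧ matT e.RT x = (8 : ℤ) • f' x := fun x hx => by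
    obtain ⟨y, hy, e'⟩ := key' x hx
    rw [show f' x = y from hfe e']; exact ⟨hy, e'⟩
  have h1 : ∀ x ∈ leechLattice, f' (f x) = x := fun x hx => by
    have := hinv x
    rw [(hf x hx).2, matT_smul, (hf' _ (hf x hx).1).2, smul_smul] at this
    funext i; have := congrFun this i; simp only [Pi.smul_apply, smul_eq_mul] at this; omega
  have h2 : ∀ x ∈ leechLattice, f (f' x) = x := fun x hx => by
    have := hinv' x
    rw [(hf' x hx).2, matT_smul, (hf _ (hf' x hx).1).2, smul_smul] at this
    funext i; have := congrFun this i; simp only [Pi.smul_apply, smul_eq_mul] at this; omega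
  have hadd : ∀ x ∈ leechLattice, ∀ y ∈ leechLattice, f (x + y) = f x + f y := fun x hx y hy => by
    apply eight_inj
    rw [← (hf _ (add_mem hx hy)).2, matT_add, (hf x hx).2, (hf y hy).2, smul_add]
  have hnorm : ∀ x ∈ leechLattice, sqNorm (f x) = sqNorm x := fun x hx => by
    have h' := matT_adj htr x (matT e.R x)
    rw [hinv, (hf x hx).2] at h'
    simp only [dotInt, Pi.smul_apply, smul_eq_mul] at h'
    simp only [sqNorm, pow_two]
    have a1 : ∑ i, 8 * f x i * (8 * f x i) = 64 * ∑ i, f x i * f x i := by
      rw [Finset.mul_sum]; exact Finset.sum_congr rfl fun i _ => by ring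
    have a2 : ∑ i, x i * (64 * x i) = 64 * ∑ i, x i * x i := by
      rw [Finset.mul_sum]; exact Finset.sum_congr rfl fun i _ => by ring
    omega
  let g0 : ↥Co0 := mkCo0 f f' (fun x hx => (hf x hx).1) (fun x hx => (hf' x hx).1) h1 h2 hadd hnorm
  have hap : ∀ x ∈ leechLattice, ap g0 x = f x := fun x hx => ap_mkCo0 _ _ _ _ _ _ _ _ hx
  have hg : g0 ∈ G3 := by
    rw [MulAction.mem_stabilizer_iff, smul_eq_iff_ap]
    show ap g0 Spor.vecV = Spor.vecV
    rw [hap _ vecV_leech]
    apply hfe
    rw [← uList_eq, matT_of_pk hR uList_length (by decide +kernel) (t := uList.map fun a => 8 * a)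
      (by simp [uList_length]) (by decide +kernel) hu]
    funext i; revert i; decide +kernel
  refine ⟨⟨g0, hg⟩, fun k hk => ⟨(hpts k hk).1, ?_⟩⟩
  show ap g0 _ = _
  rw [hap _ (list552_mem _ (h.mem hk)).1]
  exact hfe (hp k hk)

end

end Cfsg.Agent.Co3Mult
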