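import Cfsg.Agent.Lib.Co3Mult.CheckPts
import Cfsg.Agent.Lib.Co3Mult.CheckElA
import Cfsg.Agent.Lib.Co3Mult.CheckElB
import Cfsg.Agent.Lib.Co3Mult.CheckElC
import Cfsg.Agent.Lib.Co3Mult.CheckElD
import Cfsg.Agent.Lib.Co3Mult.CheckCert2
import Cfsg.Agent.Lib.Co3Mult.CheckCert3
import Cfsg.Agent.Lib.Co3Mult.CheckCert5
import Cfsg.Agent.Lib.SchurSplit.SmallMain

/-!
The Schur multiplier of the stabiliser of a vector of norm 48 is trivial.
-/

set_option autoImplicit false
set_option linter.style.haveILetI false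

namespace Cfsg.Agent.Co3Mult

open Cfsg Cfsg.Agent.Leech Cfsg.Agent.LeechCount

noncomputable section

attribute [local irreducible] normFS dotFS eltOk thePts thePx

theorem els_ok : ∀ e ∈ theEls, eltOk thePx thePts e = true := by
  intro e he
  simp only [theEls, List.mem_cons, List.not_mem_nil, or_false] at he
  rcases he with rfl | rfl | rfl | rfl | rfl | rfl | rfl | rfl | rfl | rfl | rfl | rfl | rfl | rfl | rfl | rfl |
    rfl | rfl | rfl | rfl | rfl | rfl | rfl | rfl | rfl | rfl | rfl | rfl | rfl | rfl | rfl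
  exacts [el0_ok, el1_ok, el2_ok, el3_ok, el4_ok, el5_ok, el6_ok, el7_ok, el8_ok, el9_ok, el10_ok, el11_ok,
    el12_ok, el13_ok, el14_ok, el15_ok, el16_ok, el17_ok, el18_ok, el19_ok, el20_ok, el21_ok, el22_ok, el23_ok,
    el24_ok, el25_ok, el26_ok, el27_ok, el28_ok, el29_ok, el30_ok]

theorem els_rep : ∀ P ∈ theEls.map Elt.P, ∃ g : G3, Rep thePts (app P) g := by
  intro P hP
  obtain ⟨e, he, rfl⟩ := List.mem_map.1 hP
  exact exists_elt ptsOk (els_ok e he)

theorem ker_exp {E : Type} [Group E] {p : ℕ} (π : E →* G3) (hcard : Nat.card π.ker = p) :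
    ∀ z ∈ π.ker, z ^ p = 1 := fun z hz => by
  have h := pow_card_eq_one' (x := (⟨z, hz⟩ : π.ker))
  rw [hcard] at h
  simpa [Subtype.ext_iff] using h

theorem noExt_of_cert (C : WordCert.Cert) (p : ℕ) (hp : p.Prime) (gi ci base pos : List ℕ) (width S INV : ℕ)
    (hin : (gi ++ ci).all (fun i => Nat.blt i (theEls.map Elt.P).length) = true)
    (hshape : C.shapeOk = true) (hlin : C.linOk = true)
    (hgr : groupOk C (gi.map fun i => (theEls.map Elt.P).getD i 0) (ci.map fun i => (theEls.map Elt.P).getD i 0)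
      theSel = true)
    (hd : distinctOk C (gi.map fun i => (theEls.map Elt.P).getD i 0) base width S INV pos = true)
    (hn : C.n = p ∧ Nat.Coprime C.n (495766656000 / C.p ^ C.m)) : SchurSplit.NoExt G3 p := by
  intro E _ _ π hπ hc hcard hdd
  haveI := finite_G3
  have h := cert_bound ptsOk C (theEls.map Elt.P) gi ci theD theSel base pos theSc width S INV els_rep hin span_ok
    hshape hlin hgr hd hn.2 π hπ hc hdd (by rw [hn.1]; exact ker_exp π hcard)
  rw [h, Subgroup.card_bot] at hcard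
  exact hp.one_lt.ne hcard

theorem noExt_all : ∀ p, p.Prime → SchurSplit.NoExt G3 p := by
  intro p hp
  haveI := finite_G3
  by_cases h2 : p = 2
  · subst h2; exact noExt_of_cert cert2 2 hp gi2 ci2 base2 pos2 20 tabS2 tabI2 range2 shape2 lin2 group2 distinct2 consts2
  by_cases h3 : p = 3
  · subst h3; exact noExt_of_cert cert3 3 hp gi3 ci3 base3 pos3 20 tabS3 tabI3 range3 shape3 lin3 group3 distinct3 consts3
  by_cases h5 : p = 5
  · subst h5; exact noExt_of_cert cert5 5 hp gi5 ci5 base5 pos5 10 tabS5 tabI5 range5 shape5 lin5 group5 distinct5 consts5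
  refine SchurSplit.noExt_of_sq_not_dvd hp fun hsq => ?_
  rw [card_G3, show (495766656000 : ℕ) = 2 ^ 10 * (3 ^ 7 * (5 ^ 3 * (7 * (11 * 23)))) by norm_num] at hsq
  have hcop : ∀ q k : ℕ, q.Prime → p ≠ q → Nat.Coprime (p ^ 2) (q ^ k) := fun q k hq hne =>
    ((Nat.coprime_primes hp hq).2 hne).pow 2 k
  have e1 := (hcop 2 10 Nat.prime_two h2).dvd_of_dvd_mul_left hsq
  have e2 := (hcop 3 7 Nat.prime_three h3).dvd_of_dvd_mul_left e1
  have e3 := (hcop 5 3 Nat.prime_five h5).dvd_of_dvd_mul_left e2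
  have hle : p ^ 2 ≤ 1771 := Nat.le_of_dvd (by norm_num) (e3.trans (by norm_num))
  have hp43 : p < 43 := by nlinarith
  interval_cases p <;> norm_num at *

/-- The frozen group as the stabiliser. -/
def co3Equiv : ↥Spor.Co3 ≃* ↥G3 :=
  (Subgroup.subgroupOfEquivOfLe (show Spor.Co3 ≤ Co0 from inf_le_left)).symm.trans
    (MulEquiv.subgroupCongr (by
      ext g
      constructor
      · intro h
        exact (Subgroup.mem_inf.1 (Subgroup.mem_subgroupOf.1 h)).2
      · intro h
        exact Subgroup.mem_subgroupOf.2 (Subgroup.mem_inf.2 ⟨g.2, h⟩)))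

theorem multiplier : HasCyclicSchurMultiplier ↥Spor.Co3 1 := by
  haveI := finite_G3
  haveI : Finite ↥Spor.Co3 := Finite.of_equiv _ co3Equiv.symm.toEquiv
  refine SchurSplit.trivial_of_noExt fun p hp E _ _ π hπ hc hcard hd => ?_
  let ρ : E →* G3 := co3Equiv.toMonoidHom.comp π
  have hk : ρ.ker = π.ker := by
    ext x
    show co3Equiv (π x) = 1 ↔ π x = 1
    exact map_eq_one_iff co3Equiv co3Equiv.injective
  exact noExt_all p hp E ρ (co3Equiv.surjective.comp hπ) (hk ▸ hc) (hk ▸ hcard) (hk ▸ hd)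

end

end Cfsg.Agent.Co3Mult
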